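import Cfsg.Agent.TwoGen81.CycFinal
import Mathlib.GroupTheory.Solvable

/-!
A group all of whose two-generated subgroups are solvable is solvable.
-/

set_option autoImplicit false
set_option linter.all false

open Subgroup

namespace Cfsg.Agent.TwoGen81

universe u

theorem isSolvable_of_pairs_aux : ∀ (k : ℕ) (G : Type u) [Group G] [Finite G], Nat.card G = k →
    (∀ a b : G, Group.IsSolvable ↥(closure ({a, b} : Set G))) → Group.IsSolvable G := by
  intro k
  induction k using Nat.strong_induction_on with
  | _ k IH =>
  intro G _ _ hk h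
  by_contra hns
  have hsub : ∀ H : Subgroup G, H ≠ ⊤ → Group.IsSolvable ↥H := by
    intro H hH
    have hlt : Nat.card ↥H < k := by
      rcases lt_or_eq_of_le (Nat.le_of_dvd Nat.card_pos (card_subgroup_dvd_card H)) with h1 | h1
      · exact hk ▸ h1
      · exact absurd (Subgroup.eq_top_of_card_eq H h1) hH
    refine IH _ hlt ↥H rfl fun a b => ?_
    have h2 : (closure ({a, b} : Set ↥H)).map H.subtype = closure ({(a : G), (b : G)} : Set G) := by
      rw [MonoidHom.map_closure]; simp [Set.image_pair]
    haveI := h (a : G) b
    have e := ((closure ({a, b} : Set ↥H)).equivMapOfInjective H.subtype H.subtype_injective)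
    rw [h2] at e
    exact Group.isSolvable_of_surjective (f := e.symm.toMonoidHom) e.symm.surjective
  have hnt : Nontrivial G := by
    by_contra hn
    rw [not_nontrivial_iff_subsingleton] at hn
    exact hns inferInstance
  have hsimple : IsSimpleGroup G := ⟨fun N hN => by
    by_contra hcon
    push Not at hcon
    obtain ⟨hb, ht⟩ := hcon
    haveI := hN
    haveI := hsub N ht
    have hlt : Nat.card (G ⧸ N) < k := by
      have h1 : 1 < Nat.card ↥N := (Subgroup.one_lt_card_iff_ne_bot N).mpr hb
      rw [← hk, Subgroup.card_eq_card_quotient_mul_card_subgroup N]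
      exact lt_mul_of_one_lt_right Nat.card_pos h1
    haveI : Group.IsSolvable (G ⧸ N) := IH _ hlt (G ⧸ N) rfl fun a b => by
      obtain ⟨a', rfl⟩ := QuotientGroup.mk'_surjective N a
      obtain ⟨b', rfl⟩ := QuotientGroup.mk'_surjective N b
      haveI := h a' b'
      have h2 : (closure ({a', b'} : Set G)).map (QuotientGroup.mk' N) =
          closure ({QuotientGroup.mk' N a', QuotientGroup.mk' N b'} : Set (G ⧸ N)) := by
        rw [MonoidHom.map_closure, Set.image_pair]
      rw [← h2]
      exact Group.isSolvable_of_surjective (f := (QuotientGroup.mk' N).subgroupMap (closure ({a', b'} : Set G)))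
        ((QuotientGroup.mk' N).subgroupMap_surjective _)
    exact hns (Group.isSolvable_of_ker_le_range N.subtype (QuotientGroup.mk' N) (by simp))⟩
  have hctx : Ctx G := ⟨hsimple, hns, hsub, fun a b hab => hns (by
    haveI := h a b
    have : Group.IsSolvable ↥(⊤ : Subgroup G) := hab ▸ (inferInstance : Group.IsSolvable ↥(closure ({a, b} : Set G)))
    exact Group.isSolvable_of_surjective (f := (topEquiv (G := G)).toMonoidHom) (topEquiv (G := G)).surjective)⟩
  exact cyclic_false hctx fun p hp h5 P => by
    haveI := Fact.mk hp
    exact isCyclic_sylow hctx h5 P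

theorem isSolvable_of_pairs {G : Type u} [Group G] [Finite G]
    (h : ∀ a b : G, Group.IsSolvable ↥(closure ({a, b} : Set G))) : Group.IsSolvable G :=
  isSolvable_of_pairs_aux (Nat.card G) G rfl h

end Cfsg.Agent.TwoGen81
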