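import Cfsg.Agent.TwoGen81.Main
import Cfsg.Agent.PF14.Compose
import Cfsg.Agent.FGS77.SolvSup

/-!
A group all of whose solubilizers are subgroups is solvable.
-/

set_option autoImplicit false
set_option linter.all false

open Subgroup

namespace Cfsg.Agent.TwoGen81

universe u

/-- Every solubilizer is a subgroup. -/
def SolP (G : Type u) [Group G] : Prop :=
  ∀ x : G, ∃ H : Subgroup G, ∀ y : G, y ∈ H ↔ Group.IsSolvable ↥(closure ({x, y} : Set G))

theorem isSolvable_top_iff {G : Type u} [Group G] :
    Group.IsSolvable ↥(⊤ : Subgroup G) → Group.IsSolvable G := fun h =>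
  haveI := h
  Group.isSolvable_of_surjective (f := (topEquiv (G := G)).toMonoidHom) (topEquiv (G := G)).surjective

/-- Two involutions generate a solvable group. -/
theorem isSolvable_closure_involutions {G : Type u} [Group G] {t v : G} (ht : t * t = 1) (hv : v * v = 1) :
    Group.IsSolvable ↥(closure ({t, v} : Set G)) := by
  set A := zpowers (t * v) with hA
  set T := zpowers t with hT
  have hinv : (t * v)⁻¹ = v * t := by
    rw [mul_inv_rev, inv_eq_of_mul_eq_one_right ht, inv_eq_of_mul_eq_one_right hv]
  have hn : T ≤ normalizer (A : Set G) := by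
    rw [hT, zpowers_le]
    have h1 : ∀ x ∈ A, t * x * t⁻¹ ∈ A := by
      intro x hx
      obtain ⟨i, rfl⟩ := mem_zpowers_iff.mp hx
      rw [← conj_zpow, show t * (t * v) * t⁻¹ = (t * v)⁻¹ by
        rw [hinv, ← mul_assoc, ht, one_mul, inv_eq_of_mul_eq_one_right ht]]
      exact zpow_mem (inv_mem (mem_zpowers _)) i
    refine Coprime.mem_normalizer_of_le_iff h1 fun x hx => ?_
    have := h1 x hx
    rwa [inv_eq_of_mul_eq_one_right ht] at this ⊢
  have hle : closure ({t, v} : Set G) ≤ A ⊔ T := by
    refine (closure_le _).mpr ?_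
    rintro x (rfl | rfl)
    · exact mem_sup_right (mem_zpowers _)
    · have h2 : t * (t * x) = x := by rw [← mul_assoc, ht, one_mul]
      rw [← h2]
      exact mul_mem (mem_sup_right (mem_zpowers t)) (mem_sup_left (mem_zpowers _))
  exact Coprime.solvable_of_le hle
    (FGS77.isSolvable_sup_of_normalizes (isSolvable_zpowers _) (isSolvable_zpowers _) hn)

theorem isSolvable_of_solP_aux : ∀ (k : ℕ) (G : Type u) [Group G] [Finite G], Nat.card G = k →
    SolP G → Group.IsSolvable G := by
  intro k
  induction k using Nat.strong_induction_on with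
  | _ k IH =>
  intro G _ _ hk h
  by_contra hns
  have hsub : ∀ K : Subgroup G, K ≠ ⊤ → Group.IsSolvable ↥K := by
    intro K hK
    have hlt : Nat.card ↥K < k := by
      rcases lt_or_eq_of_le (Nat.le_of_dvd Nat.card_pos (card_subgroup_dvd_card K)) with h1 | h1
      · exact hk ▸ h1
      · exact absurd (Subgroup.eq_top_of_card_eq K h1) hK
    refine IH _ hlt ↥K rfl fun x => ?_
    obtain ⟨H, hH⟩ := h (x : G)
    refine ⟨H.subgroupOf K, fun y => ?_⟩
    rw [mem_subgroupOf, hH]
    have h2 : (closure ({x, y} : Set ↥K)).map K.subtype = closure ({(x : G), (y : G)} : Set G) := by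
      rw [MonoidHom.map_closure]; simp [Set.image_pair]
    have e := (closure ({x, y} : Set ↥K)).equivMapOfInjective K.subtype K.subtype_injective
    rw [h2] at e
    exact ⟨fun hs => haveI := hs
      Group.isSolvable_of_surjective (f := e.symm.toMonoidHom) e.symm.surjective,
      fun hs => haveI := hs
      Group.isSolvable_of_surjective (f := e.toMonoidHom) e.surjective⟩
  have hnt : Nontrivial G := by
    by_contra hn
    rw [not_nontrivial_iff_subsingleton] at hn
    exact hns inferInstance
  have hsimple : IsSimpleGroup G := ⟨fun N hN => by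
    by_contra hcon
    push Not at hcon
    obtain ⟨hb, ht⟩ := hcon
    haveI := hN
    haveI := hsub N ht
    have hlt : Nat.card (G ⧸ N) < k := by
      have h1 : 1 < Nat.card ↥N := (Subgroup.one_lt_card_iff_ne_bot N).mpr hb
      rw [← hk, Subgroup.card_eq_card_quotient_mul_card_subgroup N]
      exact lt_mul_of_one_lt_right Nat.card_pos h1
    haveI : Group.IsSolvable (G ⧸ N) := IH _ hlt (G ⧸ N) rfl fun xb => by
      obtain ⟨x, rfl⟩ := QuotientGroup.mk'_surjective N xb
      obtain ⟨H, hH⟩ := h x
      set π := QuotientGroup.mk' N with hπ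
      have h2 : ∀ y : G, (closure ({x, y} : Set G)).map π = closure ({π x, π y} : Set (G ⧸ N)) :=
        fun y => by rw [MonoidHom.map_closure, Set.image_pair]
      refine ⟨H.map π, fun yb => ⟨?_, fun hs => ?_⟩⟩
      · rintro ⟨y, hy, rfl⟩
        haveI := (hH y).mp hy
        rw [← h2]
        exact Group.isSolvable_of_surjective (f := π.subgroupMap (closure ({x, y} : Set G)))
          (π.subgroupMap_surjective _)
      · obtain ⟨y, rfl⟩ := QuotientGroup.mk'_surjective N yb
        refine mem_map_of_mem π ((hH y).mpr ?_)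
        set D0 := closure ({x, y} : Set G) with hD
        haveI : Group.IsSolvable ↥(D0.map π) := by rw [hD, h2]; exact hs
        refine Group.isSolvable_of_ker_le_range (Subgroup.inclusion (inf_le_left : D0 ⊓ N ≤ D0))
          (π.subgroupMap D0) (hG' := Coprime.solvable_of_le inf_le_right (hsub N ht)) ?_
        intro a ha
        have h3 : π (a : G) = 1 := congrArg Subtype.val (MonoidHom.mem_ker.mp ha)
        exact ⟨⟨a, a.2, (QuotientGroup.eq_one_iff _).mp h3⟩, rfl⟩
    exact hns (Group.isSolvable_of_ker_le_range N.subtype (QuotientGroup.mk' N) (by simp))⟩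
  -- an involution
  have heven : 2 ∣ Nat.card G := by
    by_contra h2
    exact hns (PF14.feitThompson.{u} G (Nat.odd_iff.mpr (by omega)))
  obtain ⟨t, ht⟩ := exists_prime_orderOf_dvd_card' 2 heven
  have ht2 : t * t = 1 := by
    have := pow_orderOf_eq_one t
    rwa [ht, pow_two] at this
  have ht1 : t ≠ 1 := fun h => by
    rw [h, orderOf_one] at ht
    exact absurd ht (by norm_num)
  have hgen : ∀ H : Subgroup G, (∀ g : G, g * t * g⁻¹ ∈ H) → H = ⊤ := by
    intro H hH
    haveI := hsimple
    have hle : Subgroup.normalClosure ({t} : Set G) ≤ H := by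
      refine (closure_le _).mpr fun a ha => ?_
      obtain ⟨b, hb, hab⟩ := Group.mem_conjugatesOfSet_iff.mp ha
      rw [Set.mem_singleton_iff] at hb
      subst hb
      obtain ⟨c, hc⟩ := isConj_iff.mp hab
      exact hc ▸ hH c
    rcases (inferInstance : (Subgroup.normalClosure ({t} : Set G)).Normal).eq_bot_or_eq_top with hb | hb
    · exact absurd (mem_bot.mp (hb ▸ subset_normalClosure (Set.mem_singleton t))) ht1
    · exact top_le_iff.mp (hb ▸ hle)
  have hinv : ∀ g : G, (g * t * g⁻¹) * (g * t * g⁻¹) = 1 := fun g => by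
    rw [show (g * t * g⁻¹) * (g * t * g⁻¹) = g * (t * t) * g⁻¹ by group, ht2, mul_one, mul_inv_cancel]
  have hall : ∀ s : G, s * s = 1 → ∀ y : G, Group.IsSolvable ↥(closure ({s, y} : Set G)) := by
    intro s hs y
    obtain ⟨H, hH⟩ := h s
    have htop := hgen H fun g => (hH _).mpr (isSolvable_closure_involutions hs (hinv g))
    exact (hH y).mp (htop ▸ mem_top y)
  refine hns (isSolvable_of_pairs fun x y => ?_)
  obtain ⟨H, hH⟩ := h x
  have htop := hgen H fun g => (hH _).mpr (by
    rw [Set.pair_comm]
    exact hall _ (hinv g) x)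
  exact (hH y).mp (htop ▸ mem_top y)

theorem isSolvable_of_solP {G : Type u} [Group G] [Finite G] (h : SolP G) : Group.IsSolvable G :=
  isSolvable_of_solP_aux (Nat.card G) G rfl h

end Cfsg.Agent.TwoGen81
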