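import Cfsg.Agent.LocalEven61.QdStability
import Cfsg.Agent.Lib.LinearGroup.Generation
import Cfsg.Agent.S1934
import Cfsg.Agent.PLocalB.CharPStable
import Cfsg.Agent.PLocalB.PStable
import Cfsg.Agent.Lib.Thompson.PSolvable
import Cfsg.Agent.Lib.Coprime.Generation
import Cfsg.Agent.OddLocal44.Stability

/-!
Two-generated subgroups in a minimal simple group: setting, relative cores, stability.
-/

set_option autoImplicit false
set_option linter.all false

open Subgroup
open scoped commutatorElement Pointwise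

namespace Cfsg.Agent.TwoGen81

variable {G : Type*} [Group G]

/-- A minimal simple group in which no two elements generate. -/
structure Ctx (G : Type*) [Group G] : Prop where
  simple : IsSimpleGroup G
  nonsolv : ¬ Group.IsSolvable G
  psolv : ∀ H : Subgroup G, H ≠ ⊤ → Group.IsSolvable ↥H
  pairs : ∀ a b : G, closure ({a, b} : Set G) ≠ ⊤

/-- `O_{p'}(L)` in the ambient group. -/
def OP (p : ℕ) (L : Subgroup G) : Subgroup G := (Cfsg.pPrimeCore p ↥L).map L.subtype

/-- `O_{p',p}(L)` in the ambient group. -/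
def OP2 (p : ℕ) (L : Subgroup G) : Subgroup G := (Cfsg.pPrimePCore p ↥L).map L.subtype

theorem OP_le (p : ℕ) (L : Subgroup G) : OP p L ≤ L := map_subtype_le _
theorem OP2_le (p : ℕ) (L : Subgroup G) : OP2 p L ≤ L := map_subtype_le _

theorem OP_le_OP2 (p : ℕ) (L : Subgroup G) : OP p L ≤ OP2 p L :=
  Subgroup.map_mono Thompson.pPrimeCore_le_pPrimePCore

theorem le_normalizer_map_normal (L : Subgroup G) (N : Subgroup ↥L) [N.Normal] :
    L ≤ normalizer ((N.map L.subtype : Subgroup G) : Set G) :=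
  Coprime.le_normalizer_of_conj_mem (fun a ha x hx => by
    obtain ⟨y, hy, rfl⟩ := hx
    exact ⟨⟨a, ha⟩ * y * ⟨a, ha⟩⁻¹, Subgroup.Normal.conj_mem inferInstance y hy _, rfl⟩)

theorem le_normalizer_OP (p : ℕ) (L : Subgroup G) : L ≤ normalizer ((OP p L : Subgroup G) : Set G) :=
  le_normalizer_map_normal L _

theorem le_normalizer_OP2 (p : ℕ) (L : Subgroup G) : L ≤ normalizer ((OP2 p L : Subgroup G) : Set G) :=
  le_normalizer_map_normal L _

theorem conj_mem_OP {p : ℕ} {L : Subgroup G} {a x : G} (ha : a ∈ L) (hx : x ∈ OP p L) :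
    a * x * a⁻¹ ∈ OP p L :=
  Coprime.conj_mem_of_mem_normalizer (le_normalizer_OP p L ha) hx

theorem zpowers_coprime_of_pgroup {p : ℕ} [Fact p.Prime] {A B : Subgroup G} [Finite G]
    (hA : IsPGroup p A) (hB : (Nat.card B).Coprime p) : (Nat.card A).Coprime (Nat.card B) := by
  obtain ⟨n, hn⟩ := IsPGroup.iff_card.mp hA
  rw [hn]
  exact (hB.symm).pow_left n

theorem isPGroup_zpowers {p n : ℕ} [Fact p.Prime] {x : G} (h : x ^ p ^ n = 1) :
    IsPGroup p (zpowers x) := by
  rintro ⟨y, k, rfl⟩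
  refine ⟨n, Subtype.ext ?_⟩
  show (x ^ k) ^ p ^ n = 1
  rw [← zpow_natCast, ← zpow_mul, mul_comm, zpow_mul, zpow_natCast, h, one_zpow]

theorem isSolvable_zpowers (x : G) : Group.IsSolvable ↥(zpowers x) :=
  Group.isSolvable_of_comm fun a b => mul_comm' a b

section Fin

variable [Finite G]

theorem OP_coprime (p : ℕ) [Fact p.Prime] (L : Subgroup G) : (Nat.card (OP p L)).Coprime p :=
  Thompson.card_pPrimeCore_coprime.coprime_dvd_left (card_map_dvd _ _)

theorem le_OP {p : ℕ} [Fact p.Prime] {L X : Subgroup G} (hXL : X ≤ L)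
    (hn : L ≤ normalizer (X : Set G)) (hc : (Nat.card X).Coprime p) : X ≤ OP p L := by
  intro x hx
  refine ⟨⟨x, hXL hx⟩, Thompson.le_pPrimeCore (N := X.subgroupOf L) ?_ ?_ hx, rfl⟩
  · exact normal_subgroupOf_of_le_normalizer hn
  · rwa [Nat.card_congr (subgroupOfEquivOfLe hXL).toEquiv]

theorem orderOf_coprime_of_mem {p : ℕ} {X : Subgroup G} (hc : (Nat.card X).Coprime p) {x : G}
    (hx : x ∈ X) : (orderOf x).Coprime p :=
  hc.coprime_dvd_left (Subgroup.orderOf_dvd_natCard X hx)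

/-- `p'`-elements of `O_{p',p}` lie in `O_{p'}`. -/
theorem mem_OP_of_coprime {p : ℕ} [Fact p.Prime] {L : Subgroup G} {x : G} (hx : x ∈ OP2 p L)
    (hc : (orderOf x).Coprime p) : x ∈ OP p L := by
  obtain ⟨y, hy, rfl⟩ := hx
  refine ⟨y, ?_, rfl⟩
  have hy' : QuotientGroup.mk' (Cfsg.pPrimeCore p ↥L) y ∈ Cfsg.pCore p _ := hy
  obtain ⟨k, hk⟩ := (Thompson.isPGroup_pCore (p := p)) ⟨_, hy'⟩
  have h1 : orderOf (QuotientGroup.mk' (Cfsg.pPrimeCore p ↥L) y) ∣ p ^ k :=
    orderOf_dvd_of_pow_eq_one (congrArg Subtype.val hk)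
  have h2 : orderOf (QuotientGroup.mk' (Cfsg.pPrimeCore p ↥L) y) ∣ orderOf y := orderOf_map_dvd _ y
  have h3 : (orderOf y).Coprime p := by
    rwa [show orderOf (L.subtype y) = orderOf y from
      orderOf_injective L.subtype L.subtype_injective y] at hc
  have := Nat.eq_one_of_dvd_coprimes (h3.pow_right k) h2 h1
  rwa [orderOf_eq_one_iff, QuotientGroup.mk'_apply, QuotientGroup.eq_one_iff] at this

theorem inf_OP2_le_OP {p : ℕ} [Fact p.Prime] {L X : Subgroup G} (hc : (Nat.card X).Coprime p)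
    (hX : X ≤ OP2 p L) : X ≤ OP p L := fun x hx => mem_OP_of_coprime (hX hx) (orderOf_coprime_of_mem hc hx)

/-- `⁅X, A⁆ ≤ O_{p'}(L)` for a `p'`-subgroup `X` of `L` normalised by `A ≤ O_{p',p}(L)`. -/
theorem commutator_le_OP_of_le {p : ℕ} [Fact p.Prime] {L X A : Subgroup G}
    (hXL : X ≤ L) (hc : (Nat.card X).Coprime p) (hA : A ≤ OP2 p L)
    (hAX : A ≤ normalizer (X : Set G)) : ⁅X, A⁆ ≤ OP p L := by
  refine inf_OP2_le_OP (hc.coprime_dvd_left (card_dvd_of_le (Coprime.commutator_le_of_le_normalizer hAX))) ?_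
  refine Subgroup.commutator_le.mpr fun x hx a ha => ?_
  exact mul_mem (Coprime.conj_mem_of_mem_normalizer (le_normalizer_OP2 p L (hXL hx)) (hA ha))
    (inv_mem (hA ha))

theorem card_sup_dvd {A B : Subgroup G} (h : B ≤ normalizer (A : Set G)) :
    Nat.card ↥(A ⊔ B) ∣ Nat.card A * Nat.card B := by
  set L := normalizer (A : Set G) with hL
  have hA : A ≤ L := le_normalizer
  haveI : (A.subgroupOf L).Normal := Subgroup.normal_in_normalizer
  have h1 := Thompson.card_sup_dvd_mul (G := L) (B.subgroupOf L) (A.subgroupOf L)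
  rw [← subgroupOf_sup h hA, Nat.card_congr (subgroupOfEquivOfLe (sup_le h hA)).toEquiv,
    Nat.card_congr (subgroupOfEquivOfLe h).toEquiv, Nat.card_congr (subgroupOfEquivOfLe hA).toEquiv,
    sup_comm, mul_comm] at h1
  exact h1

theorem lt_inf_normalizer {p : ℕ} [Fact p.Prime] {P D : Subgroup G} (hP : IsPGroup p ↥P)
    (h : D < P) : D < P ⊓ normalizer (D : Set G) := by
  haveI : Group.IsNilpotent ↥P := hP.isNilpotent
  have hlt : D.subgroupOf P < ⊤ := lt_top_iff_ne_top.mpr fun he =>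
    h.not_ge fun x hx => mem_subgroupOf.mp (he ▸ mem_top (⟨x, hx⟩ : ↥P))
  have h2 := Group.normalizerCondition_of_isNilpotent _ hlt
  refine lt_of_le_not_ge (le_inf h.le le_normalizer) fun hge => h2.not_ge fun n hn => ?_
  refine mem_subgroupOf.mpr (hge ⟨n.2, mem_normalizer_iff.mpr fun d => ⟨fun hd => ?_, fun hd => ?_⟩⟩)
  · exact mem_subgroupOf.mp ((mem_normalizer_iff.mp hn ⟨d, h.le hd⟩).mp (mem_subgroupOf.mpr hd))
  · have hd' : d ∈ P := by
      simpa [mul_assoc] using mul_mem (mul_mem (inv_mem n.2) (h.le hd)) n.2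
    exact mem_subgroupOf.mp ((mem_normalizer_iff.mp hn ⟨d, hd'⟩).mpr (mem_subgroupOf.mpr hd))

theorem center_eq_bot (h : Ctx G) : center G = ⊥ := by
  haveI := h.simple
  rcases (inferInstance : (center G).Normal).eq_bot_or_eq_top with hz | hz
  · exact hz
  · exact absurd (Group.isSolvable_of_comm fun a b =>
      (Subgroup.mem_center_iff.mp (hz ▸ mem_top b) a)) h.nonsolv

theorem normal_ne_top (h : Ctx G) {H : Subgroup G} (hs : Group.IsSolvable ↥H) : H ≠ ⊤ := by
  rintro rfl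
  exact h.nonsolv (Group.isSolvable_of_surjective (f := (topEquiv (G := G)).toMonoidHom) (topEquiv (G := G)).surjective)

theorem normalizer_ne_top (h : Ctx G) {H : Subgroup G} (h1 : H ≠ ⊥) (h2 : H ≠ ⊤) :
    normalizer (H : Set G) ≠ ⊤ := by
  haveI := h.simple
  intro ht
  haveI : H.Normal := normalizer_eq_top_iff.mp ht
  rcases (inferInstance : H.Normal).eq_bot_or_eq_top with hb | hb
  · exact h1 hb
  · exact h2 hb

theorem centralizer_ne_top (h : Ctx G) {x : G} (hx : x ≠ 1) : centralizer ({x} : Set G) ≠ ⊤ := by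
  intro ht
  have : x ∈ center G := Subgroup.mem_center_iff.mpr fun g =>
    Subgroup.mem_centralizer_singleton_iff.mp (ht ▸ mem_top g)
  exact hx (by rwa [center_eq_bot h, mem_bot] at this)

section Stable

variable {p : ℕ} [hp : Fact p.Prime]

theorem not_solvable_sl (h5 : 5 ≤ p) :
    ¬ Group.IsSolvable (Matrix.SpecialLinearGroup (Fin 2) (ZMod p)) := by
  intro h
  have h2 : (2 : ZMod p) ≠ 0 ∧ (2 : ZMod p) ^ 2 ≠ 1 := by
    refine ⟨fun hz => ?_, fun hz => ?_⟩
    · have := (ZMod.natCast_eq_zero_iff 2 p).mp (by exact_mod_cast hz) |> Nat.le_of_dvd (by norm_num)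
      omega
    · have h3 : ((3 : ℕ) : ZMod p) = 0 := by
        push_cast
        linear_combination hz
      have := Nat.le_of_dvd (by norm_num) ((ZMod.natCast_eq_zero_iff 3 p).mp h3)
      omega
  have htop := LinearGroup.commutator_SL_eq_top' (ι := Fin 2) (F := ZMod p) fun _ => ⟨2, h2⟩
  haveI := h
  haveI : Nontrivial (Matrix.SpecialLinearGroup (Fin 2) (ZMod p)) :=
    ⟨⟨-1, 1, fun he => h2.1 (by
      have := congrArg (fun A : Matrix.SpecialLinearGroup (Fin 2) (ZMod p) =>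
        (A : Matrix (Fin 2) (Fin 2) (ZMod p)) 0 0) he
      simp at this
      linear_combination -this)⟩⟩
  exact (Group.IsSolvable.commutator_lt_top_of_nontrivial
    (Matrix.SpecialLinearGroup (Fin 2) (ZMod p))).ne htop

theorem not_involves_qd (h : Ctx G) (h5 : 5 ≤ p) : ¬ Cfsg.Involves ↥(Cfsg.qd p) G := by
  haveI := h.simple
  intro hi
  obtain ⟨K, f, hf⟩ := LocalEven61.exists_surjective_of_involves hi
  let g : ↥K →* Matrix.SpecialLinearGroup (Fin 2) (ZMod p) :=
    (LocalEven61.qdLin (F := ZMod p)).comp f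
  have hg : Function.Surjective g := LocalEven61.qdLin_surjective.comp hf
  by_cases hK : K = ⊤
  · subst hK
    let g' : G →* Matrix.SpecialLinearGroup (Fin 2) (ZMod p) :=
      g.comp (topEquiv (G := G)).symm.toMonoidHom
    have hg' : Function.Surjective g' := hg.comp (topEquiv (G := G)).symm.surjective
    rcases (inferInstance : g'.ker.Normal).eq_bot_or_eq_top with hk | hk
    · have hinj : Function.Injective g' := (MonoidHom.ker_eq_bot_iff g').mp hk
      obtain ⟨z, hz⟩ := hg' (-1)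
      have hzc : z ∈ center G := mem_center_iff.mpr fun a => hinj (by
        rw [map_mul, map_mul, hz]
        refine Subtype.ext ?_
        simp)
      rw [center_eq_bot h, mem_bot] at hzc
      subst hzc
      rw [map_one] at hz
      have h2 := congrArg (fun A : Matrix.SpecialLinearGroup (Fin 2) (ZMod p) =>
        (A : Matrix (Fin 2) (Fin 2) (ZMod p)) 0 0) hz
      simp at h2
      have h3 : ((2 : ℕ) : ZMod p) = 0 := by
        push_cast
        linear_combination h2
      have := Nat.le_of_dvd (by norm_num) ((ZMod.natCast_eq_zero_iff 2 p).mp h3)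
      omega
    · refine not_solvable_sl h5 (Group.isSolvable_of_comm fun a b => ?_)
      obtain ⟨x, rfl⟩ := hg' a
      rw [(MonoidHom.mem_ker (f := g')).mp (hk ▸ mem_top x), one_mul, mul_one]
  · haveI := h.psolv K hK
    exact not_solvable_sl h5 (Group.isSolvable_of_surjective hg)

theorem stable (h : Ctx G) (h5 : 5 ≤ p) : Cfsg.IsNormalizerPStable p G :=
  LocalEven61.isNormalizerPStable_of_not_involves (by omega) (not_involves_qd h h5)

/-- An abelian subgroup normalised by `O_p` lies in it, in stable solvable groups. -/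
theorem abelian_le_pCore {H : Type*} [Group H] [Finite H] [Group.IsSolvable H]
    (hst : Cfsg.IsNormalizerPStable p H) (hO : Cfsg.pPrimeCore p H = ⊥) {A : Subgroup H}
    (hA : IsMulCommutative A) (hAn : Cfsg.pCore p H ≤ normalizer (A : Set H)) :
    A ≤ Cfsg.pCore p H := by
  intro g hg
  set O := Cfsg.pCore p H with hOdef
  set N := normalizer (O : Set H) with hN
  have hNtop : N = ⊤ := normalizer_eq_top (H := O)
  have hgN : g ∈ N := hNtop ▸ mem_top g
  have hq : ⁅⁅O, zpowers g⁆, zpowers g⁆ = ⊥ := by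
    have h1 : ⁅O, zpowers g⁆ ≤ A := by
      refine Subgroup.commutator_le.mpr fun u hu b hb => ?_
      have hbA : b ∈ A := (zpowers_le.mpr hg) hb
      exact mul_mem (Coprime.conj_mem_of_mem_normalizer (hAn hu) hbA) (inv_mem hbA)
    rw [eq_bot_iff]
    refine (Subgroup.commutator_mono h1 (zpowers_le.mpr hg)).trans ?_
    refine Subgroup.commutator_le.mpr fun u hu b hb => ?_
    rw [mem_bot, commutatorElement_eq_one_iff_mul_comm]
    exact congrArg Subtype.val (hA.is_comm.comm (⟨u, hu⟩ : A) ⟨b, hb⟩)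
  have hmem := hst O Thompson.isPGroup_pCore g hgN hq
  haveI := Subgroup.normal_subgroupOf_centralizer_normalizer (O : Set H)
  set C := (centralizer (O : Set H)).subgroupOf N with hC
  set M := ((Cfsg.pCore p (↥N ⧸ C)).comap (QuotientGroup.mk' C)).map N.subtype with hM
  have hcl := Thompson.centralizer_pCore_le (p := p) OddLocal44.isPSolvable_of_isSolvable hO
  have hCp : IsPGroup p C := (Thompson.isPGroup_pCore (p := p) (G := H)).to_le hcl |>.comap_subtype
  have hMp : IsPGroup p M :=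
    ((Thompson.isPGroup_pCore (p := p)).comap_of_ker_isPGroup _
      (by rwa [QuotientGroup.ker_mk'])).map _
  have hMn : M.Normal := by
    rw [← normalizer_eq_top_iff]
    exact top_le_iff.mp (hNtop ▸ le_normalizer_map_normal N _)
  exact Thompson.le_pCore hMn hMp ⟨⟨g, hgN⟩, hmem, rfl⟩

/-- Abelian normal subgroups of Sylow subgroups of proper subgroups lie in `O_{p',p}`. -/
theorem abelian_le_OP2 (h : Ctx G) (h5 : 5 ≤ p) {L : Subgroup G} (hL : L ≠ ⊤) (R : Sylow p ↥L)
    {A : Subgroup G} (hA : A ≤ (R : Subgroup ↥L).map L.subtype)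
    (hAc : ∀ a ∈ A, ∀ b ∈ A, a * b = b * a)
    (hAn : (R : Subgroup ↥L).map L.subtype ≤ normalizer (A : Set G)) : A ≤ OP2 p L := by
  haveI := h.psolv L hL
  have hst : Cfsg.IsNormalizerPStable p ↥L := Fus93.PStable.isNormalizerPStable_subgroup (stable h h5) L
  set A' := A.subgroupOf L with hA'
  have hA'R : A' ≤ (R : Subgroup ↥L) := by
    intro x hx
    obtain ⟨y, hy, hyx⟩ := hA (mem_subgroupOf.mp hx)
    rwa [L.subtype_injective hyx] at hy
  have hRA' : (R : Subgroup ↥L) ≤ normalizer (A' : Set ↥L) :=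
    Coprime.le_normalizer_of_conj_mem fun r hr x hx =>
      show ((r * x * r⁻¹ : ↥L) : G) ∈ A from
      Coprime.conj_mem_of_mem_normalizer (hAn ⟨r, hr, rfl⟩) (show (x : G) ∈ A from hx)
  have hA'c : IsMulCommutative A' :=
    ⟨⟨fun a b => Subtype.ext (Subtype.ext (hAc _ a.2 _ b.2))⟩⟩
  set f := QuotientGroup.mk' (Cfsg.pPrimeCore p ↥L) with hf
  have hfs : Function.Surjective f := QuotientGroup.mk'_surjective _
  haveI : Group.IsSolvable (↥L ⧸ Cfsg.pPrimeCore p ↥L) := Group.isSolvable_of_surjective hfs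
  haveI := hA'c
  have h1 : A' ≤ Cfsg.pPrimePCore p ↥L := by
    refine Subgroup.map_le_iff_le_comap.1 (abelian_le_pCore
      (Fus93.PStable.isNormalizerPStable_coprime hst _ Thompson.card_pPrimeCore_coprime)
      Thompson.pPrimeCore_quotient_pPrimeCore inferInstance ?_)
    calc Cfsg.pCore p _ ≤ (R.mapSurjective hfs : Subgroup _) := Thompson.pCore_le_sylow _
      _ = (R : Subgroup ↥L).map f := Sylow.coe_mapSurjective hfs R
      _ ≤ Subgroup.map f (normalizer (A' : Set ↥L)) := Subgroup.map_mono hRA'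
      _ ≤ _ := Subgroup.le_normalizer_map f
  intro a ha
  obtain ⟨y, -, hya⟩ := hA ha
  exact ⟨y, h1 (mem_subgroupOf.mpr (by rw [show ((y : ↥L) : G) = a from hya]; exact ha)), hya⟩

/-- `O_{p'}(L)` contains the `p'`-subgroups centralised by a `p`-element `f` and normalised by
`C_L(f)`. -/
theorem bender {L : Subgroup G} (hL : Group.IsSolvable ↥L) {f : G} (hfL : f ∈ L)
    (hf : f ^ p = 1) {X : Subgroup G} (hXL : X ≤ L) (hc : (Nat.card X).Coprime p)
    (hfX : X ≤ centralizer ({f} : Set G))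
    (hCX : L ⊓ centralizer ({f} : Set G) ≤ normalizer (X : Set G)) : X ≤ OP p L := by
  haveI := hL
  set K := Cfsg.pPrimeCore p ↥L with hK
  set π := QuotientGroup.mk' K with hπ
  set U := Cfsg.pCore p (↥L ⧸ K) with hU
  set F := (zpowers f).subgroupOf L with hF
  set X' := X.subgroupOf L with hX'
  have hFp : IsPGroup p F :=
    (isPGroup_zpowers (n := 1) (by rwa [pow_one])).comap_subtype
  have hKc : (Nat.card K).Coprime p := Thompson.card_pPrimeCore_coprime
  have hX'c : (Nat.card (X'.map π)).Coprime p := by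
    refine Nat.Coprime.coprime_dvd_left (card_map_dvd _ _) ?_
    rwa [Nat.card_congr (subgroupOfEquivOfLe hXL).toEquiv]
  have hFX : ∀ a ∈ F, ∀ x ∈ X', a * x = x * a := by
    intro a ha x hx
    obtain ⟨k, hk⟩ := Subgroup.mem_zpowers_iff.mp (mem_subgroupOf.mp ha)
    refine Subtype.ext ?_
    show (a : G) * x = x * a
    rw [← hk]
    exact (Commute.zpow_left (Subgroup.mem_centralizer_singleton_iff.mp
      (hfX hx)).symm k).eq
  have hcX : centralizer (F : Set ↥L) ≤ normalizer (X' : Set ↥L) := by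
    refine Coprime.le_normalizer_of_conj_mem fun c hc x hx => ?_
    show ((c * x * c⁻¹ : ↥L) : G) ∈ X
    refine Coprime.conj_mem_of_mem_normalizer (hCX ⟨c.2, Subgroup.mem_centralizer_singleton_iff.mpr ?_⟩)
      (show (x : G) ∈ X from hx)
    exact (congrArg Subtype.val (Subgroup.mem_centralizer_iff.mp hc ⟨f, hfL⟩
      (mem_subgroupOf.mpr (mem_zpowers f)))).symm
  have hmain : X'.map π ≤ centralizer (U : Set (↥L ⧸ K)) := by
    refine Coprime.thompson_pxq p (F.map π) (X'.map π) U (hFp.map _) hX'c Thompson.isPGroup_pCore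
      ?_ ?_ ?_ ?_
    · rintro _ ⟨a, ha, rfl⟩
      refine Subgroup.mem_centralizer_iff.mpr ?_
      rintro _ ⟨x, hx, rfl⟩
      rw [← map_mul, ← map_mul, hFX a ha x hx]
    · exact (le_top.trans (normalizer_eq_top (H := _)).ge)
    · exact (le_top.trans (normalizer_eq_top (H := _)).ge)
    · rintro u ⟨huU, hu⟩
      rw [← PLocalB.map_centralizer_eq K F hKc hFp] at hu
      obtain ⟨c, hc, rfl⟩ := hu
      refine Subgroup.mem_centralizer_iff.mpr ?_
      rintro _ ⟨x, hx, rfl⟩
      rw [← commutatorElement_eq_one_iff_mul_comm]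
      have h1 : ⁅π x, π c⁆ ∈ U := mul_mem
        (Subgroup.Normal.conj_mem inferInstance _ huU _) (inv_mem huU)
      have h2 : ⁅π x, π c⁆ ∈ X'.map π := by
        rw [← map_commutatorElement]
        refine Subgroup.mem_map_of_mem π ?_
        rw [commutatorElement_def, mul_assoc, mul_assoc]
        refine mul_mem hx ?_
        rw [← mul_assoc]
        exact Coprime.conj_mem_of_mem_normalizer (hcX hc) (inv_mem hx)
      exact mem_bot.mp ((Thompson.inf_eq_bot_of_isPGroup_of_coprime Thompson.isPGroup_pCore hX'c).le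
        ⟨h1, h2⟩)
  have hcl := Thompson.centralizer_pCore_le (p := p) (G := ↥L ⧸ K)
    (Thompson.isPSolvable_quotient K OddLocal44.isPSolvable_of_isSolvable)
    Thompson.pPrimeCore_quotient_pPrimeCore
  have hbot : X'.map π = ⊥ :=
    le_bot_iff.mp ((le_inf (hmain.trans hcl) le_rfl).trans
      (Thompson.inf_eq_bot_of_isPGroup_of_coprime Thompson.isPGroup_pCore hX'c).le)
  intro x hx
  refine ⟨⟨x, hXL hx⟩, ?_, rfl⟩
  have := (Subgroup.map_eq_bot_iff X').mp hbot (mem_subgroupOf.mpr (show ((⟨x, hXL hx⟩ : ↥L) : G) ∈ X from hx))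
  rwa [QuotientGroup.ker_mk'] at this

/-- `x` is conjugate into the centre of a Sylow subgroup. -/
def Cent (p : ℕ) (x : G) : Prop :=
  ∃ S : Sylow p G, x ∈ (S : Subgroup G) ∧ ∀ s ∈ (S : Subgroup G), x * s = s * x

theorem Cent.conj {x : G} (hx : Cent p x) (g : G) : Cent p (g * x * g⁻¹) := by
  obtain ⟨S, hS, hc⟩ := hx
  have hS' : ∀ s, s ∈ ((g • S : Sylow p G) : Subgroup G) ↔ g⁻¹ * s * g ∈ (S : Subgroup G) := fun s => by
    rw [Sylow.coe_subgroup_smul, Subgroup.mem_pointwise_smul_iff_inv_smul_mem]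
    simp [MulAut.smul_def]
  refine ⟨g • S, (hS' _).mpr (by simpa [mul_assoc] using hS), fun s hs => ?_⟩
  have := hc _ ((hS' s).mp hs)
  calc g * x * g⁻¹ * s = g * (x * (g⁻¹ * s * g)) * g⁻¹ := by group
    _ = g * ((g⁻¹ * s * g) * x) * g⁻¹ := by rw [this]
    _ = s * (g * x * g⁻¹) := by group

theorem mem_zj_of_central (S : Sylow p G) {x : G} (hS : x ∈ (S : Subgroup G))
    (hc : ∀ s ∈ (S : Subgroup G), x * s = s * x) :
    x ∈ Cfsg.centerThompsonAOf (S : Subgroup G) := by
  rw [← LocalEven61.map_subtype_zjA]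
  exact ⟨⟨x, hS⟩, LocalEven61.center_le_zjA (Subgroup.mem_center_iff.mpr fun s =>
    Subtype.ext (hc s s.2).symm), rfl⟩

theorem le_normalizer_zj (S : Sylow p G) :
    (S : Subgroup G) ≤ normalizer (Cfsg.centerThompsonAOf (S : Subgroup G) : Set G) := by
  rw [← LocalEven61.map_subtype_zjA]
  exact le_normalizer_map_normal _ _

theorem zj_comm (S : Sylow p G) {a b : G} (ha : a ∈ Cfsg.centerThompsonAOf (S : Subgroup G))
    (hb : b ∈ Cfsg.centerThompsonAOf (S : Subgroup G)) : a * b = b * a :=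
  Subgroup.mem_centralizer_iff.mp hb.2 a ha.1

/-- A conjugate of a central element lying in a Sylow subgroup lies in its `Z(J)`. -/
theorem Cent.mem_zj (h : Ctx G) (h5 : 5 ≤ p) {x : G} (hx : Cent p x) (S : Sylow p G)
    (hxS : x ∈ (S : Subgroup G)) : x ∈ Cfsg.centerThompsonAOf (S : Subgroup G) := by
  obtain ⟨T, hxT, hc⟩ := hx
  obtain ⟨g, hg⟩ := MulAction.exists_smul_eq G T S
  have hS' : ∀ s, s ∈ (S : Subgroup G) ↔ g⁻¹ * s * g ∈ (T : Subgroup G) := fun s => by
    rw [← hg, Sylow.coe_subgroup_smul, Subgroup.mem_pointwise_smul_iff_inv_smul_mem]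
    simp [MulAut.smul_def]
  set y := g * x * g⁻¹ with hy
  have hyS : y ∈ (S : Subgroup G) := (hS' _).mpr (by simpa [hy, mul_assoc] using hxT)
  have hyc : ∀ s ∈ (S : Subgroup G), y * s = s * y := fun s hs => by
    have := hc _ ((hS' s).mp hs)
    calc g * x * g⁻¹ * s = g * (x * (g⁻¹ * s * g)) * g⁻¹ := by group
      _ = g * ((g⁻¹ * s * g) * x) * g⁻¹ := by rw [this]
      _ = s * (g * x * g⁻¹) := by group
  obtain ⟨n, hn, he⟩ := (S1934.result p (by omega) (stable h h5) S {y}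
    (Set.singleton_subset_iff.mpr hyS)).2 g⁻¹ (by
      rintro _ ⟨a, ha, rfl⟩
      rw [Set.mem_singleton_iff.mp ha]
      show g⁻¹ * y * g⁻¹⁻¹ ∈ (S : Subgroup G)
      rw [show g⁻¹ * y * g⁻¹⁻¹ = x by rw [hy]; group]
      exact hxS)
  have h1 := he y rfl
  have h2 : x = n * y * n⁻¹ := by
    rw [← h1, hy]; group
  rw [h2]
  exact Coprime.conj_mem_of_mem_normalizer hn (mem_zj_of_central S hyS hyc)

theorem exists_sylow_of_mem {L : Subgroup G} {x : G} (hxL : x ∈ L) {k : ℕ} (hx : x ^ p ^ k = 1) :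
    ∃ R : Sylow p ↥L, x ∈ (R : Subgroup ↥L).map L.subtype := by
  obtain ⟨R, hR⟩ := IsPGroup.exists_le_sylow (isPGroup_zpowers (x := (⟨x, hxL⟩ : ↥L)) (n := k)
    (Subtype.ext (by simpa using hx)))
  exact ⟨R, ⟨x, hxL⟩, hR (mem_zpowers _), rfl⟩

theorem exists_sylow_ge {L : Subgroup G} (R : Sylow p ↥L) :
    ∃ S : Sylow p G, (R : Subgroup ↥L).map L.subtype ≤ (S : Subgroup G) :=
  IsPGroup.exists_le_sylow (R.isPGroup'.map _)

theorem Cent.pow_eq_one {x : G} (hx : Cent p x) : ∃ k : ℕ, x ^ p ^ k = 1 := by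
  obtain ⟨S, hxS, -⟩ := hx
  obtain ⟨k, hk⟩ := S.isPGroup' ⟨x, hxS⟩
  exact ⟨k, congrArg Subtype.val hk⟩

theorem Cent.mem_OP2 (h : Ctx G) (h5 : 5 ≤ p) {x : G} (hx : Cent p x) {L : Subgroup G} (hL : L ≠ ⊤)
    (hxL : x ∈ L) : x ∈ OP2 p L := by
  obtain ⟨k, hk⟩ := hx.pow_eq_one
  obtain ⟨R, hxR⟩ := exists_sylow_of_mem hxL hk
  obtain ⟨S, hS⟩ := exists_sylow_ge R
  refine abelian_le_OP2 h h5 hL R (A := (R : Subgroup ↥L).map L.subtype ⊓
    Cfsg.centerThompsonAOf (S : Subgroup G)) inf_le_left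
    (fun a ha b hb => zj_comm S ha.2 hb.2)
    (Coprime.le_normalizer_inf le_normalizer (hS.trans (le_normalizer_zj S)))
    ⟨hxR, hx.mem_zj h h5 S (hS hxR)⟩

/-- `p`-elements of `O_{p',p}(L)` are conjugate by `O_{p'}(L)` into a given Sylow subgroup. -/
theorem exists_conj_mem_of_OP2 {L : Subgroup G} (R : Sylow p ↥L) {x : G} (hx : x ∈ OP2 p L)
    {k : ℕ} (hk : x ^ p ^ k = 1) :
    ∃ t ∈ OP p L, t * x * t⁻¹ ∈ (R : Subgroup ↥L).map L.subtype ⊓ OP2 p L := by
  set M := Cfsg.pPrimePCore p ↥L with hM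
  obtain ⟨P0⟩ : Nonempty (Sylow p ↥M) := inferInstance
  have hP0 := Thompson.sylow_pPrimePCore_sup P0
  set P0' := (P0 : Subgroup ↥M).map M.subtype with hP0'
  obtain ⟨R', hR'⟩ := IsPGroup.exists_le_sylow (P0.isPGroup'.map M.subtype)
  obtain ⟨g, hg⟩ := MulAction.exists_smul_eq ↥L R' R
  have hsup : Cfsg.pPrimeCore p ↥L ⊔ ((R : Subgroup ↥L) ⊓ M) = M := by
    refine le_antisymm (sup_le Thompson.pPrimeCore_le_pPrimePCore inf_le_right) ?_
    intro y hy
    have hy' : g⁻¹ * y * g ∈ Cfsg.pPrimeCore p ↥L ⊔ P0' := by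
      rw [hP0]
      simpa using Subgroup.Normal.conj_mem inferInstance y hy g⁻¹
    have hle : Cfsg.pPrimeCore p ↥L ⊔ P0' ≤
        (Cfsg.pPrimeCore p ↥L ⊔ ((R : Subgroup ↥L) ⊓ M)).comap (MulAut.conj g : ↥L →* ↥L) := by
      refine sup_le (fun a ha => Subgroup.mem_sup_left (Subgroup.Normal.conj_mem inferInstance a ha g))
        (fun a ha => Subgroup.mem_sup_right ⟨?_, Subgroup.Normal.conj_mem inferInstance a
          (map_subtype_le _ ha) g⟩)
      rw [← hg, Sylow.coe_subgroup_smul]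
      exact Subgroup.smul_mem_pointwise_smul a _ _ (hR' ha)
    have := hle hy'
    simpa [mul_assoc] using this
  obtain ⟨y, hy, rfl⟩ := hx
  have hy' : y ∈ Cfsg.pPrimeCore p ↥L ⊔ ((R : Subgroup ↥L) ⊓ M) := hsup.symm ▸ hy
  have hyp : IsPGroup p (zpowers y) := isPGroup_zpowers (n := k) (Subtype.ext (by simpa using hk))
  obtain ⟨t, ht, hts⟩ := Coprime.exists_conj_le_of_le_sup (zpowers y) (Cfsg.pPrimeCore p ↥L)
    ((R : Subgroup ↥L) ⊓ M) ((le_top.trans (normalizer_eq_top (H := _)).ge)) ((le_top.trans (normalizer_eq_top (H := _)).ge))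
    (zpowers_coprime_of_pgroup hyp Thompson.card_pPrimeCore_coprime)
    (Or.inl (isSolvable_zpowers y)) (zpowers_le.mpr hy')
  have := hts y (mem_zpowers y)
  exact ⟨t, ⟨t, ht, rfl⟩, ⟨_, this.1, rfl⟩, ⟨_, this.2, rfl⟩⟩

end Stable

/-- Powers recover commuting factors of coprime order. -/
theorem mem_zpowers_mul {a b : G} (hc : Commute a b) (hcop : (orderOf a).Coprime (orderOf b)) :
    a ∈ zpowers (a * b) ∧ b ∈ zpowers (a * b) := by
  have key : ∀ {a b : G}, Commute a b → (orderOf a).Coprime (orderOf b) → a ∈ zpowers (a * b) := by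
    intro a b hc hcop
    obtain ⟨m, hm⟩ := exists_pow_eq_self_of_coprime (x := a) hcop.symm
    have h2 : (a * b) ^ (orderOf b * m) = a := by
      rw [hc.mul_pow, pow_mul b, pow_orderOf_eq_one, one_pow, mul_one, pow_mul, hm]
    have h3 := pow_mem (mem_zpowers (a * b)) (orderOf b * m)
    rwa [h2] at h3
  exact ⟨key hc hcop, hc.eq ▸ key hc.symm hcop.symm⟩

/-- Splitting off the centraliser of `f`: `g = c u`, `u` in `⁅X ∩ ⟨f, f^g⟩, f⟩`. -/
theorem exists_split {p : ℕ} [Fact p.Prime] {f : G} {k : ℕ} (hf : f ^ p ^ k = 1) {X : Subgroup G}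
    (hX : (Nat.card X).Coprime p) (hfX : f ∈ normalizer (X : Set G)) {g : G} (hg : g ∈ X) :
    ∃ c u : G, g = c * u ∧ c ∈ X ∧ c ∈ centralizer ({f} : Set G) ∧
      u ∈ ⁅X ⊓ closure ({f, g⁻¹ * f * g} : Set G), zpowers f⁆ ∧
      u⁻¹ * f * u = g⁻¹ * f * g := by
  set D := closure ({f, g⁻¹ * f * g} : Set G) with hD
  set U := X ⊓ D with hU
  have hfD : f ∈ D := subset_closure (Set.mem_insert _ _)
  have hAU : zpowers f ≤ normalizer (U : Set G) :=
    Coprime.le_normalizer_inf (zpowers_le.mpr hfX) ((zpowers_le.mpr hfD : zpowers f ≤ D).trans le_normalizer)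
  have hcop : (Nat.card (zpowers f)).Coprime (Nat.card U) :=
    zpowers_coprime_of_pgroup (isPGroup_zpowers hf) (hX.coprime_dvd_left (card_dvd_of_le inf_le_left))
  obtain ⟨n, hn, hgn⟩ := Coprime.exists_fixed_in_coset (zpowers f) U hAU hcop
    (Or.inl (isSolvable_zpowers f)) g (fun a ha => by
      refine Subgroup.mem_inf.mpr ⟨mul_mem (inv_mem hg) (Coprime.conj_mem_of_mem_normalizer
        ((zpowers_le.mpr hfX : zpowers f ≤ normalizer (X : Set G)) ha) hg), ?_⟩
      have hle : zpowers (g⁻¹ * f * g) ≤ D := zpowers_le.mpr (subset_closure (by simp))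
      have h1 : g⁻¹ * a * g ∈ D := by
        obtain ⟨i, rfl⟩ := ha
        refine hle ⟨i, ?_⟩
        show (g⁻¹ * f * g) ^ i = _
        rw [show g⁻¹ * f * g = g⁻¹ * f * (g⁻¹)⁻¹ by rw [inv_inv], conj_zpow, inv_inv]
      simpa [mul_assoc] using mul_mem h1 (inv_mem ((zpowers_le.mpr hfD : zpowers f ≤ D) ha)))
  obtain ⟨x, hx, c', hc', he⟩ := Coprime.exists_commutator_mul_centralizer (zpowers f) U hAU hcop
    (Or.inl (isSolvable_zpowers f)) n hn
  have hgnf : g * n ∈ centralizer ({f} : Set G) :=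
    Subgroup.mem_centralizer_singleton_iff.mpr
      (Subgroup.mem_centralizer_iff.mp hgn f (mem_zpowers f)).symm
  have hc'f : c' ∈ centralizer ({f} : Set G) :=
    Subgroup.mem_centralizer_singleton_iff.mpr
      (Subgroup.mem_centralizer_iff.mp hc'.2 f (mem_zpowers f)).symm
  refine ⟨g * n * c'⁻¹, x⁻¹, ?_, mul_mem (mul_mem hg hn.1) (inv_mem hc'.1.1),
    mul_mem hgnf (inv_mem hc'f), inv_mem hx, ?_⟩
  · rw [he]; group
  · have hcc : f * (g * n * c'⁻¹) = (g * n * c'⁻¹) * f :=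
      (Subgroup.mem_centralizer_singleton_iff.mp (mul_mem hgnf (inv_mem hc'f))).symm
    have hg' : g = (g * n * c'⁻¹) * x⁻¹ := by rw [he]; group
    conv_rhs => rw [hg']
    calc (x⁻¹)⁻¹ * f * x⁻¹ = x * (f * x⁻¹) := by group
      _ = x * (g * n * c'⁻¹)⁻¹ * ((g * n * c'⁻¹) * f) * x⁻¹ := by group
      _ = x * (g * n * c'⁻¹)⁻¹ * (f * (g * n * c'⁻¹)) * x⁻¹ := by rw [hcc]
      _ = _ := by group

end Fin

end Cfsg.Agent.TwoGen81
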