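import Cfsg.Agent.TwoGen81.Basic

/-!
The subgroup generated by the `O_{p'}(C(f))`, `f ∈ E#`, is a `p'`-group.
-/

set_option autoImplicit false
set_option linter.all false

open Subgroup
open scoped commutatorElement Pointwise

namespace Cfsg.Agent.TwoGen81

variable {G : Type*} [Group G] [Finite G] {p : ℕ} [hp : Fact p.Prime]

/-- `O_{p'}(C(f))`. -/
def Th (p : ℕ) (f : G) : Subgroup G := OP p (centralizer ({f} : Set G))

/-- The hypothesis on the elementary group `E`. -/
structure Good (p : ℕ) (E : Subgroup G) : Prop where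
  comm : ∀ a ∈ E, ∀ b ∈ E, a * b = b * a
  expo : ∀ a ∈ E, a ^ p = 1
  card : Nat.card ↥E = p ^ 2
  key : ∀ f ∈ E, f ≠ 1 → E ≤ OP2 p (centralizer ({f} : Set G))

/-- The subgroup generated by the `Th f`. -/
def WE (p : ℕ) (E : Subgroup G) : Subgroup G := ⨆ f ∈ {f : G | f ∈ E ∧ f ≠ 1}, Th p f

theorem Th_le_WE {E : Subgroup G} {f : G} (hf : f ∈ E) (h1 : f ≠ 1) : Th p f ≤ WE p E :=
  le_biSup (fun f => Th p f) (show f ∈ {f : G | f ∈ E ∧ f ≠ 1} from ⟨hf, h1⟩)

namespace Good

variable {E : Subgroup G}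

theorem le_centralizer (hE : Good p E) {f : G} (hf : f ∈ E) : E ≤ centralizer ({f} : Set G) :=
  fun a ha => mem_centralizer_singleton_iff.mpr (hE.comm a ha f hf)

theorem isPGroup (hE : Good p E) : IsPGroup p ↥E :=
  IsPGroup.of_card hE.card

theorem not_isCyclic (hE : Good p E) : ¬ IsCyclic ↥E := by
  intro hc
  obtain ⟨g, hg⟩ := IsCyclic.exists_ofOrder_eq_natCard (α := ↥E)
  rw [hE.card] at hg
  have h1 : g ^ p = 1 := Subtype.ext (hE.expo g g.2)
  have h2 := Nat.le_of_dvd hp.out.pos (hg ▸ orderOf_dvd_of_pow_eq_one h1)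
  have := hp.out.two_le
  nlinarith

theorem exists_not_mem_zpowers (hE : Good p E) (f : G) : ∃ x ∈ E, x ∉ zpowers f := by
  by_contra hcon
  push Not at hcon
  refine hE.not_isCyclic ?_
  haveI : IsCyclic ↥(zpowers f) := inferInstance
  exact isCyclic_of_injective (Subgroup.inclusion (show E ≤ zpowers f from hcon))
    (Subgroup.inclusion_injective _)

/-- A `p'`-subgroup normalised by `E` is controlled by its pieces centralised by elements of `E`. -/
theorem controlled (hE : Good p E) {X N O : Subgroup G} (hX : (Nat.card X).Coprime p)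
    (hEX : E ≤ normalizer (X : Set G)) (hON : N ≤ normalizer (O : Set G))
    (h1 : ∀ e ∈ E, e ≠ 1 → X ⊓ centralizer ({e} : Set G) ≤ N)
    (h2 : ∀ e ∈ E, e ≠ 1 → ⁅X ⊓ centralizer ({e} : Set G), E⁆ ≤ O) :
    X ≤ N ∧ ⁅X, E⁆ ≤ O := by
  haveI : IsMulCommutative ↥E := ⟨⟨fun a b => Subtype.ext (hE.comm a a.2 b b.2)⟩⟩
  have hcop : (Nat.card E).Coprime (Nat.card X) := zpowers_coprime_of_pgroup hE.isPGroup hX
  have hXN : X ≤ N := Coprime.le_of_centralizer_le E X N hE.not_isCyclic hEX hcop h1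
  refine ⟨hXN, ?_⟩
  let M : Subgroup G :=
    { carrier := {x | x ∈ N ∧ ∀ e ∈ E, ⁅x, e⁆ ∈ O}
      one_mem' := ⟨one_mem _, fun e _ => by simp⟩
      mul_mem' := fun {a b} ha hb => ⟨mul_mem ha.1 hb.1, fun e he => by
        rw [show ⁅a * b, e⁆ = a * ⁅b, e⁆ * a⁻¹ * ⁅a, e⁆ by
          simp only [commutatorElement_def]; group]
        exact mul_mem (Coprime.conj_mem_of_mem_normalizer (hON ha.1) (hb.2 e he)) (ha.2 e he)⟩
      inv_mem' := fun {a} ha => ⟨inv_mem ha.1, fun e he => by
        rw [show ⁅a⁻¹, e⁆ = a⁻¹ * ⁅a, e⁆⁻¹ * a⁻¹⁻¹ by simp only [commutatorElement_def]; group]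
        exact Coprime.conj_mem_of_mem_normalizer (hON (inv_mem ha.1)) (inv_mem (ha.2 e he))⟩ }
  have hXM : X ≤ M := Coprime.le_of_centralizer_le E X M hE.not_isCyclic hEX hcop
    fun e he he1 x hx => ⟨h1 e he he1 hx, fun a ha =>
      h2 e he he1 (commutator_mem_commutator hx ha)⟩
  exact Subgroup.commutator_le.mpr fun x hx a ha => (hXM hx).2 a ha

theorem inf_centralizer_normalized (hE : Good p E) {X : Subgroup G}
    (hEX : E ≤ normalizer (X : Set G)) {e : G} (he : e ∈ E) :
    E ≤ normalizer ((X ⊓ centralizer ({e} : Set G) : Subgroup G) : Set G) :=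
  Coprime.le_normalizer_inf hEX ((hE.le_centralizer he).trans le_normalizer)

theorem commutator_inf_centralizer_le (hE : Good p E) {X : Subgroup G}
    (hX : (Nat.card X).Coprime p) (hEX : E ≤ normalizer (X : Set G)) {e : G} (he : e ∈ E)
    (he1 : e ≠ 1) : ⁅X ⊓ centralizer ({e} : Set G), E⁆ ≤ Th p e :=
  commutator_le_OP_of_le inf_le_right (hX.coprime_dvd_left (card_dvd_of_le inf_le_left))
    (hE.key e he he1) (hE.inf_centralizer_normalized hEX he)

theorem commutator_le_OP (hE : Good p E) (h : Ctx G) {L : Subgroup G} (hL : L ≠ ⊤) (hEL : E ≤ L)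
    {X : Subgroup G} (hXL : X ≤ L) (hX : (Nat.card X).Coprime p)
    (hEX : E ≤ normalizer (X : Set G)) : ⁅X, E⁆ ≤ OP p L := by
  refine (hE.controlled hX hEX (le_normalizer_OP p L) (fun e _ _ => inf_le_left.trans hXL) ?_).2
  intro e he he1
  have h1 : ⁅X ⊓ centralizer ({e} : Set G), E⁆ ≤ Th p e ⊓ L :=
    le_inf (hE.commutator_inf_centralizer_le hX hEX he he1)
      ((Subgroup.commutator_mono inf_le_left le_rfl).trans
        ((Coprime.commutator_le_of_le_normalizer hEX).trans hXL))
  refine h1.trans (bender (h.psolv L hL) (hEL he) (hE.expo e he) inf_le_right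
    ((OP_coprime p _).coprime_dvd_left (card_dvd_of_le inf_le_left))
    (inf_le_left.trans (OP_le p _)) ?_)
  exact Coprime.le_normalizer_inf (inf_le_right.trans (le_normalizer_OP p _))
    (inf_le_left.trans le_normalizer)

theorem centralizer_le_normalizer_WE (hE : Good p E) :
    centralizer (E : Set G) ≤ normalizer ((WE p E : Subgroup G) : Set G) := by
  refine Coprime.le_normalizer_of_conj_mem fun a ha x hx => ?_
  have hle : WE p E ≤ (WE p E).comap (MulAut.conj a : G →* G) := by
    refine iSup₂_le fun f hf y hy => ?_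
    refine Th_le_WE hf.1 hf.2 (conj_mem_OP ?_ hy)
    exact mem_centralizer_singleton_iff.mpr (mem_centralizer_iff.mp ha f hf.1).symm
  exact hle hx

theorem E_le_normalizer_WE (hE : Good p E) : E ≤ normalizer ((WE p E : Subgroup G) : Set G) :=
  le_trans (b := centralizer (E : Set G))
    (fun a ha => mem_centralizer_iff.mpr fun b hb => hE.comm b hb a ha)
    hE.centralizer_le_normalizer_WE

theorem commutator_le_WE (hE : Good p E) {X : Subgroup G} (hX : (Nat.card X).Coprime p)
    (hEX : E ≤ normalizer (X : Set G)) : ⁅X, E⁆ ≤ WE p E := by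
  refine (hE.controlled (N := normalizer ((WE p E : Subgroup G) : Set G)) hX hEX le_rfl ?_
    (fun e he he1 => (hE.commutator_inf_centralizer_le hX hEX he he1).trans (Th_le_WE he he1))).2
  intro e he he1
  set X' := X ⊓ centralizer ({e} : Set G) with hX'
  have hEX' := hE.inf_centralizer_normalized hEX he
  have hcop : (Nat.card E).Coprime (Nat.card X') :=
    zpowers_coprime_of_pgroup hE.isPGroup (hX.coprime_dvd_left (card_dvd_of_le inf_le_left))
  rw [← Coprime.commutator_sup_centralizer E X' hEX' hcop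
    (Or.inl (Group.isSolvable_of_comm fun a b => Subtype.ext (hE.comm a a.2 b b.2)))]
  exact sup_le (((hE.commutator_inf_centralizer_le hX hEX he he1).trans (Th_le_WE he he1)).trans
    le_normalizer) (inf_le_right.trans hE.centralizer_le_normalizer_WE)

/-- Membership in some `p'`-subgroup normalised by `E`. -/
def MemK (p : ℕ) (E : Subgroup G) (g : G) : Prop :=
  ∃ X : Subgroup G, (Nat.card X).Coprime p ∧ E ≤ normalizer (X : Set G) ∧ g ∈ X

theorem memK_mul (hE : Good p E) (h : Ctx G) {f b g : G} (hf : f ∈ E) (hf1 : f ≠ 1)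
    (hb : b ∈ Th p f) (hg : MemK p E g) : MemK p E (b * g) := by
  obtain ⟨X, hX, hEX, hgX⟩ := hg
  have hfp : f ^ p ^ 1 = 1 := by rw [pow_one]; exact hE.expo f hf
  obtain ⟨c, u, rfl, hcX, hcf, hu, hconj⟩ := exists_split hfp hX (hEX hf) hgX
  set C := centralizer ({f} : Set G) with hC
  set y := b * c with hy
  have hbC : b ∈ C := OP_le p _ hb
  have hyC : y ∈ C := mul_mem hbC hcf
  have hXC : (Nat.card ↥(X ⊓ C)).Coprime p := hX.coprime_dvd_left (card_dvd_of_le inf_le_left)
  have hyp : (orderOf y).Coprime p := by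
    refine orderOf_coprime_of_mem (X := Th p f ⊔ (X ⊓ C)) ?_ (mul_mem_sup hb ⟨hcX, hcf⟩)
    exact Nat.Coprime.coprime_dvd_left (card_sup_dvd (inf_le_right.trans (le_normalizer_OP p C)))
      (Nat.Coprime.mul_left (OP_coprime p C) hXC)
  have hfo : orderOf f ∣ p := orderOf_dvd_of_pow_eq_one (hE.expo f hf)
  have hfy : Commute f y := (mem_centralizer_singleton_iff.mp hyC).symm
  obtain ⟨x, hxE, hxf⟩ := hE.exists_not_mem_zpowers f
  set L := closure ({f * y, x * u} : Set G) with hLdef
  have hL : L ≠ ⊤ := h.pairs _ _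
  obtain ⟨h1, h2⟩ := mem_zpowers_mul hfy (hyp.symm.coprime_dvd_left hfo)
  have hfyL : zpowers (f * y) ≤ L := zpowers_le.mpr (subset_closure (by simp))
  have hfL : f ∈ L := hfyL h1
  have hyL : y ∈ L := hfyL h2
  have hxuL : x * u ∈ L := subset_closure (by simp)
  have hfxf : f * x = x * f := hE.comm f hf x hxE
  have hDL : closure ({f, (c * u)⁻¹ * f * (c * u)} : Set G) ≤ L := by
    rw [closure_le]
    rintro a (rfl | rfl)
    · exact hfL
    · show (c * u)⁻¹ * f * (c * u) ∈ L
      rw [← hconj, show u⁻¹ * f * u = (x * u)⁻¹ * f * (x * u) by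
        rw [show (x * u)⁻¹ * f * (x * u) = u⁻¹ * (x⁻¹ * (f * x)) * u by group, hfxf,
          inv_mul_cancel_left]]
      exact mul_mem (mul_mem (inv_mem hxuL) hfL) hxuL
  set U := X ⊓ closure ({f, (c * u)⁻¹ * f * (c * u)} : Set G) with hU
  have hfU : zpowers f ≤ normalizer (U : Set G) :=
    Coprime.le_normalizer_inf (zpowers_le.mpr (hEX hf))
      ((zpowers_le.mpr (subset_closure (by simp)) : zpowers f ≤
        closure ({f, (c * u)⁻¹ * f * (c * u)} : Set G)).trans le_normalizer)
  have huU : u ∈ U := Coprime.commutator_le_of_le_normalizer hfU hu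
  have huL : u ∈ L := hDL huU.2
  have hxL : x ∈ L := by simpa using mul_mem hxuL (inv_mem huL)
  have hEL : E ≤ L := by
    have hle : zpowers f ⊔ zpowers x ≤ L := sup_le (zpowers_le.mpr hfL) (zpowers_le.mpr hxL)
    refine le_trans ?_ hle
    have hsub : zpowers f ⊔ zpowers x ≤ E := sup_le (zpowers_le.mpr hf) (zpowers_le.mpr hxE)
    have hlt : zpowers f < zpowers f ⊔ zpowers x :=
      lt_of_le_of_ne le_sup_left fun he => hxf (he ▸ mem_sup_right (mem_zpowers x))
    obtain ⟨k, hk2, hk⟩ := (Nat.dvd_prime_pow hp.out).mp (hE.card ▸ card_dvd_of_le hsub)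
    have hfc : Nat.card (zpowers f) = p := by
      rw [Nat.card_zpowers]; exact orderOf_eq_prime (hE.expo f hf) hf1
    have hgt : Nat.card (zpowers f) < Nat.card ↥(zpowers f ⊔ zpowers x) := by
      refine lt_of_le_of_ne (card_le_of_le hlt.le) fun he => hlt.ne ?_
      exact eq_of_le_of_card_ge hlt.le he.ge
    rw [hfc, hk] at hgt
    have hk' : k = 2 := by
      have := hp.out.two_le
      interval_cases k
      · rw [pow_zero] at hgt; omega
      · rw [pow_one] at hgt; omega
      · rfl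
    subst hk'
    exact (eq_of_le_of_card_ge hsub (by rw [hk, hE.card])).ge
  set K := OP p L with hK
  have hu' : u ∈ K := by
    have h3 : ⁅X ⊓ L, E⁆ ≤ K := hE.commutator_le_OP h hL hEL inf_le_right
      (hX.coprime_dvd_left (card_dvd_of_le inf_le_left))
      (Coprime.le_normalizer_inf hEX (hEL.trans le_normalizer))
    exact h3 (Subgroup.commutator_mono (inf_le_inf_left X hDL) (zpowers_le.mpr hf) hu)
  have hye : ∀ e ∈ E, y * e * y⁻¹ * e⁻¹ ∈ K := by
    intro e he
    have hec : e ∈ C := hE.le_centralizer hf he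
    have h4 : y * e * y⁻¹ * e⁻¹ ∈ Th p f := by
      have hce : ⁅c, e⁆ ∈ Th p f := hE.commutator_inf_centralizer_le hX hEX hf hf1
        (commutator_mem_commutator (H₁ := X ⊓ C) ⟨hcX, hcf⟩ he)
      have hbe : ⁅b, e⁆ ∈ Th p f := by
        rw [commutatorElement_def, mul_assoc, mul_assoc]
        exact mul_mem hb (by rw [← mul_assoc]; exact conj_mem_OP hec (inv_mem hb))
      rw [hy, show b * c * e * (b * c)⁻¹ * e⁻¹ = b * ⁅c, e⁆ * b⁻¹ * ⁅b, e⁆ by
        simp only [commutatorElement_def]; group]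
      exact mul_mem (mul_mem (mul_mem hb hce) (inv_mem hb)) hbe
    refine bender (h.psolv L hL) hfL (hE.expo f hf) (X := Th p f ⊓ L) inf_le_right
      ((OP_coprime p _).coprime_dvd_left (card_dvd_of_le inf_le_left))
      (inf_le_left.trans (OP_le p _))
      (Coprime.le_normalizer_inf (inf_le_right.trans (le_normalizer_OP p _))
        (inf_le_left.trans le_normalizer))
      (Subgroup.mem_inf.mpr ⟨h4, mul_mem (mul_mem (mul_mem hyL (hEL he)) (inv_mem hyL)) (inv_mem (hEL he))⟩)
  refine ⟨K ⊔ zpowers y, ?_, ?_, ?_⟩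
  · refine Nat.Coprime.coprime_dvd_left
      (card_sup_dvd (zpowers_le.mpr (le_normalizer_OP p L hyL))) ?_
    exact Nat.Coprime.mul_left (OP_coprime p L) (by rwa [Nat.card_zpowers])
  · refine Coprime.le_normalizer_of_conj_mem fun e he a ha => ?_
    have hle : K ⊔ zpowers y ≤ (K ⊔ zpowers y).comap (MulAut.conj e : G →* G) := by
      refine sup_le (fun k hk => mem_sup_left (conj_mem_OP (hEL he) hk)) (zpowers_le.mpr ?_)
      show e * y * e⁻¹ ∈ K ⊔ zpowers y
      have h5 : e * y * e⁻¹ = (e * (y * e⁻¹ * y⁻¹ * e⁻¹⁻¹) * e⁻¹) * y := by group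
      rw [h5]
      exact mul_mem_sup (conj_mem_OP (hEL he) (hye _ (inv_mem he))) (mem_zpowers y)
    exact hle ha
  · rw [show b * (c * u) = y * u by rw [hy]; group]
    exact mul_mem (mem_sup_right (mem_zpowers y)) (mem_sup_left hu')

/-- **The main closure theorem.** -/
theorem WE_coprime (hE : Good p E) (h : Ctx G) : (Nat.card (WE p E)).Coprime p := by
  let St : Subgroup G :=
    { carrier := {b | ∀ g, MemK p E (b * g) ↔ MemK p E g}
      one_mem' := fun g => by rw [one_mul]
      mul_mem' := fun {a b} ha hb g => by rw [mul_assoc]; exact (ha _).trans (hb g)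
      inv_mem' := fun {a} ha g => by
        have := ha (a⁻¹ * g)
        rw [mul_inv_cancel_left] at this
        exact this.symm }
  have hW : WE p E ≤ St := iSup₂_le fun f hf b hb g =>
    ⟨fun hg => by simpa using hE.memK_mul h hf.1 hf.2 (inv_mem hb) hg,
      fun hg => hE.memK_mul h hf.1 hf.2 hb hg⟩
  rw [Nat.coprime_comm, hp.out.coprime_iff_not_dvd]
  intro hdvd
  obtain ⟨w, hw⟩ := exists_prime_orderOf_dvd_card' p hdvd
  have h1 : MemK p E (1 : G) := ⟨⊥, by simp, le_top.trans (normalizer_eq_top (H := (⊥ : Subgroup G))).ge, one_mem _⟩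
  obtain ⟨X, hX, -, hwX⟩ := ((hW w.2) 1).mpr h1
  rw [mul_one] at hwX
  have h2 := orderOf_coprime_of_mem hX hwX
  rw [Subgroup.orderOf_coe, hw] at h2
  exact hp.out.coprime_iff_not_dvd.mp h2 dvd_rfl

end Good

end Cfsg.Agent.TwoGen81
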