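import Cfsg.Agent.Lib.Coprime.Abelian
import Cfsg.Agent.Lib.Fitting.Minimal
import Mathlib.Data.ZMod.Basic
import Mathlib.Algebra.Field.ZMod
import Mathlib.GroupTheory.OrderOfElement

/-!
The norm of an operator scaling an element of prime order which acts without fixed points.
-/

set_option autoImplicit false
set_option linter.all false

open Subgroup
open scoped commutatorElement IsMulCommutative

namespace Cfsg.Agent.TwoGen81

variable {p : ℕ} [hp : Fact p.Prime]

section Scale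

variable {M : Type*} [Monoid M] {τ σ : M}

theorem pow_val_add' (h : τ ^ p = 1) (u v : ZMod p) :
    τ ^ (u + v).val = τ ^ u.val * τ ^ v.val := by
  rw [← pow_add, pow_eq_pow_mod (u.val + v.val) h, ← ZMod.val_add]

theorem pow_val_mul' (h : τ ^ p = 1) (u v : ZMod p) :
    τ ^ (u * v).val = (τ ^ u.val) ^ v.val := by
  rw [← pow_mul, pow_eq_pow_mod (u.val * v.val) h, ← ZMod.val_mul]

theorem scale_pow (h : τ ^ p = 1) {a : ZMod p} (hr : σ * τ = τ ^ a.val * σ) (v : ZMod p) :
    ∀ i : ℕ, σ ^ i * τ ^ v.val = τ ^ (a ^ i * v).val * σ ^ i := by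
  intro i
  induction i with
  | zero => simp
  | succ i ih =>
    have h1 : σ * τ ^ (a ^ i * v).val = τ ^ (a * (a ^ i * v)).val * σ := by
      rw [pow_val_mul' h a (a ^ i * v)]
      exact (SemiconjBy.pow_right (show SemiconjBy σ τ (τ ^ a.val) from hr) _).eq
    rw [pow_succ' σ, mul_assoc, ih, ← mul_assoc, h1, mul_assoc, pow_succ' a, mul_assoc a]

end Scale

theorem mem_normalizer_zpowers {H : Type*} [Group H] [Finite H] {g z : H}
    (h : g * z * g⁻¹ ∈ zpowers z) : g ∈ normalizer ((zpowers z : Subgroup H) : Set H) := by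
  rw [Subgroup.mem_normalizer_iff_map_conj_eq]
  refine eq_of_le_of_card_ge ?_ (Nat.card_congr
    ((zpowers z).equivMapOfInjective _ (MulAut.conj g).injective).toEquiv).le
  rintro _ ⟨x, hx, rfl⟩
  obtain ⟨i, rfl⟩ := mem_zpowers_iff.mp hx
  show g * z ^ i * g⁻¹ ∈ _
  rw [← conj_zpow]
  exact zpow_mem h i

section Norm

variable {W : Type*} [CommGroup W]

/-- The norm of `σ` over `e` steps. -/
noncomputable def nrm (σ : MulAut W) (e : ℕ) : W →* W where
  toFun x := ∏ i ∈ Finset.range e, (σ ^ i) x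
  map_one' := by simp
  map_mul' x y := by simp [Finset.prod_mul_distrib]

/-- `τ` has order dividing `p`, no fixed points, and is scaled by `σ`. -/
structure NData (τ σ : MulAut W) (a : (ZMod p)ˣ) : Prop where
  ord : τ ^ p = 1
  fpf : ∀ x, τ x = x → x = 1
  rel : σ * τ = τ ^ (a : ZMod p).val * σ
  per : σ ^ orderOf a = 1

namespace NData

variable {τ σ : MulAut W} {a : (ZMod p)ˣ} (D : NData τ σ a)
include D

theorem move (i : ℕ) (v : ZMod p) (x : W) :
    (σ ^ i) ((τ ^ v.val) x) = (τ ^ ((a : ZMod p) ^ i * v).val) ((σ ^ i) x) :=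
  DFunLike.congr_fun (scale_pow D.ord D.rel v i) x

theorem prod_all (y : W) : ∏ v : ZMod p, (τ ^ v.val) y = 1 := by
  refine D.fpf _ ?_
  rw [map_prod]
  refine Fintype.prod_equiv (Equiv.addLeft (1 : ZMod p)) _ _ fun v => ?_
  rw [Equiv.coe_addLeft, pow_val_add' D.ord, ZMod.val_one, pow_one, MulAut.mul_apply]

theorem prod_units (y : W) : ∏ u : (ZMod p)ˣ, (τ ^ (u : ZMod p).val) y = y⁻¹ := by
  classical
  have h := D.prod_all y
  rw [← Finset.mul_prod_erase Finset.univ _ (Finset.mem_univ (0 : ZMod p))] at h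
  rw [ZMod.val_zero, pow_zero, MulAut.one_apply] at h
  rw [← eq_inv_of_mul_eq_one_right h]
  refine Finset.prod_nbij Units.val (fun u _ => Finset.mem_erase.mpr ⟨u.ne_zero, Finset.mem_univ _⟩)
    (fun u _ v _ h => Units.ext h) (fun v hv => ?_) (fun u _ => rfl)
  exact ⟨Units.mk0 v (Finset.mem_erase.mp hv).1, Finset.mem_univ _, rfl⟩

theorem sigma_nrm (x : W) : σ (nrm σ (orderOf a) x) = nrm σ (orderOf a) x := by
  show σ (∏ i ∈ Finset.range (orderOf a), (σ ^ i) x) = _
  rw [map_prod]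
  show (∏ i ∈ Finset.range (orderOf a), σ ((σ ^ i) x)) = ∏ i ∈ Finset.range (orderOf a), (σ ^ i) x
  have h1 := Finset.prod_range_succ' (fun i => (σ ^ i) x) (orderOf a)
  rw [Finset.prod_range_succ, D.per, pow_zero] at h1
  rw [mul_right_cancel h1]
  exact Finset.prod_congr rfl fun i _ => by rw [pow_succ']; rfl

theorem nrm_sigma (x : W) : nrm σ (orderOf a) (σ x) = nrm σ (orderOf a) x := by
  rw [← D.sigma_nrm x]
  show (∏ i ∈ Finset.range (orderOf a), (σ ^ i) (σ x)) = σ (∏ i ∈ Finset.range (orderOf a), (σ ^ i) x)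
  rw [map_prod]
  exact Finset.prod_congr rfl fun i _ =>
    DFunLike.congr_fun (Commute.pow_self σ i).eq x

theorem exists_nrm_eq {c : W} (hc : σ c = c) : ∃ x, nrm σ (orderOf a) x = c := by
  classical
  let Q := (ZMod p)ˣ ⧸ zpowers a
  haveI : Fintype Q := Fintype.ofFinite Q
  refine ⟨(∏ q : Q, (τ ^ ((Quotient.out q : (ZMod p)ˣ) : ZMod p).val) c)⁻¹, ?_⟩
  rw [map_inv, inv_eq_iff_eq_inv, ← D.prod_units c, map_prod]
  have hfix : ∀ i : ℕ, (σ ^ i) c = c := by
    intro i
    induction i with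
    | zero => rfl
    | succ i ih => rw [pow_succ', MulAut.mul_apply, ih, hc]
  have h1 : ∀ q : Q, nrm σ (orderOf a) ((τ ^ ((Quotient.out q : (ZMod p)ˣ) : ZMod p).val) c) =
      ∏ i : Fin (orderOf a), (τ ^ ((a ^ (i : ℕ) * Quotient.out q : (ZMod p)ˣ) : ZMod p).val) c := by
    intro q
    show (∏ i ∈ Finset.range (orderOf a), _) = _
    rw [Finset.prod_range]
    refine Finset.prod_congr rfl fun i _ => ?_
    rw [D.move, hfix, Units.val_mul, Units.val_pow_eq_pow_val]
  rw [Finset.prod_congr rfl (fun q _ => h1 q), ← Fintype.prod_prod_type']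
  refine Fintype.prod_bijective (fun x : Q × Fin (orderOf a) => a ^ (x.2 : ℕ) * Quotient.out x.1)
    ⟨?_, ?_⟩ _ _ fun x => rfl
  · rintro ⟨q, i⟩ ⟨q', j⟩ h
    have hq : q = q' := by
      rw [← QuotientGroup.out_eq' q, ← QuotientGroup.out_eq' q', QuotientGroup.eq]
      have h' : Quotient.out q' = (a ^ (j : ℕ))⁻¹ * (a ^ (i : ℕ) * Quotient.out q) :=
        eq_inv_mul_iff_mul_eq.mpr h.symm
      rw [h', ← mul_assoc (a ^ (j : ℕ))⁻¹, mul_comm ((a ^ (j : ℕ))⁻¹ * a ^ (i : ℕ)),
        inv_mul_cancel_left]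
      exact mul_mem (inv_mem (pow_mem (mem_zpowers a) _)) (pow_mem (mem_zpowers a) _)
    subst hq
    exact Prod.ext rfl (Fin.ext (pow_injOn_Iio_orderOf i.2 j.2 (mul_right_cancel h)))
  · intro u
    have h2 : u * (Quotient.out (QuotientGroup.mk u : Q))⁻¹ ∈ zpowers a := by
      rw [← QuotientGroup.eq_one_iff, QuotientGroup.mk_mul, QuotientGroup.mk_inv, QuotientGroup.out_eq',
        mul_inv_cancel]
    obtain ⟨i, hi, he⟩ : ∃ i < orderOf a, a ^ i = u * (Quotient.out (QuotientGroup.mk u : Q))⁻¹ := by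
      obtain ⟨i, hi⟩ := (isOfFinOrder_of_finite a).mem_powers_iff_mem_zpowers.mpr h2
      exact ⟨i % orderOf a, Nat.mod_lt _ (orderOf_pos a), by rw [pow_mod_orderOf]; exact hi⟩
    exact ⟨(QuotientGroup.mk u, ⟨i, hi⟩), by simp only [he, inv_mul_cancel_right]⟩

theorem exists_of_nrm_eq_one [Finite W] {x : W} (hx : nrm σ (orderOf a) x = 1) :
    ∃ y, x = y / σ y := by
  let d : W →* W := MonoidHom.id W / σ.toMonoidHom
  have hd : ∀ y, d y = y / σ y := fun y => rfl
  have hle : d.range ≤ (nrm σ (orderOf a)).ker := by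
    rintro _ ⟨y, rfl⟩
    rw [MonoidHom.mem_ker, hd, map_div, D.nrm_sigma, div_self']
  have hr : (nrm σ (orderOf a)).range = d.ker := by
    ext c
    constructor
    · rintro ⟨y, rfl⟩
      rw [MonoidHom.mem_ker, hd, D.sigma_nrm, div_self']
    · intro hc
      rw [MonoidHom.mem_ker, hd, div_eq_one] at hc
      exact D.exists_nrm_eq hc.symm
  have h1 := (nrm σ (orderOf a)).ker.card_mul_index
  rw [Subgroup.index_ker, hr] at h1
  have h2 := d.ker.card_mul_index
  rw [Subgroup.index_ker, ← h1, mul_comm] at h2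
  have he : d.range = (nrm σ (orderOf a)).ker :=
    eq_of_le_of_card_ge hle (Nat.eq_of_mul_eq_mul_right Nat.card_pos h2).ge
  obtain ⟨y, hy⟩ : x ∈ d.range := he ▸ hx
  exact ⟨y, by rw [← hy, hd]⟩

theorem eq_one_of_no_fixed [Finite W] (hcop : (Nat.card W).Coprime p)
    (hfix : ∀ c, σ c = c → c = 1) (x : W) : x = 1 := by
  classical
  have hN : ∀ y, nrm σ (orderOf a) y = 1 := fun y => hfix _ (D.sigma_nrm y)
  have h0 : 0 ∈ Finset.range (orderOf a) := Finset.mem_range.mpr (orderOf_pos a)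
  have key : ∏ v : ZMod p, (τ ^ (-v).val) (nrm σ (orderOf a) ((τ ^ v.val) x)) = x ^ p := by
    show (∏ v : ZMod p, (τ ^ (-v).val) (∏ i ∈ Finset.range (orderOf a), (σ ^ i) ((τ ^ v.val) x))) = _
    simp only [map_prod, D.move]
    rw [Finset.prod_comm, Finset.prod_eq_single_of_mem 0 h0]
    · rw [Finset.prod_congr rfl (g := fun _ => x) fun v _ => ?_, Finset.prod_const, Finset.card_univ,
        ZMod.card]
      rw [← MulAut.mul_apply, pow_zero, one_mul, ← pow_val_add' D.ord, neg_add_cancel,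
        ZMod.val_zero, pow_zero, pow_zero]
      rfl
    · intro i hi hi0
      have hne : (a : ZMod p) ^ i - 1 ≠ 0 := by
        rw [sub_ne_zero, ← Units.val_pow_eq_pow_val, ne_eq, Units.val_eq_one]
        exact fun h => pow_ne_one_of_lt_orderOf hi0 (Finset.mem_range.mp hi) h
      refine Eq.trans ?_ (D.prod_all ((σ ^ i) x))
      refine Fintype.prod_equiv (Equiv.mulLeft₀ _ hne) _ _ fun v => ?_
      rw [← MulAut.mul_apply, ← pow_val_add' D.ord]
      congr 3
      show -v + (a : ZMod p) ^ i * v = ((a : ZMod p) ^ i - 1) * v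
      ring
  rw [Finset.prod_eq_one fun v _ => by rw [hN, map_one]] at key
  exact orderOf_eq_one_iff.mp (Nat.eq_one_of_dvd_coprimes hcop (orderOf_dvd_natCard x)
    (orderOf_dvd_of_pow_eq_one key.symm))

end NData

end Norm

section Groups

variable {H : Type*} [Group H] [Finite H] {W : Subgroup H} [IsMulCommutative ↥W] {z m : H}
  {a : (ZMod p)ˣ}

/-- Conjugation by `z` and `m` on `W` gives norm data. -/
theorem ndata (hz : z ∈ normalizer (W : Set H)) (hm : m ∈ normalizer (W : Set H)) (hzp : z ^ p = 1)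
    (hrel : m * z = z ^ (a : ZMod p).val * m) (hfpf : ∀ x ∈ W, z * x = x * z → x = 1)
    (hme : ∀ x ∈ W, m ^ orderOf a * x = x * m ^ orderOf a) :
    NData (W.normalizerMonoidHom ⟨z, hz⟩) (W.normalizerMonoidHom ⟨m, hm⟩) a where
  ord := by
    rw [← map_pow, show (⟨z, hz⟩ : ↥(normalizer (W : Set H))) ^ p = 1 from Subtype.ext hzp, map_one]
  fpf x hx := by
    have h : z * (x : H) * z⁻¹ = x := congrArg Subtype.val hx
    exact Subtype.ext (hfpf x x.2 (mul_inv_eq_iff_eq_mul.mp h))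
  rel := by
    rw [← map_mul, ← map_pow, ← map_mul]
    exact congrArg _ (Subtype.ext hrel)
  per := by
    rw [← map_pow]
    refine MulEquiv.ext fun x => Subtype.ext ?_
    show ((⟨m, hm⟩ ^ orderOf a : ↥(normalizer (W : Set H))) : H) * x *
      ((⟨m, hm⟩ ^ orderOf a : ↥(normalizer (W : Set H))) : H)⁻¹ = x
    rw [SubmonoidClass.coe_pow, hme x x.2, mul_inv_cancel_right]

/-- A fixed point exists. -/
theorem exists_fixed_of_scale (hz : z ∈ normalizer (W : Set H)) (hm : m ∈ normalizer (W : Set H))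
    (hzp : z ^ p = 1) (hrel : m * z = z ^ (a : ZMod p).val * m)
    (hfpf : ∀ x ∈ W, z * x = x * z → x = 1) (hme : m ^ orderOf a = 1)
    (hcop : (Nat.card W).Coprime p) (hW : W ≠ ⊥) : ∃ c ∈ W, c ≠ 1 ∧ m * c = c * m := by
  by_contra hcon
  push Not at hcon
  refine hW (eq_bot_iff.mpr fun x hx => mem_bot.mpr ?_)
  have D := ndata hz hm hzp hrel hfpf (fun x _ => by rw [hme, one_mul, mul_one])
  refine congrArg Subtype.val (D.eq_one_of_no_fixed hcop (fun c hc => ?_) ⟨x, hx⟩)
  by_contra hc1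
  refine hcon c c.2 (fun h => hc1 (Subtype.ext h)) ?_
  exact mul_inv_eq_iff_eq_mul.mp (congrArg Subtype.val hc)

theorem mul_pow_eq (σ : MulAut ↥W) (hσ : ∀ x : ↥W, (σ x : H) = m * x * m⁻¹) (w : ↥W) :
    ∀ e : ℕ, ((w : H) * m) ^ e = (nrm σ e w : H) * m ^ e := by
  intro e
  induction e with
  | zero => simp [nrm]
  | succ e ih =>
    have hs : ∀ (i : ℕ) (x : ↥W), ((σ ^ i) x : H) = m ^ i * x * (m ^ i)⁻¹ := by
      intro i
      induction i with
      | zero => intro x; simp
      | succ i ih2 => intro x; rw [pow_succ', MulAut.mul_apply, hσ, ih2, pow_succ']; group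
    rw [pow_succ, ih, show nrm σ (e + 1) w = nrm σ e w * (σ ^ e) w from Finset.prod_range_succ _ _,
      Subgroup.coe_mul, hs, pow_succ]
    group

/-- If `w m` has the order of `a`, then `w m` is conjugate to `m` by an element of `W`. -/
theorem exists_conj_of_scale (hz : z ∈ normalizer (W : Set H)) (hm : m ∈ normalizer (W : Set H))
    (hzp : z ^ p = 1) (hrel : m * z = z ^ (a : ZMod p).val * m)
    (hfpf : ∀ x ∈ W, z * x = x * z → x = 1) {w : H} (hw : w ∈ W)
    (hwm : (w * m) ^ orderOf a = 1) : ∃ y ∈ W, w * m = y * m * y⁻¹ := by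
  set σ := W.normalizerMonoidHom ⟨m, hm⟩ with hσdef
  have hσ : ∀ x : ↥W, (σ x : H) = m * x * m⁻¹ := fun x => rfl
  have h1 := mul_pow_eq σ hσ ⟨w, hw⟩ (orderOf a)
  rw [show ((⟨w, hw⟩ : ↥W) : H) = w from rfl, hwm] at h1
  have h2 : m ^ orderOf a ∈ W := by
    rw [show m ^ orderOf a = ((nrm σ (orderOf a) ⟨w, hw⟩ : ↥W) : H)⁻¹ from
      eq_inv_of_mul_eq_one_right h1.symm]
    exact inv_mem (SetLike.coe_mem _)
  have h3 : m ^ orderOf a = 1 := by
    refine hfpf _ h2 ?_
    have := scale_pow (τ := z) hzp hrel 1 (orderOf a)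
    rw [ZMod.val_one, pow_one, mul_one, ← Units.val_pow_eq_pow_val, pow_orderOf_eq_one, Units.val_one,
      ZMod.val_one, pow_one] at this
    exact this.symm
  have D := ndata hz hm hzp hrel hfpf (fun x _ => by rw [h3, one_mul, mul_one])
  rw [h3, mul_one] at h1
  obtain ⟨y, hy⟩ := D.exists_of_nrm_eq_one (x := ⟨w, hw⟩) (Subtype.ext h1.symm)
  refine ⟨y, y.2, ?_⟩
  have h4 : w = (y : H) * (m * y * m⁻¹)⁻¹ := by
    have h5 := congrArg (fun x : ↥W => (x : H)) hy
    simp only [div_eq_mul_inv, Subgroup.coe_mul, Subgroup.coe_inv] at h5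
    exact h5
  rw [h4]; group

end Groups

universe u

/-- An element of `s`-power order scaling `z` modulo `K` has a conjugate normalising `⟨z⟩`. -/
theorem exists_conj_normalizes (n : ℕ) : ∀ (L : Type u) [Group L] [Finite L] [Group.IsSolvable L]
    (K : Subgroup L) [K.Normal] (z m : L) (a : (ZMod p)ˣ), Nat.card L = n →
    (Nat.card K).Coprime p → orderOf z = p → m * z * m⁻¹ * (z ^ (a : ZMod p).val)⁻¹ ∈ K →
    m ^ orderOf a = 1 → ∃ k ∈ K, k⁻¹ * m * k ∈ normalizer ((zpowers z : Subgroup L) : Set L) := by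
  induction n using Nat.strong_induction_on with
  | _ n IH =>
  intro L _ _ _ K _ z m a hn hK hz hspec hm
  by_cases hKbot : K = ⊥
  · subst hKbot
    rw [mem_bot, mul_inv_eq_one] at hspec
    exact ⟨1, one_mem _, mem_normalizer_zpowers (by
      simpa using hspec ▸ pow_mem (mem_zpowers z) _)⟩
  obtain ⟨V, hV, hVK⟩ := Fitting.exists_isMinNormal_le (N := K) inferInstance hKbot
  haveI := hV.1
  haveI : IsMulCommutative ↥V := hV.isMulCommutative
  have hVc : (Nat.card V).Coprime p := hK.coprime_dvd_left (card_dvd_of_le hVK)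
  set π := QuotientGroup.mk' V with hπ
  have hzp : z ^ p = 1 := hz ▸ pow_orderOf_eq_one z
  have hπz : orderOf (π z) = p := by
    refine orderOf_eq_prime (by rw [← map_pow, hzp, map_one]) fun h => ?_
    rw [hπ, QuotientGroup.mk'_apply, QuotientGroup.eq_one_iff] at h
    have := Subgroup.orderOf_dvd_natCard V h
    rw [hz] at this
    exact hp.out.ne_one (Nat.eq_one_of_dvd_coprimes hVc this dvd_rfl)
  have hlt : Nat.card (L ⧸ V) < n := by
    have h1 : 1 < Nat.card V := (Subgroup.one_lt_card_iff_ne_bot V).mpr hV.2.1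
    rw [← hn, Subgroup.card_eq_card_quotient_mul_card_subgroup V]
    exact lt_mul_of_one_lt_right Nat.card_pos h1
  haveI : Group.IsSolvable (L ⧸ V) := Group.isSolvable_of_surjective (QuotientGroup.mk'_surjective V)
  haveI : (K.map π).Normal := Subgroup.Normal.map inferInstance π (QuotientGroup.mk'_surjective V)
  obtain ⟨kb, hkb, hnorm⟩ := IH _ hlt (L ⧸ V) (K.map π) (π z) (π m) a rfl
    (hK.coprime_dvd_left (card_map_dvd _ _)) hπz
    (by
      have h := mem_map_of_mem π hspec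
      simpa only [map_mul, map_inv, map_pow] using h)
    (by rw [← map_pow, hm, map_one])
  obtain ⟨k, hk, rfl⟩ := hkb
  set m1 := k⁻¹ * m * k with hm1
  rw [← map_inv, ← map_mul, ← map_mul] at hnorm
  obtain ⟨i, hi⟩ := Coprime.conj_mem_of_mem_normalizer hnorm (mem_zpowers (π z))
  have hZ : zpowers z ≤ normalizer (V : Set L) := le_top.trans (normalizer_eq_top (H := V)).ge
  set z' := m1 * z * m1⁻¹ with hz'
  have hz'mem : zpowers z' ≤ V ⊔ zpowers z := by
    rw [zpowers_le]
    have h1 : z' * (z ^ i)⁻¹ ∈ V := by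
      rw [← QuotientGroup.eq_one_iff, ← QuotientGroup.mk'_apply, hz', map_mul, map_mul, map_mul,
        map_inv, map_inv, map_zpow, ← hπ, mul_inv_eq_one]
      exact hi.symm
    simpa using Subgroup.mul_mem_sup h1 (zpow_mem (mem_zpowers z) i)
  have hcop' : (Nat.card (zpowers z')).Coprime (Nat.card V) := by
    rw [Nat.card_zpowers, hz', show m1 * z * m1⁻¹ = (MulAut.conj m1) z from rfl,
      MulEquiv.orderOf_eq, hz]
    exact hVc.symm
  obtain ⟨v0, hv0, hv⟩ := Coprime.exists_conj_le_of_le_sup (zpowers z') V (zpowers z)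
    (le_top.trans (normalizer_eq_top (H := V)).ge) hZ hcop' (Or.inr (by infer_instance)) hz'mem
  have hin : v0 * z' * v0⁻¹ ∈ zpowers z := hv z' (mem_zpowers z')
  have hrel0 : v0 * m1 * z * (v0 * m1)⁻¹ = z ^ (a : ZMod p).val := by
    have h1 : v0 * m1 * z * (v0 * m1)⁻¹ * (z ^ (a : ZMod p).val)⁻¹ ∈ zpowers z ⊓ K := by
      refine ⟨mul_mem (by rw [show v0 * m1 * z * (v0 * m1)⁻¹ = v0 * z' * v0⁻¹ by rw [hz']; group]
                          exact hin) ((zpowers z).inv_mem (pow_mem (mem_zpowers z) _)), ?_⟩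
      have h2 : (QuotientGroup.mk' K) (v0 * m1 * z * (v0 * m1)⁻¹ * (z ^ (a : ZMod p).val)⁻¹) =
          (QuotientGroup.mk' K) (m * z * m⁻¹ * (z ^ (a : ZMod p).val)⁻¹) := by
        have e1 : (QuotientGroup.mk' K) v0 = 1 := (QuotientGroup.eq_one_iff _).mpr (hVK hv0)
        have e2 : (QuotientGroup.mk' K) k = 1 := (QuotientGroup.eq_one_iff _).mpr hk
        simp only [hm1, map_mul, map_inv, e1, e2, one_mul, mul_one, inv_one]
      rw [show (QuotientGroup.mk' K) (m * z * m⁻¹ * (z ^ (a : ZMod p).val)⁻¹) = 1 from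
        (QuotientGroup.eq_one_iff _).mpr hspec] at h2
      exact (QuotientGroup.eq_one_iff _).mp h2
    have hcK : (Nat.card (zpowers z)).Coprime (Nat.card K) := by
      rw [Nat.card_zpowers, hz]; exact hK.symm
    exact mul_inv_eq_one.mp (Coprime.inf_eq_bot_of_coprime' hcK h1.1 h1.2)
  obtain ⟨x, hx, c, hc, hxc⟩ := Coprime.exists_commutator_mul_centralizer (zpowers z) V hZ
    (by rw [Nat.card_zpowers, hz]; exact hVc.symm) (Or.inr (by infer_instance)) v0 hv0
  have hxV : x ∈ V := Coprime.commutator_le_of_le_normalizer hZ hx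
  have hcz : z * c = c * z := mem_centralizer_iff.mp hc.2 z (mem_zpowers z)
  set m2 := x * m1 with hm2
  have hrel : m2 * z = z ^ (a : ZMod p).val * m2 := by
    have e : v0 * m1 = c * m2 := by
      rw [hxc, hm2, show x * c = c * x from
        congrArg Subtype.val (mul_comm' (⟨x, hxV⟩ : ↥V) ⟨c, hc.1⟩), mul_assoc]
    rw [e, mul_inv_eq_iff_eq_mul] at hrel0
    have h2 : z ^ (a : ZMod p).val * c = c * z ^ (a : ZMod p).val :=
      ((show Commute z c from hcz).pow_left _).eq
    rw [← mul_assoc (z ^ _) c, h2, mul_assoc c, mul_assoc c] at hrel0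
    exact mul_left_cancel hrel0
  set W := ⁅V, zpowers z⁆ with hW
  have hWV : W ≤ V := Coprime.commutator_le_of_le_normalizer hZ
  haveI : IsMulCommutative ↥W := ⟨⟨fun u v => Subtype.ext
    (congrArg Subtype.val (mul_comm' (⟨u, hWV u.2⟩ : ↥V) ⟨v, hWV v.2⟩) : _)⟩⟩
  have hm2N : m2 ∈ normalizer ((zpowers z : Subgroup L) : Set L) := mem_normalizer_zpowers (by
    rw [hrel, mul_inv_cancel_right]; exact pow_mem (mem_zpowers z) _)
  have hm2W : m2 ∈ normalizer (W : Set L) := by
    rw [Subgroup.mem_normalizer_iff_map_conj_eq, hW, map_commutator,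
      Subgroup.mem_normalizer_iff_map_conj_eq.mp hm2N,
      Subgroup.mem_normalizer_iff_map_conj_eq.mp ((normalizer_eq_top (H := V)).ge (mem_top m2))]
  have hfpf : ∀ y ∈ W, z * y = y * z → y = 1 := fun y hy hyz => by
    have : y ∈ W ⊓ centralizer ((zpowers z : Subgroup L) : Set L) := ⟨hy, by
      refine mem_centralizer_iff.mpr fun b hb => ?_
      obtain ⟨j, rfl⟩ := hb
      exact ((show Commute z y from hyz).zpow_left j).eq⟩
    rwa [hW, Coprime.commutator_inf_centralizer_eq_bot (zpowers z) V hZ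
      (by rw [Nat.card_zpowers, hz]; exact hVc.symm), mem_bot] at this
  have hm1e : (x⁻¹ * m2) ^ orderOf a = 1 := by
    rw [hm2, inv_mul_cancel_left, hm1, show k⁻¹ * m * k = k⁻¹ * m * k⁻¹⁻¹ by rw [inv_inv], conj_pow,
      hm, mul_one, mul_inv_cancel]
  obtain ⟨y, hy, hye⟩ := exists_conj_of_scale
    (Coprime.le_normalizer_commutator_right (zpowers z) V (mem_zpowers z)) hm2W hzp hrel hfpf
    (inv_mem hx) hm1e
  rw [hm2, inv_mul_cancel_left] at hye
  refine ⟨k * y, mul_mem hk (hVK (hWV hy)), ?_⟩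
  rw [show (k * y)⁻¹ * m * (k * y) = y⁻¹ * m1 * y by rw [hm1]; group, hye,
    show y⁻¹ * (y * (x * m1) * y⁻¹) * y = x * m1 by group]
  exact hm2N

end Cfsg.Agent.TwoGen81
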