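import Cfsg.Agent.TwoGen81.CycChi
import Cfsg.Agent.TwoGen81.Norm
import Mathlib.RingTheory.IntegralDomain
import Mathlib.FieldTheory.Finite.Basic

/-!
The primes of the action on a subgroup of order `p`, and elements of maximal `s`-power order.
-/

set_option autoImplicit false
set_option linter.all false

open Subgroup
open scoped commutatorElement Pointwise

namespace Cfsg.Agent.TwoGen81

variable {G : Type*} [Group G] [Finite G]

/-- `N(⟨z⟩)`. -/
abbrev Nz (z : G) : Subgroup G := normalizer ((zpowers z : Subgroup G) : Set G)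

theorem mem_Nz (z : G) : z ∈ Nz z := le_normalizer (mem_zpowers z)

/-- An element of `s`-power order. -/
def IsPEl (s : ℕ) (x : G) : Prop := ∃ k : ℕ, x ^ s ^ k = 1

theorem IsPEl.isPGroup {s : ℕ} [Fact s.Prime] {x : G} (h : IsPEl s x) : IsPGroup s ↥(zpowers x) :=
  isPGroup_zpowers h.choose_spec

theorem IsPEl.of_mem {s : ℕ} {X : Subgroup G} (hX : IsPGroup s ↥X) {x : G} (hx : x ∈ X) :
    IsPEl s x := by
  obtain ⟨k, hk⟩ := hX ⟨x, hx⟩
  exact ⟨k, congrArg Subtype.val hk⟩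

theorem IsPEl.conj {s : ℕ} {x : G} (h : IsPEl s x) (g : G) : IsPEl s (g * x * g⁻¹) := by
  obtain ⟨k, hk⟩ := h
  exact ⟨k, by rw [conj_pow, hk, mul_one, mul_inv_cancel]⟩

theorem IsPEl.coprime {s p : ℕ} [hs : Fact s.Prime] [hp : Fact p.Prime] {x : G} (h : IsPEl s x)
    (hsp : s ≠ p) : (orderOf x).Coprime p := by
  obtain ⟨k, hk⟩ := h
  obtain ⟨j, -, hj⟩ := (Nat.dvd_prime_pow hs.out).mp (orderOf_dvd_of_pow_eq_one hk)
  rw [hj]
  exact Nat.Coprime.pow_left j ((Nat.coprime_primes hs.out hp.out).mpr hsp)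

/-- Burnside: some `s'`-element of `N(S)` moves an element of the abelian Sylow subgroup `S`. -/
theorem exists_norm_not_central (h : Ctx G) {s : ℕ} [Fact s.Prime] (S : Sylow s G)
    (hS : (S : Subgroup G) ≠ ⊥)
    (hc : ∀ a ∈ (S : Subgroup G), ∀ b ∈ (S : Subgroup G), a * b = b * a) :
    ∃ b ∈ normalizer ((S : Subgroup G) : Set G), (orderOf b).Coprime s ∧
      ∃ x ∈ (S : Subgroup G), b * x ≠ x * b := by
  by_contra hcon
  push Not at hcon
  haveI := h.simple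
  have hle : normalizer ((S : Subgroup G) : Set G) ≤ centralizer ((S : Subgroup G) : Set G) := by
    intro w hw
    obtain ⟨a, b, ha, hb, rfl, hap, hbp⟩ := PLocalB.exists_p_pprime_mul (p := s) w
    have haN : a ∈ normalizer ((S : Subgroup G) : Set G) := (zpowers_le.mpr hw) ha
    have hbN : b ∈ normalizer ((S : Subgroup G) : Set G) := (zpowers_le.mpr hw) hb
    have haP : a ∈ (S : Subgroup G) := by
      have hsup : IsPGroup s ↥(zpowers a ⊔ (S : Subgroup G)) :=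
        hap.to_sup_of_normal_right' S.isPGroup' (zpowers_le.mpr haN)
      rw [← S.is_maximal' hsup le_sup_right]
      exact mem_sup_left (mem_zpowers a)
    refine mem_centralizer_iff.mpr fun x hx => ?_
    rw [← mul_assoc, hc x hx a haP, mul_assoc,
      ← hcon b hbN (by rwa [← Nat.card_zpowers]) x hx, mul_assoc]
  have hco := MonoidHom.ker_transferSylow_isComplement' S hle
  rcases (inferInstance : (MonoidHom.transferSylow S hle).ker.Normal).eq_bot_or_eq_top with hk | hk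
  · rw [hk] at hco
    have h5 := hco.card_mul
    rw [Subgroup.card_bot, one_mul] at h5
    exact normal_ne_top h (Coprime.isSolvable_of_isNilpotent' S.isPGroup'.isNilpotent)
      (Subgroup.eq_top_of_card_eq _ h5)
  · rw [hk] at hco
    exact hS (eq_bot_iff.mpr fun x hx => hco.disjoint.le_bot ⟨mem_top x, hx⟩)

variable {p : ℕ} [hp : Fact p.Prime] {z : G}

/-- `χ` on `N(⟨z⟩)`. -/
noncomputable abbrev chN (p : ℕ) [Fact p.Prime] (z : G) (m : G) : ZMod p := chi z (Nz z) m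

namespace Dat

variable (D : Dat p z)
include D

/-- `χ` as a homomorphism on `N(⟨z⟩)`. -/
noncomputable def chNHom : ↥(Nz z) →* (ZMod p)ˣ := D.chiHom D.ne_top_N (mem_Nz z)

theorem coe_chNHom {m : G} (hm : m ∈ Nz z) :
    ((D.chNHom ⟨m, hm⟩ : (ZMod p)ˣ) : ZMod p) = chN p z m := rfl

theorem orderOf_chN {m : G} (hm : m ∈ Nz z) : orderOf (chN p z m) = orderOf (D.chNHom ⟨m, hm⟩) := by
  rw [← D.coe_chNHom hm, orderOf_units]

theorem chi_pow {L : Subgroup G} (hL : L ≠ ⊤) (hzL : z ∈ L) {m : G} (hm : m ∈ L) (k : ℕ) :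
    (chi z L (m ^ k) : ZMod p) = chi z L m ^ k := by
  induction k with
  | zero => rw [pow_zero, pow_zero, D.chi_one hL hzL]
  | succ k ih => rw [pow_succ, pow_succ, D.chi_mul hL hzL (pow_mem hm k) hm, ih]

theorem chN_pow {m : G} (hm : m ∈ Nz z) (k : ℕ) : chN p z (m ^ k) = chN p z m ^ k :=
  D.chi_pow D.ne_top_N (mem_Nz z) hm k

theorem chN_spec {m : G} (hm : m ∈ Nz z) : m * z * m⁻¹ = zp z (chN p z m) := by
  have h2 := D.chi_spec D.ne_top_N (mem_Nz z) hm
  have h3 : m * z * m⁻¹ * (zp z (chN p z m))⁻¹ ∈ zpowers z :=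
    mul_mem (Coprime.conj_mem_of_mem_normalizer hm (mem_zpowers z)) (inv_mem (D.zp_mem _))
  exact mul_inv_eq_one.mp (Coprime.inf_eq_bot_of_coprime'
    (zpowers_coprime_of_pgroup (isPGroup_zpowers (n := 1) (by rw [pow_one]; exact D.pow_p))
      (OP_coprime p (Nz z))) h3 h2)

theorem commute_of_chN_one {m : G} (hm : m ∈ Nz z) (h1 : chN p z m = 1) : Commute m z := by
  have h := D.chN_spec hm
  rw [h1, D.zp_one] at h
  exact mul_inv_eq_iff_eq_mul.mp h

theorem chN_of_commute {m : G} (hm : Commute m z) : m ∈ Nz z ∧ chN p z m = 1 := by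
  have h : m * z * m⁻¹ = z := mul_inv_eq_iff_eq_mul.mpr hm.eq
  have hmem : m ∈ Nz z := mem_normalizer_zpowers (by rw [h]; exact mem_zpowers z)
  refine ⟨hmem, D.chi_eq D.ne_top_N (mem_Nz z) hmem ?_⟩
  show m * z * m⁻¹ * (zp z (1 : ZMod p))⁻¹ ∈ _
  rw [D.zp_one, h, mul_inv_cancel]
  exact one_mem _

/-- Frattini: `χ_L` takes its values on `N(⟨z⟩)`. -/
theorem exists_norm_eq {L : Subgroup G} (hL : L ≠ ⊤) (hzL : z ∈ L) {m : G} (hm : m ∈ L) :
    ∃ m' ∈ Nz z, chN p z m' = chi z L m := by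
  obtain ⟨t, ht, a, ha⟩ := D.exists_conj_eq_zp hL hzL (mul_mem (mul_mem hm hzL) (inv_mem hm))
    (D.conj_pow_p m)
  have htm : t * m ∈ Nz z := mem_normalizer_zpowers (by
    rw [show t * m * z * (t * m)⁻¹ = t * (m * z * m⁻¹) * t⁻¹ by group, ha]
    exact D.zp_mem a)
  refine ⟨t * m, htm, ?_⟩
  show chi z (Nz z) (t * m) = _
  rw [← D.chi_agree hL hzL D.ne_top_N (mem_Nz z) (mul_mem (OP_le p L ht) hm) htm,
    D.chi_mul hL hzL (OP_le p L ht) hm, D.chi_of_mem_OP hL hzL ht, one_mul]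

theorem ne_p_of_dvd {s : ℕ} [hs : Fact s.Prime] {m : G} (hm : m ∈ Nz z)
    (hd : s ∣ orderOf (chN p z m)) : s ≠ p := by
  rintro rfl
  rw [D.orderOf_chN hm] at hd
  have h1 := hd.trans (orderOf_dvd_of_pow_eq_one (ZMod.units_pow_card_sub_one_eq_one s _))
  have := Nat.le_of_dvd (by have := D.five; omega) h1
  have := D.five
  omega

theorem dvd_of_pel {s : ℕ} [hs : Fact s.Prime] {m : G} (hm : m ∈ Nz z) (hme : IsPEl s m)
    (h1 : chN p z m ≠ 1) : s ∣ orderOf (chN p z m) := by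
  obtain ⟨k, hk⟩ := hme
  have h2 : chN p z m ^ s ^ k = 1 := by
    rw [← D.chN_pow hm, hk]; exact D.chi_one D.ne_top_N (mem_Nz z)
  obtain ⟨j, -, hj⟩ := (Nat.dvd_prime_pow hs.out).mp (orderOf_dvd_of_pow_eq_one h2)
  rcases Nat.eq_zero_or_pos j with rfl | hjpos
  · rw [pow_zero, orderOf_eq_one_iff] at hj; exact absurd hj h1
  · rw [hj]; exact dvd_pow_self s (by omega)

/-- Only the primes `2` and `3` can divide the order of the action. -/
theorem chN_eq_one_of_five_le {s : ℕ} [hs : Fact s.Prime] (h5 : 5 ≤ s) {n : G} (hn : n ∈ Nz z)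
    (hne : IsPEl s n) : chN p z n = 1 := by
  by_contra h1
  have hsd := D.dvd_of_pel hn hne h1
  obtain ⟨S, hS⟩ := IsPGroup.exists_le_sylow hne.isPGroup
  have hnS : n ∈ (S : Subgroup G) := hS (mem_zpowers n)
  haveI := D.cyc s hs.out h5 S
  obtain ⟨σ, hσ⟩ := IsCyclic.exists_generator (α := ↥(S : Subgroup G))
  have hcomm : ∀ a ∈ (S : Subgroup G), ∀ b ∈ (S : Subgroup G), a * b = b * a := fun a ha b hb =>
    congrArg Subtype.val (mul_comm' (⟨a, ha⟩ : ↥(S : Subgroup G)) ⟨b, hb⟩)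
  have hSne : (S : Subgroup G) ≠ ⊥ := fun h => h1 (by
    rw [show n = 1 from mem_bot.mp (h ▸ hnS)]; exact D.chi_one D.ne_top_N (mem_Nz z))
  obtain ⟨w, hw, hws, x, hx, hxw⟩ := exists_norm_not_central D.h S hSne hcomm
  obtain ⟨i, hi⟩ := mem_zpowers_iff.mp (hσ ⟨w * σ * w⁻¹,
    Coprime.conj_mem_of_mem_normalizer hw σ.2⟩)
  have hconj : ∀ y ∈ (S : Subgroup G), w * y * w⁻¹ = y ^ i := by
    intro y hy
    obtain ⟨j, hj⟩ := mem_zpowers_iff.mp (hσ ⟨y, hy⟩)
    have hi' : (σ : G) ^ i = w * σ * w⁻¹ := by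
      simpa using congrArg Subtype.val hi
    have hj' : (σ : G) ^ j = y := by simpa using congrArg Subtype.val hj
    rw [← hj', ← conj_zpow, ← hi', ← zpow_mul, ← zpow_mul, mul_comm]
  have hwn : w * n * w⁻¹ ∈ Nz z := by rw [hconj n hnS]; exact zpow_mem hn i
  have hinv := D.chi_invariant D.ne_top_N (mem_Nz z) hn hwn
  set u := D.chNHom ⟨n, hn⟩ with hu
  have hui : u ^ i = u := by
    rw [hu, ← map_zpow]
    refine Units.ext ?_
    rw [show (⟨n, hn⟩ : ↥(Nz z)) ^ i = ⟨w * n * w⁻¹, hwn⟩ from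
      Subtype.ext (by rw [SubgroupClass.coe_zpow]; exact (hconj n hnS).symm)]
    exact hinv
  have hdiv : (s : ℤ) ∣ i - 1 := by
    refine (Int.natCast_dvd_natCast.mpr ?_).trans
      ((orderOf_dvd_iff_zpow_eq_one (x := u)).mpr (by rw [zpow_sub_one, hui, mul_inv_cancel]))
    rwa [← D.orderOf_chN hn]
  refine hxw (centralises_of_omega S.isPGroup' hcomm hw hws (fun y hy hys => ?_) x hx)
  obtain ⟨j, hj⟩ := hdiv
  refine mul_inv_eq_iff_eq_mul.mp ?_
  rw [hconj y hy, show i = (s : ℤ) * j + 1 by omega, zpow_add, zpow_mul, zpow_natCast, hys, one_zpow,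
    one_mul, zpow_one]

/-- A subgroup through `z` of maximal `s`-part has `O_{p'}` of order prime to `s`. -/
theorem not_dvd_OP_of_max {s : ℕ} [hs : Fact s.Prime] {n : G} (hn : n ∈ Nz z) (hne : IsPEl s n)
    (h1 : chN p z n ≠ 1) {L : Subgroup G} (hL : L ≠ ⊤) (hzL : z ∈ L) (S1 : Sylow s ↥L)
    (hmax : ∀ M : Subgroup G, M ≠ ⊤ → z ∈ M → ∀ X : Subgroup G, X ≤ M → IsPGroup s ↥X →
      Nat.card ↥X ≤ Nat.card ↥(S1 : Subgroup ↥L)) :
    ¬ s ∣ Nat.card ↥(OP p L) := by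
  intro hdvd
  have hsp : s ≠ p := D.ne_p_of_dvd hn (D.dvd_of_pel hn hne h1)
  haveI := D.h.psolv L hL
  set O := OP p L with hO
  have hzO : zpowers z ≤ normalizer (O : Set G) := zpowers_le.mpr (le_normalizer_OP p L hzL)
  obtain ⟨T0, hT0⟩ := Coprime.exists_invariant_sylow (zpowers z) O hzO
    (zpowers_coprime_of_pgroup (isPGroup_zpowers (n := 1) (by rw [pow_one]; exact D.pow_p))
      (OP_coprime p L)) (Or.inl (isSolvable_zpowers z)) s
  set T := (T0 : Subgroup ↥O).map O.subtype with hT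
  have hTO : T ≤ O := map_subtype_le _
  have hTL : T ≤ L := hTO.trans (OP_le p L)
  have hTp : IsPGroup s ↥T := T0.isPGroup'.map _
  obtain ⟨S, hTS⟩ := IsPGroup.exists_le_sylow
    (hTp.of_equiv (subgroupOfEquivOfLe hTL).symm : IsPGroup s ↥(T.subgroupOf L))
  -- replace the given Sylow subgroup by one containing `T`
  have hcard : Nat.card ↥(S : Subgroup ↥L) = Nat.card ↥(S1 : Subgroup ↥L) :=
    Nat.card_congr (Sylow.equiv S S1).toEquiv
  set X := (S : Subgroup ↥L).map L.subtype with hX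
  have hXc : Nat.card ↥X = Nat.card ↥(S1 : Subgroup ↥L) := by
    rw [hX, Subgroup.card_subtype, hcard]
  have hTX : T ≤ X := fun a ha => ⟨⟨a, hTL ha⟩, hTS (mem_subgroupOf.mpr ha), rfl⟩
  have hXp : IsPGroup s ↥X := S.isPGroup'.map _
  have hXO : X ⊓ O ≤ T := by
    intro a ha
    have hsub : T.subgroupOf O ≤ (X ⊓ O).subgroupOf O := fun b hb =>
      mem_subgroupOf.mpr ⟨hTX (mem_subgroupOf.mp hb), b.2⟩
    have hT0' : T.subgroupOf O = (T0 : Subgroup ↥O) := by
      rw [hT, subgroupOf, comap_map_eq_self_of_injective O.subtype_injective]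
    have h2 := T0.is_maximal' ((hXp.to_le inf_le_left).of_equiv
      (subgroupOfEquivOfLe (inf_le_right : X ⊓ O ≤ O)).symm) (hT0' ▸ hsub)
    have h3 : (⟨a, ha.2⟩ : ↥O) ∈ (T0 : Subgroup ↥O) :=
      h2 ▸ mem_subgroupOf.mpr (show ((⟨a, ha.2⟩ : ↥O) : G) ∈ X ⊓ O from ha)
    exact ⟨_, h3, rfl⟩
  obtain ⟨P, hXP⟩ := IsPGroup.exists_le_sylow hXp
  have hXlt : X < (P : Subgroup G) := by
    refine lt_of_le_of_ne hXP fun he => ?_
    have hidx : ¬ s ∣ L.index := by
      intro hd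
      have h2 := P.not_dvd_index
      refine h2 (hd.trans ?_)
      rw [← he]
      exact index_dvd_of_le (map_subtype_le _)
    obtain ⟨k, hk⟩ := hne
    have h3 : chN p z n ^ s ^ k = 1 := by
      rw [← D.chN_pow hn, hk]; exact D.chi_one D.ne_top_N (mem_Nz z)
    have h4 := D.chi_pow_index hL hzL hn
    exact h1 (orderOf_eq_one_iff.mp (Nat.eq_one_of_dvd_coprimes
      (Nat.Coprime.pow_left k (hs.out.coprime_iff_not_dvd.mpr hidx))
      (orderOf_dvd_of_pow_eq_one h3) (orderOf_dvd_of_pow_eq_one h4)))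
  set M0 := (P : Subgroup G) ⊓ normalizer (X : Set G) with hM0
  have hXM0 : X < M0 := lt_inf_normalizer P.isPGroup' hXlt
  set R := closure {x : G | x ∈ T ∧ x ^ s = 1} with hR
  have hRT : R ≤ T := (closure_le _).mpr fun x hx => hx.1
  have hRne : R ≠ ⊥ := by
    intro hRb
    have hsT : s ∣ Nat.card ↥T := by
      rw [hT, Subgroup.card_subtype]
      exact T0.dvd_card_of_dvd_card hdvd
    obtain ⟨x, hx⟩ := exists_prime_orderOf_dvd_card' s hsT
    have hxR : (x : G) ∈ R := subset_closure ⟨x.2, by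
      have := pow_orderOf_eq_one x
      rw [hx] at this
      exact congrArg Subtype.val this⟩
    rw [hRb, mem_bot] at hxR
    rw [show x = 1 from Subtype.ext hxR, orderOf_one] at hx
    exact hs.out.ne_one hx.symm
  have hRt : R ≠ ⊤ := fun h => hL (top_le_iff.mp (h ▸ hRT.trans hTL))
  have hzR : z ∈ normalizer (R : Set G) := by
    have hzT : ∀ a ∈ zpowers z, ∀ x, x ∈ T → a * x * a⁻¹ ∈ T := fun a ha x hx =>
      Coprime.conj_mem_of_mem_normalizer (hT0 ha) hx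
    refine Coprime.le_normalizer_of_conj_mem (A := zpowers z) (fun a ha => ?_) (mem_zpowers z)
    intro x hx
    induction hx using closure_induction with
    | mem x hx => exact subset_closure ⟨hzT a ha x hx.1, by rw [conj_pow, hx.2, mul_one, mul_inv_cancel]⟩
    | one => simp
    | mul x y _ _ hx hy => simpa [mul_assoc] using mul_mem hx hy
    | inv x _ hx => simpa [mul_assoc] using inv_mem hx
  have hM0R : M0 ≤ normalizer (R : Set G) := by
    refine Coprime.le_normalizer_of_conj_mem fun a ha => ?_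
    intro x hx
    induction hx using closure_induction with
    | one => simp
    | mul x y _ _ hx hy => simpa [mul_assoc] using mul_mem hx hy
    | inv x _ hx => simpa [mul_assoc] using inv_mem hx
    | mem x hx =>
      have hmX : a * x * a⁻¹ ∈ X := Coprime.conj_mem_of_mem_normalizer ha.2 (hTX hx.1)
      have hmL : a * x * a⁻¹ ∈ L := map_subtype_le _ hmX
      have hms : (a * x * a⁻¹) ^ s = 1 := by rw [conj_pow, hx.2, mul_one, mul_inv_cancel]
      by_cases hc : (chi z L (a * x * a⁻¹) : ZMod p) = 1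
      · refine subset_closure ⟨hXO ⟨hmX, ?_⟩, hms⟩
        exact D.mem_OP_of_chi_one hL hzL hmL
          (IsPEl.coprime (s := s) ⟨1, by rwa [pow_one]⟩ hsp) hc
      exfalso
      set m : ↥L := ⟨a * x * a⁻¹, hmL⟩ with hm
      set z' : ↥L := ⟨z, hzL⟩ with hz'
      set b := D.chiHom hL hzL m with hb
      have hbs : b ^ s = 1 := by
        rw [hb, ← map_pow, show m ^ s = 1 from Subtype.ext hms, map_one]
      have hbo : orderOf b = s := orderOf_eq_prime hbs (fun h => hc (congrArg Units.val h))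
      obtain ⟨k, hk, hnorm⟩ := exists_conj_normalizes (p := p) (Nat.card ↥L) ↥L
        (Cfsg.pPrimeCore p ↥L) z' m b rfl Thompson.card_pPrimeCore_coprime
        (by rw [← Subgroup.orderOf_coe]; exact D.ord)
        (by
          have h2 := D.chi_spec hL hzL hmL
          obtain ⟨y, hy, hy2⟩ := h2
          have h3 : y = m * z' * m⁻¹ * (z' ^ (b : ZMod p).val)⁻¹ :=
            Subtype.ext (by rw [show ((y : ↥L) : G) = _ from hy2]; rfl)
          exact h3 ▸ hy)
        (by rw [hbo]; exact Subtype.ext hms)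
      have hkO : (k : G) ∈ O := ⟨k, hk, rfl⟩
      set n' := (k : G)⁻¹ * (a * x * a⁻¹) * k with hn'
      have hn'N : n' ∈ Nz z := by
        refine mem_normalizer_zpowers ?_
        obtain ⟨i, hi⟩ := mem_zpowers_iff.mp
          (Coprime.conj_mem_of_mem_normalizer hnorm (mem_zpowers z'))
        refine ⟨i, ?_⟩
        have h2 := congrArg Subtype.val hi
        simp only [SubgroupClass.coe_zpow, Subgroup.coe_mul, Subgroup.coe_inv] at h2
        exact h2
      have hn'L : n' ∈ L := mul_mem (mul_mem (inv_mem k.2) hmL) k.2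
      have hxL : x ∈ L := hTL hx.1
      have h5 : x = a⁻¹ * k * n' * (a⁻¹ * k)⁻¹ := by rw [hn']; group
      have h6 := D.chi_invariant hL hzL hn'N (g := a⁻¹ * k) (h5 ▸ hxL)
      rw [← h5, D.chi_of_mem_OP hL hzL (hTO hx.1),
        ← D.chi_agree hL hzL D.ne_top_N (mem_Nz z) hn'L hn'N, hn'] at h6
      have h7 := D.chi_conj hL hzL (inv_mem k.2) hmL
      rw [inv_inv] at h7
      exact hc (h7 ▸ h6.symm)
  have hN : normalizer (R : Set G) ≠ ⊤ := normalizer_ne_top D.h hRne hRt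
  have h8 := hmax _ hN hzR M0 hM0R (P.isPGroup'.to_le inf_le_left)
  have h9 : Nat.card ↥X < Nat.card ↥M0 := Set.Finite.card_lt_card (Set.toFinite _) hXM0
  omega

end Dat

/-- An element of `N(⟨z⟩)` whose action bounds every `s`-subgroup beside `z`. -/
structure MaxEl (p : ℕ) [Fact p.Prime] (z : G) (s : ℕ) (n : G) : Prop where
  mem : n ∈ Nz z
  pel : IsPEl s n
  ne : chN p z n ≠ 1
  bound : ∀ L : Subgroup G, L ≠ ⊤ → z ∈ L → ∀ X : Subgroup G, X ≤ L → IsPGroup s ↥X →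
    Nat.card ↥X ≤ orderOf (chN p z n)

namespace MaxEl

variable {s : ℕ} [hs : Fact s.Prime] {n : G} (hM : MaxEl p z s n) (D : Dat p z)
include hM D

theorem orderOf_eq : orderOf n = orderOf (chN p z n) := by
  refine Nat.dvd_antisymm ?_ ?_
  · obtain ⟨k, hk⟩ := hM.pel
    obtain ⟨i, -, hi⟩ := (Nat.dvd_prime_pow hs.out).mp (orderOf_dvd_of_pow_eq_one hk)
    have h2 := hM.bound _ D.ne_top_N (mem_Nz z) (zpowers n) (zpowers_le.mpr hM.mem) hM.pel.isPGroup
    rw [Nat.card_zpowers, hi] at h2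
    have h3 : chN p z n ^ s ^ i = 1 := by
      rw [← D.chN_pow hM.mem, ← hi, pow_orderOf_eq_one]; exact D.chi_one D.ne_top_N (mem_Nz z)
    obtain ⟨j, hji, hj⟩ := (Nat.dvd_prime_pow hs.out).mp (orderOf_dvd_of_pow_eq_one h3)
    rw [hj] at h2
    rw [hi, hj]
    exact pow_dvd_pow s ((Nat.pow_le_pow_iff_right hs.out.one_lt).mp h2)
  · refine orderOf_dvd_of_pow_eq_one ?_
    rw [← D.chN_pow hM.mem, pow_orderOf_eq_one]; exact D.chi_one D.ne_top_N (mem_Nz z)

theorem not_dvd {L : Subgroup G} (hL : L ≠ ⊤) (hzL : z ∈ L) (hnL : n ∈ L) :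
    ¬ s ∣ Nat.card ↥(OP p L) := by
  intro hd
  rw [OP, Subgroup.card_subtype] at hd
  obtain ⟨x, hx⟩ := exists_prime_orderOf_dvd_card' s hd
  have hxs : ((x : ↥L) : ↥L) ^ s ^ 1 = 1 := by
    have := pow_orderOf_eq_one x
    rw [hx] at this
    rw [pow_one]; exact congrArg Subtype.val this
  obtain ⟨S, hS⟩ := IsPGroup.exists_le_sylow
    (hM.pel.isPGroup.of_equiv (subgroupOfEquivOfLe (zpowers_le.mpr hnL)).symm :
      IsPGroup s ↥((zpowers n).subgroupOf L))
  obtain ⟨Q, hQ⟩ := IsPGroup.exists_le_sylow (isPGroup_zpowers (x := (x : ↥L)) (n := 1) hxs)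
  obtain ⟨g, hg⟩ := MulAction.exists_smul_eq ↥L Q S
  set y : ↥L := g * x * g⁻¹ with hy
  have hyS : y ∈ (S : Subgroup ↥L) := by
    rw [← hg, Sylow.coe_subgroup_smul]
    exact Subgroup.smul_mem_pointwise_smul _ (MulAut.conj g) _ (hQ (mem_zpowers _))
  have hyO : y ∈ Cfsg.pPrimeCore p ↥L := Subgroup.Normal.conj_mem inferInstance _ x.2 g
  have hle : zpowers n ≤ (S : Subgroup ↥L).map L.subtype := by
    rw [zpowers_le]
    exact ⟨⟨n, hnL⟩, hS (mem_subgroupOf.mpr (mem_zpowers n)), rfl⟩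
  have he : zpowers n = (S : Subgroup ↥L).map L.subtype := by
    refine eq_of_le_of_card_ge hle ?_
    rw [Nat.card_zpowers, hM.orderOf_eq D]
    exact hM.bound L hL hzL _ (map_subtype_le _) (S.isPGroup'.map _)
  have hyn : (y : G) ∈ zpowers n := he ▸ ⟨y, hyS, rfl⟩
  obtain ⟨i, hi⟩ := (isOfFinOrder_of_finite n).mem_powers_iff_mem_zpowers.mpr hyn
  have h1 : (chi z L (y : G) : ZMod p) = 1 := D.chi_of_mem_OP hL hzL ⟨y, hyO, rfl⟩
  rw [← show n ^ i = (y : G) from hi, D.chi_agree hL hzL D.ne_top_N (mem_Nz z) (pow_mem hnL i)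
    (pow_mem hM.mem i)] at h1
  have h2 : orderOf n ∣ i := by
    rw [hM.orderOf_eq D]
    exact orderOf_dvd_of_pow_eq_one ((D.chN_pow hM.mem i).symm.trans h1)
  have hy1 : y = 1 := Subtype.ext (by
    rw [← show n ^ i = (y : G) from hi]; exact orderOf_dvd_iff_pow_eq_one.mp h2)
  have hx1 : (x : ↥L) = 1 := by
    rw [hy] at hy1
    exact (mul_eq_left (a := g)).mp (mul_inv_eq_one.mp hy1)
  rw [show x = 1 from Subtype.ext hx1, orderOf_one] at hx
  exact hs.out.ne_one hx.symm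

theorem conj {c : G} (hc : Commute c z) : MaxEl p z s (c * n * c⁻¹) := by
  have hcN := (D.chN_of_commute hc).1
  have he : chN p z (c * n * c⁻¹) = chN p z n := D.chi_conj D.ne_top_N (mem_Nz z) hcN hM.mem
  exact ⟨mul_mem (mul_mem hcN hM.mem) (inv_mem hcN), hM.pel.conj c, he ▸ hM.ne, he ▸ hM.bound⟩

end MaxEl

namespace Dat

variable (D : Dat p z)
include D

theorem exists_gen : ∃ n1 ∈ Nz z, ∀ m ∈ Nz z, ∃ j : ℕ, chN p z m = chN p z n1 ^ j := by
  obtain ⟨⟨v, n1, rfl⟩, hv⟩ := IsCyclic.exists_generator (α := ↥(D.chNHom).range)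
  refine ⟨n1, n1.2, fun m hm => ?_⟩
  obtain ⟨j, hj⟩ := (isOfFinOrder_of_finite (⟨D.chNHom n1, n1, rfl⟩ : ↥(D.chNHom).range)).mem_powers_iff_mem_zpowers.mpr
    (hv ⟨D.chNHom ⟨m, hm⟩, ⟨m, hm⟩, rfl⟩)
  have h2 := congrArg (fun q : ↥(D.chNHom).range => ((q : (ZMod p)ˣ) : ZMod p)) hj
  exact ⟨j, (by simpa [D.coe_chNHom] using h2.symm)⟩

/-- Maximal elements for every prime of the action. -/
theorem exists_max {n1 : G} (hn1 : n1 ∈ Nz z)
    (hgen : ∀ m ∈ Nz z, ∃ j : ℕ, chN p z m = chN p z n1 ^ j) {s : ℕ} [hs : Fact s.Prime]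
    (hsd : s ∣ orderOf (chN p z n1)) :
    ∃ n ∈ zpowers n1, MaxEl p z s n := by
  have hsp := D.ne_p_of_dvd hn1 hsd
  obtain ⟨K, o, ho, hKo⟩ := Nat.exists_eq_pow_mul_and_not_dvd (orderOf_pos n1).ne' s hs.out.ne_one
  refine ⟨n1 ^ o, pow_mem (mem_zpowers n1) o, ?_⟩
  have hn : n1 ^ o ∈ Nz z := pow_mem hn1 o
  have hpel : IsPEl s (n1 ^ o) :=
    ⟨K, by rw [← pow_mul, mul_comm, ← hKo, pow_orderOf_eq_one]⟩
  have hne : chN p z (n1 ^ o) ≠ 1 := fun h => ho (hsd.trans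
    (orderOf_dvd_of_pow_eq_one (by rwa [← D.chN_pow hn1])))
  refine ⟨hn, hpel, hne, ?_⟩
  let 𝒳 := {X : Subgroup G // IsPGroup s ↥X ∧ ∃ L : Subgroup G, L ≠ ⊤ ∧ z ∈ L ∧ X ≤ L}
  haveI : Nonempty 𝒳 := ⟨⟨⊥, IsPGroup.of_bot, Nz z, D.ne_top_N, mem_Nz z, bot_le⟩⟩
  obtain ⟨⟨X, hXp, L, hL, hzL, hXL⟩, hmax⟩ := Finite.exists_max (fun X : 𝒳 => Nat.card ↥X.1)
  obtain ⟨S1, hS1⟩ := IsPGroup.exists_le_sylow
    (hXp.of_equiv (subgroupOfEquivOfLe hXL).symm : IsPGroup s ↥(X.subgroupOf L))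
  have hb : ∀ M : Subgroup G, M ≠ ⊤ → z ∈ M → ∀ Y : Subgroup G, Y ≤ M → IsPGroup s ↥Y →
      Nat.card ↥Y ≤ Nat.card ↥(S1 : Subgroup ↥L) := by
    intro M hM hzM Y hY hYp
    refine le_trans (hmax ⟨Y, hYp, M, hM, hzM, hY⟩) ?_
    rw [← Nat.card_congr (subgroupOfEquivOfLe hXL).toEquiv]
    exact Nat.le_of_dvd Nat.card_pos (card_dvd_of_le hS1)
  have hO := D.not_dvd_OP_of_max hn hpel hne hL hzL S1 hb
  intro M hM hzM Y hY hYp
  refine (hb M hM hzM Y hY hYp).trans ?_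
  set f : ↥(S1 : Subgroup ↥L) →* (ZMod p)ˣ := (D.chiHom hL hzL).comp (S1 : Subgroup ↥L).subtype with hf
  have hinj : Function.Injective f := by
    refine (injective_iff_map_eq_one f).mpr fun a ha => ?_
    have haG : IsPEl s ((a : ↥L) : G) := by
      obtain ⟨k, hk⟩ := S1.isPGroup' a
      exact ⟨k, congrArg (fun q : ↥(S1 : Subgroup ↥L) => ((q : ↥L) : G)) hk⟩
    have haO : ((a : ↥L) : G) ∈ OP p L := D.mem_OP_of_chi_one hL hzL (a : ↥L).2 (haG.coprime hsp)
      (congrArg Units.val ha)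
    by_contra hne1
    have : s ∣ orderOf ((a : ↥L) : G) := by
      obtain ⟨k, hk⟩ := haG
      obtain ⟨j, -, hj⟩ := (Nat.dvd_prime_pow hs.out).mp (orderOf_dvd_of_pow_eq_one hk)
      rcases Nat.eq_zero_or_pos j with rfl | hjpos
      · rw [pow_zero, orderOf_eq_one_iff] at hj
        exact absurd (Subtype.ext (Subtype.ext hj)) hne1
      · rw [hj]; exact dvd_pow_self s (by omega)
    exact hO (this.trans (Subgroup.orderOf_dvd_natCard _ haO))
  rw [← Nat.card_congr (MonoidHom.ofInjective hinj).symm.toEquiv, D.orderOf_chN hn, ← Nat.card_zpowers]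
  refine Nat.le_of_dvd Nat.card_pos (card_dvd_of_le ?_)
  rintro _ ⟨a, rfl⟩
  obtain ⟨m', hm', he⟩ := D.exists_norm_eq hL hzL (a : ↥L).2
  obtain ⟨j, hj⟩ := hgen m' hm'
  have hfa : f a = D.chNHom ⟨n1, hn1⟩ ^ j := Units.ext (by
    rw [Units.val_pow_eq_pow_val, D.coe_chNHom, ← hj, he]; rfl)
  obtain ⟨k, hk⟩ := S1.isPGroup' a
  have hcop : Nat.Coprime o (orderOf (f a)) := by
    refine Nat.Coprime.coprime_dvd_right (orderOf_dvd_of_pow_eq_one
      (show f a ^ s ^ k = 1 by rw [← map_pow, hk, map_one])) ?_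
    exact Nat.Coprime.pow_right k (hs.out.coprime_iff_not_dvd.mpr ho).symm
  obtain ⟨r, hr⟩ := exists_pow_eq_self_of_coprime hcop
  rw [← hr, hfa, ← pow_mul (D.chNHom ⟨n1, hn1⟩) j o, mul_comm j o, pow_mul, ← pow_mul]
  refine pow_mem ?_ _
  rw [← map_pow]
  exact mem_zpowers _

end Dat

end Cfsg.Agent.TwoGen81
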