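import Cfsg.Agent.TwoGen81.Basic
import Mathlib.GroupTheory.Transfer
import Mathlib.GroupTheory.SpecificGroups.Cyclic

/-!
Cyclic Sylow subgroups: the action on a subgroup of order `p` and its transfer.
-/

set_option autoImplicit false
set_option linter.all false

open Subgroup
open scoped commutatorElement Pointwise

namespace Cfsg.Agent.TwoGen81

variable {G : Type*} [Group G]

/-- All Sylow subgroups for primes at least five are cyclic. -/
def Cyc (G : Type*) [Group G] : Prop :=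
  ∀ p : ℕ, p.Prime → 5 ≤ p → ∀ P : Sylow p G, IsCyclic ↥(P : Subgroup G)

variable [Finite G]

theorem mem_zpowers_of_cyclic {H : Type*} [Group H] [Finite H] {A : Subgroup H} [IsCyclic ↥A]
    {r : ℕ} [Fact r.Prime] {z w : H} (hz : z ∈ A) (hzo : orderOf z = r) (hw : w ∈ A)
    (hwr : w ^ r = 1) : w ∈ zpowers z := by
  by_cases hw1 : w = 1
  · exact hw1 ▸ one_mem _
  have hwo : orderOf w = r := orderOf_eq_prime hwr hw1
  have hzA : zpowers z ≤ A := zpowers_le.mpr hz
  have hwA : zpowers w ≤ A := zpowers_le.mpr hw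
  cases nonempty_fintype ↥A
  classical
  have key : ∀ v : H, v ∈ A → orderOf v = r → ∀ a : ↥A,
      (a : H) ∈ zpowers v → a ∈ Finset.univ.filter (fun a : ↥A => a ^ r = 1) := by
    intro v hv hvo a ha
    obtain ⟨i, hi⟩ := mem_zpowers_iff.mp ha
    refine Finset.mem_filter.mpr ⟨Finset.mem_univ _, Subtype.ext ?_⟩
    show (a : H) ^ r = 1
    rw [← hi, ← zpow_natCast, ← zpow_mul, mul_comm, zpow_mul, zpow_natCast, ← hvo,
      pow_orderOf_eq_one, one_zpow]
  have hle := IsCyclic.card_pow_eq_one_le (α := ↥A) (n := r) (Fact.out : r.Prime).pos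
  have hsub : (zpowers z).subgroupOf A = (zpowers w).subgroupOf A := by
    have h1 : ∀ v : H, v ∈ A → orderOf v = r →
        (Finset.univ.filter (fun a : ↥A => (a : H) ∈ zpowers v)) =
          Finset.univ.filter (fun a : ↥A => a ^ r = 1) := by
      intro v hv hvo
      refine Finset.eq_of_subset_of_card_le (fun a ha => key v hv hvo a (Finset.mem_filter.mp ha).2) ?_
      refine le_trans hle ?_
      rw [← hvo, ← Nat.card_zpowers, ← Nat.card_congr (subgroupOfEquivOfLe (zpowers_le.mpr hv)).toEquiv,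
        Nat.card_eq_fintype_card, Fintype.card_subtype]
      exact le_of_eq (congrArg Finset.card (Finset.filter_congr fun a _ => by simp [mem_subgroupOf]))
    ext a
    have := congrArg (fun s => a ∈ s) ((h1 z hz hzo).trans (h1 w hw hwo).symm)
    simpa [mem_subgroupOf] using this
  have := hsub.ge (show (⟨w, hw⟩ : ↥A) ∈ (zpowers w).subgroupOf A from mem_subgroupOf.mpr (mem_zpowers w))
  exact mem_subgroupOf.mp this

/-- A coprime element fixing the elements of order `r` of an abelian `r`-group fixes all. -/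
theorem centralises_of_omega {H : Type*} [Group H] [Finite H] {r : ℕ} [Fact r.Prime]
    {A : Subgroup H} (hA : IsPGroup r ↥A) (hcomm : ∀ a ∈ A, ∀ b ∈ A, a * b = b * a) {w : H}
    (hwA : w ∈ normalizer (A : Set H)) (hw : (orderOf w).Coprime r)
    (hom : ∀ x ∈ A, x ^ r = 1 → w * x = x * w) : ∀ x ∈ A, w * x = x * w := by
  let Om : Subgroup H :=
    { carrier := {a | a ∈ A ∧ a ^ r = 1}
      one_mem' := ⟨one_mem _, one_pow _⟩
      mul_mem' := fun {a b} ha hb => ⟨mul_mem ha.1 hb.1, by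
        rw [(show Commute a b from hcomm a ha.1 b hb.1).mul_pow, ha.2, hb.2, one_mul]⟩
      inv_mem' := fun {a} ha => ⟨inv_mem ha.1, by rw [inv_pow, ha.2, inv_one]⟩ }
  have hOm : Om ≤ A := fun a ha => ha.1
  have hWOm : zpowers w ≤ normalizer (Om : Set H) := zpowers_le.mpr (by
    refine Coprime.mem_normalizer_of_le_iff (fun a ha => ?_) (fun a ha => ?_)
    · exact ⟨Coprime.conj_mem_of_mem_normalizer hwA ha.1, by
        rw [conj_pow, ha.2, mul_one, mul_inv_cancel]⟩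
    · refine ⟨Coprime.conj_mem_of_mem_normalizer' hwA ha.1, ?_⟩
      rw [show w⁻¹ * a * w = w⁻¹ * a * w⁻¹⁻¹ by rw [inv_inv], conj_pow, ha.2, mul_one, mul_inv_cancel])
  have key : ∀ k : ℕ, ∀ x ∈ A, x ^ r ^ k = 1 → w * x = x * w := by
    intro k
    induction k with
    | zero => intro x hx h; rw [pow_zero, pow_one] at h; rw [h, mul_one, one_mul]
    | succ k ih =>
      intro x hx h
      have hxr := ih (x ^ r) (pow_mem hx r) (by rwa [← pow_mul, ← pow_succ'])
      have hmem : ∀ i : ℤ, x⁻¹ * (w ^ i * x * (w ^ i)⁻¹) ∈ Om := by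
        intro i
        have h1 : w ^ i * x * (w ^ i)⁻¹ ∈ A :=
          Coprime.conj_mem_of_mem_normalizer (zpow_mem hwA i) hx
        refine ⟨mul_mem (inv_mem hx) h1, ?_⟩
        rw [(show Commute x⁻¹ _ from hcomm _ (inv_mem hx) _ h1).mul_pow, conj_pow, inv_pow,
          ((show Commute w (x ^ r) from hxr).zpow_left i).eq, mul_inv_cancel_right, inv_mul_cancel]
      have hcop : (Nat.card (zpowers w)).Coprime (Nat.card Om) := by
        obtain ⟨j, hj⟩ := IsPGroup.iff_card.mp (hA.to_le hOm)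
        rw [hj, Nat.card_zpowers]
        exact hw.pow_right j
      obtain ⟨e, he, hxe⟩ := Coprime.exists_fixed_in_coset (zpowers w) Om hWOm hcop
        (Or.inl (isSolvable_zpowers w)) x (by rintro a ⟨i, rfl⟩; exact hmem i)
      have h2 : Commute w (x * e) := mem_centralizer_iff.mp hxe w (mem_zpowers w)
      have h3 : Commute w e := hom e he.1 he.2
      have := h2.mul_right h3.inv_right
      rwa [mul_inv_cancel_right] at this
  intro x hx
  obtain ⟨k, hk⟩ := hA ⟨x, hx⟩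
  exact key k x hx (congrArg Subtype.val hk)

/-- The basic data: an element of prime order at least five. -/
structure Dat (p : ℕ) (z : G) : Prop where
  h : Ctx G
  cyc : Cyc G
  five : 5 ≤ p
  ord : orderOf z = p

variable {p : ℕ} [hp : Fact p.Prime] {z : G}

/-- `z ^ a`. -/
def zp (z : G) (a : ZMod p) : G := z ^ a.val

namespace Dat

variable (D : Dat p z)
include D

theorem pow_p : z ^ p = 1 := D.ord ▸ pow_orderOf_eq_one z

theorem ne_one : z ≠ 1 := fun h => by
  have := D.ord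
  rw [h, orderOf_one] at this
  have := D.five
  omega

theorem ne_top_N : normalizer ((zpowers z : Subgroup G) : Set G) ≠ ⊤ :=
  normalizer_ne_top D.h (fun h => D.ne_one (zpowers_eq_bot.mp h))
    (normal_ne_top D.h (isSolvable_zpowers z))

theorem cyclic_pgroup {A : Subgroup G} (hA : IsPGroup p ↥A) : IsCyclic ↥A := by
  obtain ⟨S, hS⟩ := IsPGroup.exists_le_sylow hA
  haveI := D.cyc p hp.out D.five S
  exact isCyclic_of_injective (Subgroup.inclusion hS) (Subgroup.inclusion_injective _)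

theorem zp_intCast (i : ℤ) : zp z (i : ZMod p) = z ^ i := by
  rw [zp, ← zpow_natCast, ZMod.val_intCast]
  conv_rhs => rw [← Int.mul_ediv_add_emod i p, zpow_add, zpow_mul, zpow_natCast, D.pow_p,
    one_zpow, one_mul]

theorem zp_natCast (i : ℕ) : zp z (i : ZMod p) = z ^ i := by
  rw [show (i : ZMod p) = ((i : ℤ) : ZMod p) by push_cast; ring, D.zp_intCast, zpow_natCast]

theorem zp_add (a b : ZMod p) : zp z (a + b) = zp z a * zp z b := by
  conv_lhs => rw [← ZMod.natCast_zmod_val a, ← ZMod.natCast_zmod_val b, ← Nat.cast_add,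
    D.zp_natCast, pow_add]
  rfl

theorem zp_mul (a b : ZMod p) : zp z a ^ b.val = zp z (a * b) := by
  conv_rhs => rw [← ZMod.natCast_zmod_val a, ← ZMod.natCast_zmod_val b, ← Nat.cast_mul,
    D.zp_natCast, pow_mul]
  rfl

theorem zp_one : zp z (1 : ZMod p) = z := by
  rw [show (1 : ZMod p) = ((1 : ℕ) : ZMod p) by simp, D.zp_natCast, pow_one]

theorem zp_eq_one {a : ZMod p} : zp z a = 1 ↔ a = 0 := by
  rw [zp, ← orderOf_dvd_iff_pow_eq_one, D.ord, ← ZMod.natCast_eq_zero_iff, ZMod.natCast_zmod_val]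

theorem zp_mem (a : ZMod p) : zp z a ∈ zpowers z := pow_mem (mem_zpowers z) _

theorem mem_OP2 {L : Subgroup G} (hL : L ≠ ⊤) {x : G} (hxL : x ∈ L) (hx : x ^ p = 1) :
    x ∈ OP2 p L := by
  obtain ⟨R, hR⟩ := exists_sylow_of_mem hxL (k := 1) (by rwa [pow_one])
  haveI := D.cyclic_pgroup (R.isPGroup'.map L.subtype)
  refine abelian_le_OP2 D.h D.five hL R le_rfl (fun a ha b hb => ?_) le_normalizer hR
  exact congrArg Subtype.val (mul_comm' (⟨a, ha⟩ : ↥((R : Subgroup ↥L).map L.subtype)) ⟨b, hb⟩)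

theorem conj_pow_p (g : G) : (g * z * g⁻¹) ^ p = 1 := by
  rw [conj_pow, D.pow_p, mul_one, mul_inv_cancel]

/-- An element of order dividing `p` is congruent to a power of `z` modulo `O_{p'}`. -/
theorem exists_conj_eq_zp {L : Subgroup G} (hL : L ≠ ⊤) (hzL : z ∈ L) {e : G} (heL : e ∈ L)
    (he : e ^ p = 1) : ∃ t ∈ OP p L, ∃ a : ZMod p, t * e * t⁻¹ = zp z a := by
  obtain ⟨R, hR⟩ := exists_sylow_of_mem hzL (k := 1) (by rw [pow_one]; exact D.pow_p)
  obtain ⟨t, ht, htR⟩ := exists_conj_mem_of_OP2 R (D.mem_OP2 hL heL he) (k := 1) (by rwa [pow_one])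
  haveI := D.cyclic_pgroup (R.isPGroup'.map L.subtype)
  have hw : (t * e * t⁻¹) ^ p = 1 := by rw [conj_pow, he, mul_one, mul_inv_cancel]
  obtain ⟨i, hi⟩ := mem_zpowers_iff.mp (mem_zpowers_of_cyclic hR D.ord htR.1 hw)
  exact ⟨t, ht, (i : ZMod p), by rw [D.zp_intCast, hi]⟩

end Dat

/-- `m z m⁻¹ ≡ z ^ a` modulo `O_{p'}(L)`. -/
def Spec (z : G) (L : Subgroup G) (m : G) (a : ZMod p) : Prop :=
  m * z * m⁻¹ * (zp z a)⁻¹ ∈ OP p L

open Classical in
/-- The action on `⟨z⟩` modulo `O_{p'}(L)`. -/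
noncomputable def chi (z : G) (L : Subgroup G) (m : G) : ZMod p :=
  if h : ∃ a, Spec z L m a then h.choose else 1

theorem pow_congr {L : Subgroup G} {x y : G} (hy : y ∈ L) (hxy : x * y⁻¹ ∈ OP p L) :
    ∀ k : ℕ, x ^ k * (y ^ k)⁻¹ ∈ OP p L
  | 0 => by simp
  | k + 1 => by
    rw [pow_succ, pow_succ,
      show x ^ k * x * (y ^ k * y)⁻¹ = x ^ k * (y ^ k)⁻¹ * (y ^ k * (x * y⁻¹) * (y ^ k)⁻¹) by group]
    exact mul_mem (pow_congr hy hxy k) (conj_mem_OP (pow_mem hy k) hxy)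

namespace Dat

variable (D : Dat p z)
include D

theorem spec_exists {L : Subgroup G} (hL : L ≠ ⊤) (hzL : z ∈ L) {m : G} (hm : m ∈ L) :
    ∃ a : ZMod p, Spec z L m a := by
  obtain ⟨t, ht, a, ha⟩ := D.exists_conj_eq_zp hL hzL (mul_mem (mul_mem hm hzL) (inv_mem hm))
    (D.conj_pow_p m)
  refine ⟨a, ?_⟩
  have h1 : zp z a ∈ L := (zpowers_le.mpr hzL) (D.zp_mem a)
  show m * z * m⁻¹ * (zp z a)⁻¹ ∈ _
  rw [show m * z * m⁻¹ = t⁻¹ * zp z a * t by rw [← ha]; group,
    show t⁻¹ * zp z a * t * (zp z a)⁻¹ = t⁻¹ * (zp z a * t * (zp z a)⁻¹) by group]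
  exact mul_mem (inv_mem ht) (conj_mem_OP h1 ht)

theorem eq_zero_of_mem {L : Subgroup G} {a : ZMod p} (h : zp z a ∈ OP p L) : a = 0 := by
  refine D.zp_eq_one.mp (orderOf_eq_one_iff.mp ?_)
  exact Nat.eq_one_of_dvd_coprimes (orderOf_coprime_of_mem (OP_coprime p L) h).symm
    (orderOf_dvd_of_pow_eq_one (by rw [zp, ← pow_mul, mul_comm, pow_mul, D.pow_p, one_pow]))
    dvd_rfl

theorem spec_unique {L : Subgroup G} {m : G} {a b : ZMod p} (ha : Spec z L m a) (hb : Spec z L m b) :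
    a = b := by
  have h := mul_mem (inv_mem ha) hb
  rw [show (m * z * m⁻¹ * (zp z a)⁻¹)⁻¹ * (m * z * m⁻¹ * (zp z b)⁻¹) = zp z a * (zp z b)⁻¹ by group] at h
  have hab : zp z a * (zp z b)⁻¹ = zp z (a - b) := by
    rw [mul_inv_eq_iff_eq_mul, ← D.zp_add, sub_add_cancel]
  rw [hab] at h
  exact sub_eq_zero.mp (D.eq_zero_of_mem h)

theorem chi_spec {L : Subgroup G} (hL : L ≠ ⊤) (hzL : z ∈ L) {m : G} (hm : m ∈ L) :
    Spec z L m (chi z L m : ZMod p) := by
  have h := D.spec_exists hL hzL hm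
  rw [chi, dif_pos h]
  exact h.choose_spec

theorem chi_eq {L : Subgroup G} (hL : L ≠ ⊤) (hzL : z ∈ L) {m : G} (hm : m ∈ L) {a : ZMod p}
    (ha : Spec z L m a) : chi z L m = a :=
  D.spec_unique (D.chi_spec hL hzL hm) ha

theorem chi_one {L : Subgroup G} (hL : L ≠ ⊤) (hzL : z ∈ L) : (chi z L 1 : ZMod p) = 1 :=
  D.chi_eq hL hzL (one_mem _) (by
    show (1 : G) * z * 1⁻¹ * (zp z (1 : ZMod p))⁻¹ ∈ _
    rw [D.zp_one]; simp)

theorem chi_mul {L : Subgroup G} (hL : L ≠ ⊤) (hzL : z ∈ L) {a b : G} (ha : a ∈ L) (hb : b ∈ L) :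
    (chi z L (a * b) : ZMod p) = chi z L a * chi z L b := by
  set α : ZMod p := chi z L a with hα
  set β : ZMod p := chi z L b with hβ
  refine D.chi_eq hL hzL (mul_mem ha hb) ?_
  have hzL' : ∀ c : ZMod p, zp z c ∈ L := fun c => (zpowers_le.mpr hzL) (D.zp_mem c)
  have h1 : a * (b * z * b⁻¹ * (zp z β)⁻¹) * a⁻¹ ∈ OP p L := conj_mem_OP ha (D.chi_spec hL hzL hb)
  have h2 := pow_congr (x := a * z * a⁻¹) (hzL' α) (D.chi_spec hL hzL ha) β.val
  rw [D.zp_mul, conj_pow] at h2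
  show a * b * z * (a * b)⁻¹ * (zp z (α * β))⁻¹ ∈ _
  rw [show a * b * z * (a * b)⁻¹ * (zp z (α * β))⁻¹ =
    a * (b * z * b⁻¹ * (zp z β)⁻¹) * a⁻¹ * (a * zp z β * a⁻¹ * (zp z (α * β))⁻¹) by group]
  exact mul_mem h1 h2

/-- `chi` as a homomorphism into the units. -/
noncomputable def chiHom {L : Subgroup G} (hL : L ≠ ⊤) (hzL : z ∈ L) : ↥L →* (ZMod p)ˣ :=
  MonoidHom.toHomUnits
    { toFun := fun m => (chi z L (m : G) : ZMod p)
      map_one' := D.chi_one hL hzL
      map_mul' := fun a b => D.chi_mul hL hzL a.2 b.2 }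

theorem coe_chiHom {L : Subgroup G} (hL : L ≠ ⊤) (hzL : z ∈ L) (m : ↥L) :
    ((D.chiHom hL hzL m : (ZMod p)ˣ) : ZMod p) = chi z L (m : G) := rfl

theorem chi_conj {L : Subgroup G} (hL : L ≠ ⊤) (hzL : z ∈ L) {a b : G} (ha : a ∈ L) (hb : b ∈ L) :
    (chi z L (a * b * a⁻¹) : ZMod p) = chi z L b := by
  have := congrArg Units.val
    (show D.chiHom hL hzL (⟨a, ha⟩ * ⟨b, hb⟩ * ⟨a, ha⟩⁻¹) = D.chiHom hL hzL ⟨b, hb⟩ by
      rw [map_mul, map_mul, map_inv, mul_inv_eq_iff_eq_mul, mul_comm])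
  exact this

theorem chi_of_mem_OP {L : Subgroup G} (hL : L ≠ ⊤) (hzL : z ∈ L) {m : G} (hm : m ∈ OP p L) :
    (chi z L m : ZMod p) = 1 :=
  D.chi_eq hL hzL (OP_le p L hm) (by
    show m * z * m⁻¹ * (zp z (1 : ZMod p))⁻¹ ∈ _
    rw [D.zp_one, show m * z * m⁻¹ * z⁻¹ = m * (z * m⁻¹ * z⁻¹) by group]
    exact mul_mem hm (conj_mem_OP hzL (inv_mem hm)))

theorem chi_agree {L L' : Subgroup G} (hL : L ≠ ⊤) (hzL : z ∈ L) (hL' : L' ≠ ⊤) (hzL' : z ∈ L')
    {m : G} (hm : m ∈ L) (hm' : m ∈ L') : (chi z L m : ZMod p) = chi z L' m := by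
  set a : ZMod p := chi z L m with ha
  set b : ZMod p := chi z L' m with hb
  have h1 : m * z * m⁻¹ * (zp z a)⁻¹ ∈ OP p L := D.chi_spec hL hzL hm
  set d := m * z * m⁻¹ * (zp z b)⁻¹ with hd
  have h2 : d ∈ OP p L' := D.chi_spec hL' hzL' hm'
  have hdL : d ∈ L := mul_mem (mul_mem (mul_mem hm hzL) (inv_mem hm))
    (inv_mem ((zpowers_le.mpr hzL) (D.zp_mem b)))
  have hd2 : d ∈ OP2 p L := mul_mem (mul_mem (OP_le_OP2 p L h1)
    (D.mem_OP2 hL ((zpowers_le.mpr hzL) (D.zp_mem a))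
      (by rw [zp, ← pow_mul, mul_comm, pow_mul, D.pow_p, one_pow])))
    (inv_mem (D.mem_OP2 hL ((zpowers_le.mpr hzL) (D.zp_mem b))
      (by rw [zp, ← pow_mul, mul_comm, pow_mul, D.pow_p, one_pow]))) |> fun h3 => by
    simpa [hd, mul_assoc] using h3
  have h3 : d ∈ OP p L := mem_OP_of_coprime hd2 (orderOf_coprime_of_mem (OP_coprime p L') h2)
  exact D.spec_unique h1 h3

theorem mem_OP_of_chi_one {L : Subgroup G} (hL : L ≠ ⊤) (hzL : z ∈ L) {m : G} (hm : m ∈ L)
    (hmp : (orderOf m).Coprime p) (h1 : (chi z L m : ZMod p) = 1) : m ∈ OP p L := by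
  haveI := D.h.psolv L hL
  set π := QuotientGroup.mk' (Cfsg.pPrimeCore p ↥L) with hπ
  have hs : Function.Surjective π := QuotientGroup.mk'_surjective _
  obtain ⟨R, hR⟩ := exists_sylow_of_mem hzL (k := 1) (by rw [pow_one]; exact D.pow_p)
  haveI := D.cyclic_pgroup (R.isPGroup'.map L.subtype)
  set A := ((R.mapSurjective hs : Sylow p _) : Subgroup (↥L ⧸ Cfsg.pPrimeCore p ↥L)) with hA
  have hAR : A = (R : Subgroup ↥L).map π := Sylow.coe_mapSurjective hs R
  haveI : IsCyclic ↥(R : Subgroup ↥L) :=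
    ((R : Subgroup ↥L).equivMapOfInjective L.subtype L.subtype_injective).isCyclic.mpr inferInstance
  haveI : IsCyclic ↥A := by
    rw [hAR]
    exact isCyclic_of_surjective ((π).subgroupMap (R : Subgroup ↥L)) (π.subgroupMap_surjective _)
  set U := Cfsg.pCore p (↥L ⧸ Cfsg.pPrimeCore p ↥L) with hU
  have hUA : U ≤ A := Thompson.pCore_le_sylow _
  set m' : ↥L := ⟨m, hm⟩ with hm'
  set z' : ↥L := ⟨z, hzL⟩ with hz'
  have hzA : π z' ∈ A := by
    rw [hAR]
    obtain ⟨r, hr, hrz⟩ := hR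
    exact ⟨r, hr, congrArg π (Subtype.ext hrz : r = z')⟩
  have hcz : Commute (π m') (π z') := by
    have h2 := D.chi_spec hL hzL hm
    rw [h1, Spec, D.zp_one] at h2
    obtain ⟨y, hy, hy2⟩ := h2
    have h3 : m' * z' * m'⁻¹ * z'⁻¹ ∈ Cfsg.pPrimeCore p ↥L := by
      have : y = m' * z' * m'⁻¹ * z'⁻¹ := Subtype.ext (by rw [show ((y : ↥L) : G) = _ from hy2]; rfl)
      exact this ▸ hy
    have h4 := (QuotientGroup.eq_one_iff _).mpr h3
    rw [← QuotientGroup.mk'_apply, map_mul, map_mul, map_mul, map_inv, map_inv,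
      mul_inv_eq_one, mul_inv_eq_iff_eq_mul] at h4
    exact h4
  have hzo : orderOf (π z') = p := by
    refine orderOf_eq_prime (by rw [← map_pow, show z' ^ p = 1 from Subtype.ext D.pow_p, map_one]) ?_
    intro h2
    rw [hπ, QuotientGroup.mk'_apply, QuotientGroup.eq_one_iff] at h2
    have h5 : zp z (1 : ZMod p) ∈ OP p L := by rw [D.zp_one]; exact ⟨z', h2, rfl⟩
    exact one_ne_zero (D.eq_zero_of_mem h5)
  have hUc : ∀ a ∈ U, ∀ b ∈ U, a * b = b * a := fun a ha b hb =>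
    congrArg Subtype.val (mul_comm' (⟨a, hUA ha⟩ : ↥A) ⟨b, hUA hb⟩)
  have hmo : (orderOf (π m')).Coprime p := by
    refine Nat.Coprime.coprime_dvd_left (orderOf_map_dvd π m') ?_
    rwa [← Subgroup.orderOf_coe]
  have hcent : π m' ∈ centralizer (U : Set (↥L ⧸ Cfsg.pPrimeCore p ↥L)) := by
    refine mem_centralizer_iff.mpr fun x hx => (centralises_of_omega Thompson.isPGroup_pCore hUc
      ((normalizer_eq_top (H := U)).ge (mem_top _)) hmo (fun a ha har => ?_) x hx).symm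
    obtain ⟨i, rfl⟩ := mem_zpowers_iff.mp (mem_zpowers_of_cyclic hzA hzo (hUA ha) har)
    exact (hcz.zpow_right i).eq
  have hmU : π m' ∈ U := Thompson.centralizer_pCore_le
    (Thompson.isPSolvable_quotient _ OddLocal44.isPSolvable_of_isSolvable)
    Thompson.pPrimeCore_quotient_pPrimeCore hcent
  have h6 : orderOf (π m') = 1 := by
    obtain ⟨k, hk⟩ := (Thompson.isPGroup_pCore (p := p)) ⟨_, hmU⟩
    exact Nat.eq_one_of_dvd_coprimes (hmo.pow_right k) dvd_rfl
      (orderOf_dvd_of_pow_eq_one (congrArg Subtype.val hk))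
  rw [orderOf_eq_one_iff, hπ, QuotientGroup.mk'_apply, QuotientGroup.eq_one_iff] at h6
  exact ⟨m', h6, rfl⟩

end Dat

/-- `u` is a displacement: it lies in `⁅U, z⁆` for a `p'`-subgroup `U ≤ ⟨z, z^u⟩`. -/
def Mov (p : ℕ) (z u : G) : Prop :=
  ∃ U : Subgroup G, (Nat.card U).Coprime p ∧ z ∈ normalizer (U : Set G) ∧ u ∈ ⁅U, zpowers z⁆ ∧
    U ≤ closure ({z, u⁻¹ * z * u} : Set G)

namespace Dat

variable (D : Dat p z)
include D

theorem mov_mem {u : G} (hu : Mov p z u) {L : Subgroup G} (hL : L ≠ ⊤) (hzL : z ∈ L)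
    (hconj : u⁻¹ * z * u ∈ L) : u ∈ L ∧ u ∈ ⁅OP p L, zpowers z⁆ := by
  obtain ⟨U, hUc, hzU, hu, hUD⟩ := hu
  have hUL : U ≤ L := hUD.trans ((closure_le _).mpr (by
    rintro a (rfl | rfl)
    · exact hzL
    · exact hconj))
  have hzU' : zpowers z ≤ normalizer (U : Set G) := zpowers_le.mpr hzU
  have hcop : (Nat.card (zpowers z)).Coprime (Nat.card U) :=
    zpowers_coprime_of_pgroup (isPGroup_zpowers (n := 1) (by rw [pow_one]; exact D.pow_p)) hUc
  have h1 : ⁅U, zpowers z⁆ ≤ OP p L :=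
    commutator_le_OP_of_le hUL hUc (zpowers_le.mpr (D.mem_OP2 hL hzL D.pow_p)) hzU'
  have h2 : ⁅U, zpowers z⁆ ≤ ⁅OP p L, zpowers z⁆ := by
    rw [← Coprime.commutator_commutator_eq (zpowers z) U hzU' hcop (Or.inl (isSolvable_zpowers z))]
    exact Subgroup.commutator_mono h1 le_rfl
  exact ⟨hUL (Coprime.commutator_le_of_le_normalizer hzU' hu), h2 hu⟩

theorem normalizer_exists {n : G} (hn : n ∈ normalizer ((zpowers z : Subgroup G) : Set G)) :
    ∃ a : ℤ, n⁻¹ * z * n = z ^ a := by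
  obtain ⟨a, ha⟩ := Coprime.conj_mem_of_mem_normalizer' hn (mem_zpowers z)
  exact ⟨a, ha.symm⟩

/-- The pairs `(z y, n u)`. -/
theorem line {y n u : G} (hy : Commute z y) (hyp : (orderOf y).Coprime p)
    (hn : n ∈ normalizer ((zpowers z : Subgroup G) : Set G)) (hu : Mov p z u) :
    ∃ L : Subgroup G, L ≠ ⊤ ∧ z ∈ L ∧ y ∈ L ∧ n ∈ L ∧ u ∈ L ∧ u ∈ ⁅OP p L, zpowers z⁆ := by
  set L := closure ({z * y, n * u} : Set G) with hLdef
  have hL : L ≠ ⊤ := D.h.pairs _ _
  obtain ⟨h1, h2⟩ := mem_zpowers_mul hy (by rw [D.ord]; exact hyp.symm)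
  have hle : zpowers (z * y) ≤ L := zpowers_le.mpr (subset_closure (by simp))
  have hzL : z ∈ L := hle h1
  have hnu : n * u ∈ L := subset_closure (by simp)
  have hmem : u⁻¹ * z * u ∈ L := by
    obtain ⟨b, hb⟩ := Coprime.conj_mem_of_mem_normalizer hn (mem_zpowers z)
    have h3 : u⁻¹ * z * u = (n * u)⁻¹ * z ^ b * (n * u) := by
      rw [show z ^ b = n * z * n⁻¹ from hb]; group
    rw [h3]
    exact mul_mem (mul_mem (inv_mem hnu) (zpow_mem hzL b)) hnu
  obtain ⟨huL, huO⟩ := D.mov_mem hu hL hzL hmem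
  exact ⟨L, hL, hzL, hle h2, by simpa using mul_mem hnu (inv_mem huL), huL, huO⟩

theorem line' {n u : G} (hn : n ∈ normalizer ((zpowers z : Subgroup G) : Set G)) (hu : Mov p z u) :
    ∃ L : Subgroup G, L ≠ ⊤ ∧ z ∈ L ∧ n ∈ L ∧ u ∈ L ∧ u ∈ ⁅OP p L, zpowers z⁆ := by
  obtain ⟨L, h1, h2, -, h3⟩ := D.line (Commute.one_right z) (by simp) hn hu
  exact ⟨L, h1, h2, h3⟩

/-- `g = c u` with `c` normalising `⟨z⟩` and `u` a displacement. -/
theorem dec (g : G) : ∃ c u : G, g = c * u ∧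
    c ∈ normalizer ((zpowers z : Subgroup G) : Set G) ∧ Mov p z u := by
  set H := closure ({z, g⁻¹ * z * g} : Set G) with hHdef
  have hH : H ≠ ⊤ := D.h.pairs _ _
  have hzH : z ∈ H := subset_closure (by simp)
  obtain ⟨t, ht, a, ha⟩ := D.exists_conj_eq_zp hH hzH
    (show g⁻¹ * z * g ∈ H from subset_closure (by simp))
    (by rw [show g⁻¹ * z * g = g⁻¹ * z * g⁻¹⁻¹ by rw [inv_inv]]; exact D.conj_pow_p _)
  obtain ⟨c', u, htu, hc', hc'z, hu, hconj⟩ :=
    exists_split (f := z) (k := 1) (by rw [pow_one]; exact D.pow_p) (OP_coprime p H)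
      (le_normalizer_OP p H hzH) ht
  have hc0 : g * t⁻¹ ∈ normalizer ((zpowers z : Subgroup G) : Set G) := by
    have h1 : g * t⁻¹ * zp z a * (g * t⁻¹)⁻¹ = z := by rw [← ha]; group
    have hane : zp z a ≠ 1 := fun h => D.ne_one (by rw [← h1, h, mul_one, mul_inv_cancel])
    have hgen : zpowers (zp z a) = zpowers z := by
      refine eq_of_le_of_card_ge (zpowers_le.mpr (D.zp_mem a)) ?_
      rw [Nat.card_zpowers, Nat.card_zpowers, D.ord, orderOf_eq_prime
        (by rw [zp, ← pow_mul, mul_comm, pow_mul, D.pow_p, one_pow]) hane]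
    rw [← inv_mem_iff]
    refine Coprime.mem_normalizer_of_le_iff ?_ ?_
    · rintro x ⟨i, rfl⟩
      show (g * t⁻¹)⁻¹ * z ^ i * (g * t⁻¹)⁻¹⁻¹ ∈ _
      rw [← conj_zpow, show (g * t⁻¹)⁻¹ * z * (g * t⁻¹)⁻¹⁻¹ = zp z a by
        conv_lhs => rw [← h1]
        group]
      exact zpow_mem (D.zp_mem a) i
    · intro x hx
      rw [← hgen] at hx
      obtain ⟨i, rfl⟩ := hx
      show (g * t⁻¹)⁻¹⁻¹ * zp z a ^ i * (g * t⁻¹)⁻¹ ∈ _
      rw [inv_inv, ← conj_zpow, h1]
      exact zpow_mem (mem_zpowers z) i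
  refine ⟨g * t⁻¹ * c', u, by rw [mul_assoc, ← htu]; group,
    mul_mem hc0 (Coprime.mem_normalizer_of_le_iff (fun x hx => ?_) (fun x hx => ?_)), ?_⟩
  · obtain ⟨i, rfl⟩ := hx
    show c' * z ^ i * c'⁻¹ ∈ _
    rw [((show Commute c' z from mem_centralizer_singleton_iff.mp hc'z).zpow_right i).eq,
      mul_inv_cancel_right]
    exact zpow_mem (mem_zpowers z) i
  · obtain ⟨i, rfl⟩ := hx
    show c'⁻¹ * z ^ i * c' ∈ _
    rw [((show Commute c' z from mem_centralizer_singleton_iff.mp hc'z).inv_left.zpow_right i).eq,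
      inv_mul_cancel_right]
    exact zpow_mem (mem_zpowers z) i
  · refine ⟨OP p H ⊓ closure ({z, t⁻¹ * z * t} : Set G),
      (OP_coprime p H).coprime_dvd_left (card_dvd_of_le inf_le_left), ?_, hu, ?_⟩
    · exact Coprime.le_normalizer_inf (A := zpowers z) (zpowers_le.mpr (le_normalizer_OP p H hzH))
        ((zpowers_le.mpr (subset_closure (by simp)) : zpowers z ≤
          closure ({z, t⁻¹ * z * t} : Set G)).trans le_normalizer) (mem_zpowers z)
    · rw [hconj]; exact inf_le_right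

/-- Conjugates of an element of `N(⟨z⟩)` act in the same way. -/
theorem chi_invariant {L : Subgroup G} (hL : L ≠ ⊤) (hzL : z ∈ L) {n g : G}
    (hn : n ∈ normalizer ((zpowers z : Subgroup G) : Set G)) (hgn : g * n * g⁻¹ ∈ L) :
    (chi z L (g * n * g⁻¹) : ZMod p) = chi z (normalizer ((zpowers z : Subgroup G) : Set G)) n := by
  set N := normalizer ((zpowers z : Subgroup G) : Set G) with hN
  have hNt := D.ne_top_N
  have hzN : z ∈ N := le_normalizer (mem_zpowers z)
  obtain ⟨c, u, hg, hc, hu⟩ := D.dec g⁻¹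
  set n' := c⁻¹ * n * c with hn'
  have hn'N : n' ∈ N := mul_mem (mul_mem (inv_mem hc) hn) hc
  obtain ⟨L', hL', hzL', hn'L, huL, -⟩ := D.line' hn'N hu
  have hm : g * n * g⁻¹ = u⁻¹ * n' * u := by
    rw [show g = (c * u)⁻¹ by rw [← hg, inv_inv], hn']; group
  rw [D.chi_agree hL hzL hL' hzL' hgn (hm ▸ mul_mem (mul_mem (inv_mem huL) hn'L) huL), hm]
  have h1 := D.chi_conj hL' hzL' (inv_mem huL) hn'L
  rw [inv_inv] at h1
  rw [h1, D.chi_agree hL' hzL' hNt hzN hn'L hn'N, hn']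
  have h2 := D.chi_conj hNt hzN (inv_mem hc) hn
  rw [inv_inv] at h2
  exact h2

/-- The transfer relation. -/
theorem chi_pow_index {L : Subgroup G} (hL : L ≠ ⊤) (hzL : z ∈ L) {n : G}
    (hn : n ∈ normalizer ((zpowers z : Subgroup G) : Set G)) :
    (chi z (normalizer ((zpowers z : Subgroup G) : Set G)) n : ZMod p) ^ L.index = 1 := by
  classical
  haveI := D.h.simple
  set N := normalizer ((zpowers z : Subgroup G) : Set G) with hN
  have hNt := D.ne_top_N
  have hzN : z ∈ N := le_normalizer (mem_zpowers z)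
  have htriv : MonoidHom.transfer (D.chiHom hL hzL) n = 1 := by
    rcases (inferInstance : (MonoidHom.transfer (D.chiHom hL hzL)).ker.Normal).eq_bot_or_eq_top with hk | hk
    · exfalso
      refine D.h.nonsolv (Group.isSolvable_of_comm fun a b => ?_)
      exact (MonoidHom.ker_eq_bot_iff _).mp hk (by rw [map_mul, map_mul, mul_comm])
    · exact MonoidHom.mem_ker.mp (hk ▸ mem_top n)
  let := L.fintypeQuotientOfFiniteIndex
  letI : Fintype (Quotient (MulAction.orbitRel (zpowers n) (G ⧸ L))) := Fintype.ofFinite _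
  rw [MonoidHom.transfer_eq_prod_quotient_orbitRel_zpowers_quot] at htriv
  have hterm : ∀ q : Quotient (MulAction.orbitRel (zpowers n) (G ⧸ L)),
      D.chiHom hL hzL ⟨q.out.out⁻¹ * n ^ Function.minimalPeriod (n • ·) q.out * q.out.out,
        QuotientGroup.out_conj_pow_minimalPeriod_mem L n q.out⟩ =
      D.chiHom hNt hzN ⟨n, hn⟩ ^ Function.minimalPeriod (n • ·) q.out := by
    intro q
    refine Units.ext ?_
    rw [← map_pow, D.coe_chiHom, D.coe_chiHom]
    have hm := QuotientGroup.out_conj_pow_minimalPeriod_mem L n q.out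
    have h1 := D.chi_invariant hL hzL (n := n ^ Function.minimalPeriod (n • ·) q.out)
      (g := q.out.out⁻¹) (pow_mem hn _) (by rw [inv_inv]; exact hm)
    rw [inv_inv] at h1
    exact h1
  rw [Finset.prod_congr rfl (fun q _ => hterm q), Finset.prod_pow_eq_pow_sum,
    ← Subgroup.index_eq_sum_minimalPeriod L n] at htriv
  exact congrArg Units.val htriv

/-- Burnside: some element of `N(⟨z⟩)` moves `z`. -/
theorem exists_chi_ne_one : ∃ n ∈ normalizer ((zpowers z : Subgroup G) : Set G),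
    (chi z (normalizer ((zpowers z : Subgroup G) : Set G)) n : ZMod p) ≠ 1 := by
  by_contra hcon
  push Not at hcon
  haveI := D.h.simple
  set N := normalizer ((zpowers z : Subgroup G) : Set G) with hN
  have hNt := D.ne_top_N
  have hzN : z ∈ N := le_normalizer (mem_zpowers z)
  obtain ⟨P, hP⟩ := IsPGroup.exists_le_sylow (isPGroup_zpowers (x := z) (n := 1) (by rw [pow_one]; exact D.pow_p))
  have hzP : z ∈ (P : Subgroup G) := hP (mem_zpowers z)
  haveI := D.cyc p hp.out D.five P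
  have hPc : ∀ a ∈ (P : Subgroup G), ∀ b ∈ (P : Subgroup G), a * b = b * a := fun a ha b hb =>
    congrArg Subtype.val (mul_comm' (⟨a, ha⟩ : ↥(P : Subgroup G)) ⟨b, hb⟩)
  have hNP : normalizer ((P : Subgroup G) : Set G) ≤ N := by
    refine Coprime.le_normalizer_of_conj_mem fun a ha x hx => ?_
    refine mem_zpowers_of_cyclic hzP D.ord (Coprime.conj_mem_of_mem_normalizer ha (hP hx)) ?_
    obtain ⟨i, rfl⟩ := hx
    rw [← conj_zpow, ← zpow_natCast, ← zpow_mul, mul_comm, zpow_mul, zpow_natCast, D.conj_pow_p,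
      one_zpow]
  have hcz : ∀ w ∈ normalizer ((P : Subgroup G) : Set G), Commute w z := by
    intro w hw
    have h2 := D.chi_spec hNt hzN (hNP hw)
    rw [hcon w (hNP hw), Spec, D.zp_one] at h2
    have h3 : w * z * w⁻¹ * z⁻¹ ∈ zpowers z :=
      mul_mem (Coprime.conj_mem_of_mem_normalizer (hNP hw) (mem_zpowers z)) (inv_mem (mem_zpowers z))
    have h4 : w * z * w⁻¹ * z⁻¹ = 1 := by
      exact Coprime.inf_eq_bot_of_coprime'
        (zpowers_coprime_of_pgroup (isPGroup_zpowers (n := 1) (by rw [pow_one]; exact D.pow_p))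
          (OP_coprime p N)) h3 h2
    exact mul_inv_eq_iff_eq_mul.mp (mul_inv_eq_one.mp h4)
  have hle : normalizer ((P : Subgroup G) : Set G) ≤ centralizer ((P : Subgroup G) : Set G) := by
    intro w hw
    obtain ⟨a, b, ha, hb, rfl, hap, hbp⟩ := PLocalB.exists_p_pprime_mul (p := p) w
    have haN : a ∈ normalizer ((P : Subgroup G) : Set G) := (zpowers_le.mpr hw) ha
    have hbN : b ∈ normalizer ((P : Subgroup G) : Set G) := (zpowers_le.mpr hw) hb
    have haP : a ∈ (P : Subgroup G) := by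
      have hsup : IsPGroup p ↥(zpowers a ⊔ (P : Subgroup G)) :=
        hap.to_sup_of_normal_right' P.isPGroup' (zpowers_le.mpr haN)
      rw [← P.is_maximal' hsup le_sup_right]
      exact mem_sup_left (mem_zpowers a)
    refine mem_centralizer_iff.mpr fun x hx => ?_
    have hbx : b * x = x * b := by
      refine centralises_of_omega P.isPGroup' hPc hbN (by rwa [← Nat.card_zpowers]) ?_ x hx
      intro y hy hyp
      obtain ⟨i, rfl⟩ := mem_zpowers_iff.mp (mem_zpowers_of_cyclic hzP D.ord hy hyp)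
      exact ((hcz b hbN).zpow_right i).eq
    rw [← mul_assoc, hPc x hx a haP, mul_assoc, ← hbx, mul_assoc]
  have hc := MonoidHom.ker_transferSylow_isComplement' P hle
  rcases (inferInstance : (MonoidHom.transferSylow P hle).ker.Normal).eq_bot_or_eq_top with hk | hk
  · rw [hk] at hc
    have h5 := hc.card_mul
    rw [Subgroup.card_bot, one_mul] at h5
    exact normal_ne_top D.h (Coprime.isSolvable_of_isNilpotent' P.isPGroup'.isNilpotent)
      (Subgroup.eq_top_of_card_eq _ h5)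
  · rw [hk] at hc
    have h5 : (P : Subgroup G) = ⊥ := by
      rw [eq_bot_iff]
      intro x hx
      exact hc.disjoint.le_bot ⟨mem_top x, hx⟩
    exact D.ne_one (mem_bot.mp (h5 ▸ hzP))

end Dat

end Cfsg.Agent.TwoGen81
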