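import Cfsg.Agent.TwoGen81.CycSmall
import Cfsg.Agent.Lib.Fitting.Minimal
import Cfsg.Agent.Lib.Coprime.Hall

/-!
The Sylow `t`-subgroup of a subgroup through `z` and `n` is normal.
-/

set_option autoImplicit false
set_option linter.all false

open Subgroup
open scoped commutatorElement Pointwise

namespace Cfsg.Agent.TwoGen81

variable {G : Type*} [Group G] [Finite G]

/-- The final configuration. -/
structure Cfg (p : ℕ) [Fact p.Prime] (z : G) (s t : ℕ) (n : G) : Prop where
  D : Dat p z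
  top : ∀ r : ℕ, r.Prime → r ∣ Nat.card G → r ≤ p
  st : (s = 2 ∧ t = 3) ∨ (s = 3 ∧ t = 2)
  mx : MaxEl p z s n
  no_t : ∀ m ∈ Nz z, ¬ t ∣ orderOf (chN p z m)

namespace Cfg

variable {p : ℕ} [hp : Fact p.Prime] {z n : G} {s t : ℕ} [hs : Fact s.Prime] [ht : Fact t.Prime]
  (C : Cfg p z s t n)
include C

theorem s_ne_p : s ≠ p := by
  have := C.D.five; rcases C.st with ⟨h, -⟩ | ⟨h, -⟩ <;> omega

theorem t_ne_p : t ≠ p := by
  have := C.D.five; rcases C.st with ⟨-, h⟩ | ⟨-, h⟩ <;> omega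

theorem s_ne_t : s ≠ t := by
  rcases C.st with ⟨h, h'⟩ | ⟨h, h'⟩ <;> omega

theorem small_eq {r : ℕ} (hr : r.Prime) (h5 : r < 5) : r = s ∨ r = t := by
  have := hr.two_le
  interval_cases r
  · rcases C.st with ⟨h, h'⟩ | ⟨h, h'⟩ <;> omega
  · rcases C.st with ⟨h, h'⟩ | ⟨h, h'⟩ <;> omega
  · exact absurd hr (by decide)

/-- There is a displacement of `t`-power order. -/
theorem exists_t_mov : ∃ u : G, Mov p z u ∧ u ≠ 1 ∧ IsPEl t u := by
  obtain ⟨u0, hu0, hne⟩ := C.D.exists_mov
  obtain ⟨L, hL, hzL, hnL, -, huK⟩ := C.D.line' C.mx.mem hu0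
  set K := OP p L with hK
  have hzK : z ∈ normalizer (K : Set G) := le_normalizer_OP p L hzL
  have hKc : (Nat.card ↥K).Coprime p := OP_coprime p L
  obtain ⟨T, hT⟩ := Coprime.exists_invariant_sylow (zpowers z) K (zpowers_le.mpr hzK)
    (zpowers_coprime_of_pgroup (isPGroup_zpowers (n := 1) (by rw [pow_one]; exact C.D.pow_p)) hKc)
    (Or.inl (isSolvable_zpowers z)) t
  by_cases hcen : ∀ x ∈ (T : Subgroup ↥K), z * (x : G) = x * z
  · exfalso
    have h := C.D.le_centralizer_of_small C.top hzK hKc fun r hr h5 hrd => by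
      rcases C.small_eq hr h5 with rfl | rfl
      · exact absurd hrd (C.mx.not_dvd C.D hL hzL hnL)
      · exact ⟨T, hcen⟩
    rw [C.D.commutator_eq_bot_of_central h, mem_bot] at huK
    exact hne huK
  · push Not at hcen
    obtain ⟨x, hx, hxz⟩ := hcen
    exact C.D.exists_mov_of_moved C.t_ne_p (T.isPGroup'.map K.subtype) (hT (mem_zpowers z))
      ⟨x, hx, rfl⟩ hxz

/-- No element of order `q` centralised by `z` is moved by a `t`-element. -/
theorem no_moved {q : ℕ} [hq : Fact q.Prime] (h5 : 5 ≤ q) (hqp : q ≠ p) {y τ : G}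
    (hy : orderOf y = q) (hzy : Commute z y) (hτ : MaxEl q y t τ) : False := by
  have D' : Dat q y := ⟨C.D.h, C.D.cyc, h5, hy⟩
  have htq : t ≠ q := by rcases C.st with ⟨-, h⟩ | ⟨-, h⟩ <;> omega
  set Cy := centralizer ({y} : Set G) with hCy
  have hzC : z ∈ Cy := mem_centralizer_singleton_iff.mpr hzy.eq
  have hCt : ¬ t ∣ Nat.card ↥Cy := by
    intro hd
    obtain ⟨x, hx⟩ := exists_prime_orderOf_dvd_card' t hd
    obtain ⟨hxN, hx1⟩ := D'.chN_of_commute (show Commute (x : G) y from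
      mem_centralizer_singleton_iff.mp x.2)
    have hxo : orderOf (x : G) = t := by rwa [Subgroup.orderOf_coe]
    have hxO : (x : G) ∈ OP q (Nz y) := D'.mem_OP_of_chi_one D'.ne_top_N (mem_Nz y) hxN
      (by rw [hxo]; exact (Nat.coprime_primes ht.out hq.out).mpr htq) hx1
    exact hτ.not_dvd D' D'.ne_top_N (mem_Nz y) hτ.mem (hxo ▸ Subgroup.orderOf_dvd_natCard _ hxO)
  have hτC : zpowers τ ≤ normalizer (Cy : Set G) := by
    refine Coprime.le_normalizer_of_conj_mem fun a ha c hc => mem_centralizer_singleton_iff.mpr ?_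
    have haN : a ∈ Nz y := (zpowers_le.mpr hτ.mem) ha
    obtain ⟨i, hi⟩ := mem_zpowers_iff.mp (Coprime.conj_mem_of_mem_normalizer' haN (mem_zpowers y))
    have h1 : Commute c (a⁻¹ * y * a) := by
      rw [← hi]; exact (show Commute c y from mem_centralizer_singleton_iff.mp hc).zpow_right i
    calc a * c * a⁻¹ * y = a * (c * (a⁻¹ * y * a)) * a⁻¹ := by group
      _ = a * ((a⁻¹ * y * a) * c) * a⁻¹ := by rw [h1.eq]
      _ = y * (a * c * a⁻¹) := by group
  have hcop : (Nat.card ↥(zpowers τ)).Coprime (Nat.card ↥Cy) :=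
    zpowers_coprime_of_pgroup (p := t) hτ.pel.isPGroup (ht.out.coprime_iff_not_dvd.mpr hCt).symm
  obtain ⟨P, hP⟩ := Coprime.exists_invariant_sylow (zpowers τ) Cy hτC hcop
    (Or.inl (isSolvable_zpowers τ)) p
  obtain ⟨P', hP'⟩ := exists_sylow_of_mem (p := p) hzC (k := 1) (by rw [pow_one]; exact C.D.pow_p)
  obtain ⟨g, hg⟩ := MulAction.exists_smul_eq ↥Cy P' P
  set Pm := (P : Subgroup ↥Cy).map Cy.subtype with hPm
  haveI := C.D.cyclic_pgroup (P.isPGroup'.map Cy.subtype)
  set z0 := (g : G) * z * (g : G)⁻¹ with hz0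
  have hz0P : z0 ∈ Pm := by
    obtain ⟨z', hz', hzz⟩ := hP'
    refine ⟨g * z' * g⁻¹, ?_, ?_⟩
    · rw [← hg, Sylow.coe_subgroup_smul]
      exact Subgroup.smul_mem_pointwise_smul _ (MulAut.conj g) _ hz'
    · show (g : G) * (z' : G) * (g : G)⁻¹ = z0
      rw [show (z' : G) = z from hzz]
  have hz0o : orderOf z0 = p := by
    rw [hz0, show (g : G) * z * (g : G)⁻¹ = MulAut.conj (g : G) z from rfl, MulEquiv.orderOf_eq, C.D.ord]
  have hτz0 : τ * z0 * τ⁻¹ ∈ zpowers z0 :=
    mem_zpowers_of_cyclic hz0P hz0o (Coprime.conj_mem_of_mem_normalizer (hP (mem_zpowers τ)) hz0P)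
      (by rw [hz0, conj_pow, conj_pow, C.D.pow_p, mul_one, mul_inv_cancel, mul_one, mul_inv_cancel])
  set τ' := (g : G)⁻¹ * τ * (g : G)⁻¹⁻¹ with hτ'
  have hmax : MaxEl q y t τ' := hτ.conj D'
    ((show Commute (g : G) y from mem_centralizer_singleton_iff.mp g.2).inv_left)
  have hτ'z : τ' ∈ Nz z := by
    refine mem_normalizer_zpowers ?_
    obtain ⟨i, hi⟩ := mem_zpowers_iff.mp hτz0
    refine ⟨i, ?_⟩
    show z ^ i = _
    have h1 : (g : G)⁻¹ * z0 ^ i * (g : G) = z ^ i := by
      rw [hz0, conj_zpow]; group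
    rw [← h1, hi, hτ', hz0]; group
  obtain ⟨u, hu, hu1, hue⟩ := C.exists_t_mov
  have hyp : (orderOf y).Coprime p := by rw [hy]; exact (Nat.coprime_primes hq.out hp.out).mpr hqp
  obtain ⟨L, hL, hzL, hyL, hτL, -, huK⟩ := C.D.line hzy hyp hτ'z hu
  have hzO : z ∈ OP q L := by
    obtain ⟨hzN, hz1⟩ := D'.chN_of_commute hzy
    refine D'.mem_OP_of_chi_one hL hyL hzL
      (by rw [C.D.ord]; exact (Nat.coprime_primes hp.out hq.out).mpr hqp.symm) ?_
    rw [D'.chi_agree hL hyL D'.ne_top_N (mem_Nz y) hzL hzN]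
    exact hz1
  have hle : ⁅OP p L, zpowers z⁆ ≤ OP q L := by
    refine Subgroup.commutator_le.mpr fun k hk w hw => ?_
    have hw' : w ∈ OP q L := (zpowers_le.mpr hzO) hw
    exact mul_mem (conj_mem_OP (OP_le p L hk) hw') (inv_mem hw')
  exact hmax.not_dvd D' hL hyL hτL
    ((IsPEl.dvd_orderOf hue hu1).trans (Subgroup.orderOf_dvd_natCard _ (hle huK)))

/-- All `t`-subgroups of `L` lie in one normal subgroup `V`, and `⁅O_{p'}(L), z⁆ ≤ V`. -/
theorem exists_core {L : Subgroup G} (hL : L ≠ ⊤) (hzL : z ∈ L) (hnL : n ∈ L) :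
    ∃ V : Subgroup G, IsPGroup t ↥V ∧ L ≤ normalizer (V : Set G) ∧
      (∀ X : Subgroup G, X ≤ L → IsPGroup t ↥X → X ≤ V) ∧ ⁅OP p L, zpowers z⁆ ≤ V := by
  haveI := C.D.h.psolv L hL
  set K := OP p L with hK
  have hKL : K ≤ L := OP_le p L
  haveI : Group.IsSolvable ↥K := Coprime.solvable_of_le hKL (C.D.h.psolv L hL)
  have hzK : z ∈ normalizer (K : Set G) := le_normalizer_OP p L hzL
  have hKc : (Nat.card ↥K).Coprime p := OP_coprime p L
  have hsK : ¬ s ∣ Nat.card ↥K := C.mx.not_dvd C.D hL hzL hnL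
  set O := Cfsg.pCore t ↥K with hO
  set V := O.map K.subtype with hV
  have hLV : L ≤ normalizer (V : Set G) :=
    (le_normalizer_OP p L).trans (Coprime.normalizer_le_normalizer_map K O)
  have hVp : IsPGroup t ↥V := (Thompson.isPGroup_pCore).map _
  have hVK : V ≤ K := map_subtype_le _
  set π := QuotientGroup.mk' O with hπ
  have hπs : Function.Surjective π := QuotientGroup.mk'_surjective O
  haveI : Group.IsSolvable (↥K ⧸ O) := Group.isSolvable_of_surjective hπs
  have hcore : Cfsg.pCore t (↥K ⧸ O) = ⊥ := Thompson.pCore_quotient_pCore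
  -- the Fitting subgroup of `K / V` is central
  have hcent : Cfsg.fittingSubgroup (↥K ⧸ O) ≤ center (↥K ⧸ O) := by
    rw [Fitting.fitting_eq_iSup_pCore]
    refine iSup_le fun ⟨r, hr⟩ => ?_
    haveI := Fact.mk hr
    set A := Cfsg.pCore r (↥K ⧸ O) with hA
    show A ≤ center _
    by_cases hrt : r = t
    · rw [hA, hrt, hcore]; exact bot_le
    intro a ha
    by_cases ha1 : a = 1
    · rw [ha1]; exact one_mem _
    have hrK : r ∣ Nat.card ↥K := by
      obtain ⟨k, hk⟩ := (Thompson.isPGroup_pCore (p := r)) ⟨a, ha⟩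
      exact (IsPEl.dvd_orderOf ⟨k, congrArg Subtype.val hk⟩ ha1).trans
        ((orderOf_dvd_natCard a).trans (O.card_quotient_dvd_card))
    have hrs : r ≠ s := fun h => hsK (h ▸ hrK)
    have h5 : 5 ≤ r := by
      by_contra h
      rcases C.small_eq hr (by omega) with h' | h'
      · exact hrs h'
      · exact hrt h'
    obtain ⟨R, hR⟩ := C.D.exists_sylow_centralised C.top hzK hKc h5 hrK
    have hRc : IsCyclic ↥(R : Subgroup ↥K) := by
      obtain ⟨S, hS⟩ := IsPGroup.exists_le_sylow (R.isPGroup'.map K.subtype)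
      haveI := C.D.cyc r hr h5 S
      haveI : IsCyclic ↥((R : Subgroup ↥K).map K.subtype) :=
        isCyclic_of_injective (Subgroup.inclusion hS) (Subgroup.inclusion_injective _)
      exact ((R : Subgroup ↥K).equivMapOfInjective K.subtype K.subtype_injective).isCyclic.mpr inferInstance
    haveI hRq : IsCyclic ↥((R.mapSurjective hπs : Sylow r _) : Subgroup (↥K ⧸ O)) := by
      haveI := hRc
      rw [Sylow.coe_mapSurjective]
      exact isCyclic_of_surjective (π.subgroupMap (R : Subgroup ↥K)) (π.subgroupMap_surjective _)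
    have hcom : ∀ (S : Sylow r (↥K ⧸ O)), ∀ x ∈ (S : Subgroup (↥K ⧸ O)), ∀ y ∈ (S : Subgroup (↥K ⧸ O)),
        x * y = y * x := by
      intro S x hx y hy
      haveI : IsCyclic ↥(S : Subgroup (↥K ⧸ O)) :=
        (Sylow.equiv S (R.mapSurjective hπs)).isCyclic.mpr inferInstance
      exact congrArg Subtype.val (mul_comm' (⟨x, hx⟩ : ↥(S : Subgroup (↥K ⧸ O))) ⟨y, hy⟩)
    obtain ⟨S0⟩ : Nonempty (Sylow r (↥K ⧸ O)) := inferInstance
    have hAc : ∀ x ∈ A, ∀ y ∈ A, x * y = y * x := fun x hx y hy =>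
      hcom S0 x (Thompson.pCore_le_sylow S0 hx) y (Thompson.pCore_le_sylow S0 hy)
    refine mem_center_iff.mpr fun g => ?_
    obtain ⟨g1, g2, -, -, rfl, hg1, hg2⟩ := PLocalB.exists_p_pprime_mul (p := r) g
    obtain ⟨S, hS⟩ := IsPGroup.exists_le_sylow hg1
    have hc1 : g1 * a = a * g1 :=
      hcom S g1 (hS (mem_zpowers g1)) a (Thompson.pCore_le_sylow S ha)
    have hc2 : g2 * a = a * g2 := by
      refine centralises_of_omega (Thompson.isPGroup_pCore) hAc
        ((normalizer_eq_top (H := A)).ge (mem_top _)) (by rwa [← Nat.card_zpowers]) ?_ a ha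
      intro x hx hxr
      by_cases hx1 : x = 1
      · rw [hx1, mul_one, one_mul]
      have hxR : x ∈ (R : Subgroup ↥K).map π :=
        (Thompson.pCore_le_sylow (R.mapSurjective hπs)).trans_eq (Sylow.coe_mapSurjective hπs R) hx
      obtain ⟨y', hy', rfl⟩ := hxR
      set y : G := (y' : G) with hy
      have hyr : y' ^ r = 1 := by
        have h1 : y' ^ r ∈ O := by rwa [← QuotientGroup.eq_one_iff, QuotientGroup.mk_pow]
        have h2 : y' ^ r ∈ (R : Subgroup ↥K) := pow_mem hy' r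
        obtain ⟨i, hi⟩ := IsPGroup.iff_card.mp (Thompson.isPGroup_pCore (p := t) (G := ↥K))
        obtain ⟨j, hj⟩ := IsPGroup.iff_card.mp R.isPGroup'
        exact Coprime.inf_eq_bot_of_coprime' (by
          rw [hj, hO, hi]
          exact Nat.Coprime.pow j i ((Nat.coprime_primes hr ht.out).mpr hrt)) h2 h1
      have hyo : orderOf y = r := by
        rw [hy, Subgroup.orderOf_coe]
        exact orderOf_eq_prime hyr (fun h => hx1 (by rw [h, map_one]))
      have hrp : r ≠ p := fun h => hr.coprime_iff_not_dvd.mp (h ▸ hKc.symm) hrK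
      have D' : Dat r y := ⟨C.D.h, C.D.cyc, h5, hyo⟩
      obtain ⟨g', rfl⟩ := hπs g2
      set e : ↥K := g' * y' * g'⁻¹ with he
      have hmem : zpowers (e : G) ≤ V ⊔ zpowers y := by
        rw [zpowers_le]
        have hA' : π e ∈ zpowers (π y') := by
          refine mem_zpowers_of_cyclic (r := r) (A := (R.mapSurjective hπs : Sylow r _).toSubgroup) ?_ ?_ ?_ ?_
          · rw [Sylow.coe_mapSurjective]; exact mem_map_of_mem π hy'
          · exact orderOf_eq_prime hxr hx1
          · refine Thompson.pCore_le_sylow _ ?_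
            rw [he, map_mul, map_mul, map_inv]
            exact Subgroup.Normal.conj_mem inferInstance _ hx _
          · rw [← map_pow, he, conj_pow, hyr, mul_one, mul_inv_cancel, map_one]
        obtain ⟨i, hi⟩ := mem_zpowers_iff.mp hA'
        rw [← map_zpow] at hi
        have h3 : e * (y' ^ i)⁻¹ ∈ O := by
          rw [← QuotientGroup.eq_one_iff, ← QuotientGroup.mk'_apply, map_mul, map_inv, ← hπ, hi,
            mul_inv_cancel]
        have h4 : (e : G) * (y ^ i)⁻¹ ∈ V := ⟨_, h3, by simp [hy]⟩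
        simpa using Subgroup.mul_mem_sup h4 (zpow_mem (mem_zpowers y) i)
      have hVn : K ≤ normalizer (V : Set G) := hKL.trans hLV
      obtain ⟨v, hv, hvy⟩ := Coprime.exists_conj_le_of_le_sup (zpowers (e : G)) V (zpowers y)
        ((zpowers_le.mpr e.2).trans hVn) ((zpowers_le.mpr y'.2).trans hVn)
        (by
          obtain ⟨i, hi⟩ := IsPGroup.iff_card.mp hVp
          rw [Nat.card_zpowers, hi, show (e : G) = MulAut.conj (g' : G) y from rfl, MulEquiv.orderOf_eq,
            hyo]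
          exact Nat.Coprime.pow_right i ((Nat.coprime_primes hr ht.out).mpr hrt))
        (Or.inl (isSolvable_zpowers _)) hmem
      set h := v * (g' : G) with hh
      have hhK : h ∈ K := mul_mem (hVK hv) g'.2
      have hhN : h ∈ Nz y := mem_normalizer_zpowers (by
        have := hvy _ (mem_zpowers _)
        rwa [show v * (e : G) * v⁻¹ = h * y * h⁻¹ by rw [hh, he]; simp [hy, mul_assoc]] at this)
      by_cases hch : chN r y h = 1
      · have hc := D'.commute_of_chN_one hhN hch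
        obtain ⟨v', hv', hvv⟩ := hv
        have hK' : (v' * g') * y' = y' * (v' * g') := Subtype.ext (by
          simp only [Subgroup.coe_mul, show ((v' : ↥K) : G) = v from hvv]
          exact hc.eq)
        have h6 := congrArg π hK'
        simp only [map_mul, show π v' = 1 from (QuotientGroup.eq_one_iff _).mpr hv',
          one_mul] at h6
        exact h6
      exfalso
      have hord : orderOf (chN r y h) ∣ Nat.card ↥K := by
        refine (orderOf_dvd_of_pow_eq_one ?_).trans (Subgroup.orderOf_dvd_natCard _ hhK)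
        rw [← D'.chN_pow hhN, pow_orderOf_eq_one]; exact D'.chi_one D'.ne_top_N (mem_Nz y)
      obtain ⟨w, hw, hwd⟩ := Nat.exists_prime_and_dvd (fun h => hch (orderOf_eq_one_iff.mp h))
      haveI := Fact.mk hw
      obtain ⟨n1, hn1, hgen⟩ := D'.exists_gen
      have hwd' : w ∣ orderOf (chN r y n1) := by
        obtain ⟨j, hj⟩ := hgen h hhN
        exact hwd.trans (hj ▸ orderOf_pow_dvd j)
      obtain ⟨τ, -, hτ⟩ := D'.exists_max hn1 hgen hwd'
      have hw5 : w < 5 := by
        by_contra hw5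
        exact hτ.ne (D'.chN_eq_one_of_five_le (by omega) hτ.mem hτ.pel)
      rcases C.small_eq hw hw5 with rfl | rfl
      · exact hsK (hwd.trans hord)
      · exact C.no_moved h5 hrp hyo (show Commute z y from hR y' hy') hτ
    rw [mul_assoc, hc2, ← mul_assoc, hc1, mul_assoc]
  -- hence `K / V` is abelian and a `t'`-group
  have hQ : center (↥K ⧸ O) = ⊤ := by
    refine top_le_iff.mp (le_trans ?_ hcent)
    refine le_trans (fun x _ => ?_) Fitting.centralizer_fitting_le
    exact mem_centralizer_iff.mpr fun f hf => (mem_center_iff.mp (hcent hf) x).symm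
  have hidx : ¬ t ∣ Nat.card (↥K ⧸ O) := by
    intro hd
    obtain ⟨x, hx⟩ := exists_prime_orderOf_dvd_card' t hd
    have hxn : (zpowers x).Normal := ⟨fun b hb g => by
      have : g * b * g⁻¹ = b := by
        rw [mem_center_iff.mp (hQ ▸ mem_top b : b ∈ center (↥K ⧸ O)) g, mul_inv_cancel_right]
      rwa [this]⟩
    have hle : zpowers x ≤ Cfsg.pCore t (↥K ⧸ O) := Thompson.le_pCore hxn
      (IsPGroup.of_card (n := 1) (by rw [Nat.card_zpowers, hx, pow_one]))
    rw [hcore, le_bot_iff, zpowers_eq_bot] at hle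
    rw [hle, orderOf_one] at hx
    exact ht.out.ne_one hx.symm
  have hinK : ∀ X : Subgroup G, X ≤ K → IsPGroup t ↥X → X ≤ V := by
    intro X hXK hX x hx
    refine ⟨⟨x, hXK hx⟩, ?_, rfl⟩
    rw [SetLike.mem_coe, ← QuotientGroup.eq_one_iff, ← QuotientGroup.mk'_apply, ← hπ]
    by_contra hne
    obtain ⟨k, hk⟩ := hX ⟨x, hx⟩
    have hk' : (π ⟨x, hXK hx⟩) ^ t ^ k = 1 := by
      rw [← map_pow, show (⟨x, hXK hx⟩ : ↥K) ^ t ^ k = 1 from
        Subtype.ext (congrArg (fun q : ↥X => (q : G)) hk), map_one]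
    exact hidx ((IsPEl.dvd_orderOf ⟨k, hk'⟩ hne).trans (orderOf_dvd_natCard _))
  refine ⟨V, hVp, hLV, fun X hXL hX => ?_, ?_⟩
  · refine hinK X (fun x hx => ?_) hX
    have hxe : IsPEl t x := IsPEl.of_mem hX hx
    refine C.D.mem_OP_of_chi_one hL hzL (hXL hx) (hxe.coprime C.t_ne_p) ?_
    obtain ⟨m', hm', he⟩ := C.D.exists_norm_eq hL hzL (hXL hx)
    by_contra hne
    obtain ⟨k, hk⟩ := hxe
    have h1 : (chi z L x : ZMod p) ^ t ^ k = 1 := by
      rw [← C.D.chi_pow hL hzL (hXL hx), hk]; exact C.D.chi_one hL hzL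
    exact C.no_t m' hm' (he ▸ IsPEl.dvd_orderOf ⟨k, h1⟩ hne)
  · set Cz := K ⊓ centralizer ((zpowers z : Subgroup G) : Set G) with hCz
    have hVn : K ≤ normalizer (V : Set G) := hKL.trans hLV
    have htopK : (V ⊔ Cz).subgroupOf K = ⊤ := by
      refine eq_top_of_sylows _ fun r hr hrd => ?_
      haveI := Fact.mk hr
      by_cases hrt : r = t
      · subst hrt
        obtain ⟨R⟩ : Nonempty (Sylow r ↥K) := inferInstance
        refine ⟨R, fun x hx => mem_subgroupOf.mpr (mem_sup_left ?_)⟩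
        exact hinK _ (map_subtype_le _) (R.isPGroup'.map K.subtype) ⟨x, hx, rfl⟩
      · have h5 : 5 ≤ r := by
          by_contra h
          rcases C.small_eq hr (by omega) with h' | h'
          · exact hsK (h' ▸ hrd)
          · exact hrt h'
        obtain ⟨R, hR⟩ := C.D.exists_sylow_centralised C.top hzK hKc h5 hrd
        refine ⟨R, fun x hx => mem_subgroupOf.mpr (mem_sup_right ⟨x.2, ?_⟩)⟩
        refine mem_centralizer_iff.mpr fun b hb => ?_
        obtain ⟨i, rfl⟩ := hb
        exact ((show Commute z (x : G) from hR x hx).zpow_left i).eq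
    refine Subgroup.commutator_le.mpr fun k hk w hw => ?_
    obtain ⟨v, hv, c, hc, rfl⟩ := Coprime.exists_mul_of_mem_sup
      ((inf_le_left : Cz ≤ K).trans hVn) (subgroupOf_eq_top.mp htopK hk)
    have hwV : w ∈ normalizer (V : Set G) := hLV ((zpowers_le.mpr hzL) hw)
    have hwc : w * c = c * w := mem_centralizer_iff.mp hc.2 w hw
    rw [show ⁅v * c, w⁆ = v * (w * v⁻¹ * w⁻¹) by
      calc ⁅v * c, w⁆ = v * (c * w) * c⁻¹ * v⁻¹ * w⁻¹ := by rw [commutatorElement_def]; group
        _ = v * (w * c) * c⁻¹ * v⁻¹ * w⁻¹ := by rw [hwc]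
        _ = _ := by group]
    exact mul_mem hv (Coprime.conj_mem_of_mem_normalizer hwV (inv_mem hv))

end Cfg

end Cfsg.Agent.TwoGen81
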