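import Cfsg.Agent.TwoGen81.Closure
import Cfsg.Agent.Lib.PGroup.NormalRankTwo

/-!
No Sylow subgroup for a prime at least five is noncyclic.
-/

set_option autoImplicit false
set_option linter.all false

open Subgroup
open scoped commutatorElement Pointwise

namespace Cfsg.Agent.TwoGen81

variable {G : Type*} [Group G] [Finite G] {p : ℕ} [hp : Fact p.Prime]

theorem conj_pow_eq_one {x g : G} {n : ℕ} (h : x ^ n = 1) : (g * x * g⁻¹) ^ n = 1 := by
  rw [conj_pow, h, mul_one, mul_inv_cancel]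

theorem conjugates_generate (h : Ctx G) {z : G} (hz : z ≠ 1) {M : Subgroup G}
    (hM : ∀ g : G, g * z * g⁻¹ ∈ M) : M = ⊤ := by
  haveI := h.simple
  have hle : Subgroup.normalClosure ({z} : Set G) ≤ M := by
    refine (closure_le _).mpr ?_
    intro a ha
    obtain ⟨b, hb, hab⟩ := Group.mem_conjugatesOfSet_iff.mp ha
    rw [Set.mem_singleton_iff] at hb
    subst hb
    obtain ⟨c, hc⟩ := isConj_iff.mp hab
    exact hc ▸ hM c
  rcases (inferInstance : (Subgroup.normalClosure ({z} : Set G)).Normal).eq_bot_or_eq_top with hb | hb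
  · exact absurd (mem_bot.mp (hb ▸ subset_normalClosure (Set.mem_singleton z))) hz
  · exact top_le_iff.mp (hb ▸ hle)

theorem not_dvd_of_coprime {n : ℕ} (h : n.Coprime p) : ¬ p ∣ n :=
  hp.out.coprime_iff_not_dvd.mp h.symm

theorem eq_top_false (h : Ctx G) (hpG : p ∣ Nat.card G) {W Z : Subgroup G}
    (hW : (Nat.card W).Coprime p) (hZ : IsPGroup p ↥Z) (hn : Z ≤ normalizer (W : Set G))
    (htop : W ⊔ Z = ⊤) : False := by
  haveI := h.simple
  haveI : W.Normal :=
    normalizer_eq_top_iff.mp (top_le_iff.mp (htop ▸ sup_le le_normalizer hn))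
  rcases (inferInstance : W.Normal).eq_bot_or_eq_top with hb | hb
  · rw [hb, bot_sup_eq] at htop
    subst htop
    exact h.nonsolv (Coprime.isSolvable_of_isNilpotent'
      ((hZ.of_equiv (topEquiv (G := G))).isNilpotent))
  · subst hb
    rw [Subgroup.card_top] at hW
    exact not_dvd_of_coprime hW hpG

namespace Good

variable {E : Subgroup G}

theorem false_of_central (hE : Good p E) (h : Ctx G) (h5 : 5 ≤ p) {z : G} (hzE : z ∈ E)
    (hz1 : z ≠ 1) (S : Sylow p G) (hzS : z ∈ (S : Subgroup G))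
    (hzc : ∀ s ∈ (S : Subgroup G), z * s = s * z)
    (hEZ : ∀ w, IsConj z w → w ∈ (S : Subgroup G) → ∀ e ∈ E, e * w = w * e) : False := by
  have hcent : ∀ g : G, Cent p (g * z * g⁻¹) := fun g => Cent.conj ⟨S, hzS, hzc⟩ g
  have hz : Cent p z := ⟨S, hzS, hzc⟩
  have hzp : z ^ p ^ 1 = 1 := by rw [pow_one]; exact hE.expo z hzE
  set W := WE p E with hW
  have hWc := hE.WE_coprime h
  set C := centralizer ({z} : Set G) with hC
  have hC1 : C ≠ ⊤ := centralizer_ne_top h hz1
  have hzW : z ∈ normalizer (W : Set G) := hE.E_le_normalizer_WE hzE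
  have hKW : ∀ K : Subgroup G, (Nat.card K).Coprime p → z ∈ normalizer (K : Set G) →
      ⁅K, zpowers z⁆ ≤ W := by
    intro K hK hzK
    have key : ∀ k ∈ K, ∃ u : G, u ∈ W ∧ u⁻¹ * z * u = k⁻¹ * z * k := by
      intro k hk
      obtain ⟨c, u, hcu, -, -, hu, hconj⟩ := exists_split hzp hK hzK hk
      refine ⟨u, ?_, hconj⟩
      set D := closure ({z, k⁻¹ * z * k} : Set G) with hD
      set U := K ⊓ D with hU
      have hzU : zpowers z ≤ normalizer (U : Set G) :=
        Coprime.le_normalizer_inf (zpowers_le.mpr hzK)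
          ((zpowers_le.mpr (subset_closure (by simp)) : zpowers z ≤ D).trans le_normalizer)
      obtain ⟨x, hxE, hxz⟩ := hE.exists_not_mem_zpowers z
      set L := closure ({z, x * u} : Set G) with hLdef
      have hL : L ≠ ⊤ := h.pairs _ _
      have hzL : z ∈ L := subset_closure (by simp)
      have hxuL : x * u ∈ L := subset_closure (by simp)
      have hDL : D ≤ L := by
        rw [hD, closure_le]
        rintro a (rfl | rfl)
        · exact hzL
        · show k⁻¹ * z * k ∈ L
          rw [← hconj, show u⁻¹ * z * u = (x * u)⁻¹ * z * (x * u) by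
            rw [show (x * u)⁻¹ * z * (x * u) = u⁻¹ * (x⁻¹ * (z * x)) * u by group,
              hE.comm z hzE x hxE, inv_mul_cancel_left]]
          exact mul_mem (mul_mem (inv_mem hxuL) hzL) hxuL
      have huU : u ∈ U := Coprime.commutator_le_of_le_normalizer hzU hu
      have hxL : x ∈ L := by simpa using mul_mem hxuL (inv_mem (hDL huU.2))
      have hEL : E ≤ L := by
        have hsub : zpowers z ⊔ zpowers x ≤ E := sup_le (zpowers_le.mpr hzE) (zpowers_le.mpr hxE)
        obtain ⟨j, hj2, hj⟩ := (Nat.dvd_prime_pow hp.out).mp (hE.card ▸ card_dvd_of_le hsub)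
        have hzc' : Nat.card (zpowers z) = p := by
          rw [Nat.card_zpowers]; exact orderOf_eq_prime (hE.expo z hzE) hz1
        have hgt : p < p ^ j := by
          rw [← hj]
          conv_lhs => rw [← hzc']
          refine lt_of_le_of_ne (card_le_of_le le_sup_left) fun he => hxz ?_
          rw [eq_of_le_of_card_ge (le_sup_left : zpowers z ≤ zpowers z ⊔ zpowers x) he.ge]
          exact mem_sup_right (mem_zpowers x)
        have hj' : j = 2 := by
          have := hp.out.two_le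
          interval_cases j
          · rw [pow_zero] at hgt; omega
          · rw [pow_one] at hgt; omega
          · rfl
        subst hj'
        exact (eq_of_le_of_card_ge hsub (by rw [hj, hE.card])).ge.trans
          (sup_le (zpowers_le.mpr hzL) (zpowers_le.mpr hxL))
      have h1 : ⁅U, zpowers z⁆ ≤ OP p L :=
        commutator_le_OP_of_le (inf_le_right.trans hDL) (hK.coprime_dvd_left (card_dvd_of_le inf_le_left))
          (zpowers_le.mpr (hz.mem_OP2 h h5 hL hzL)) hzU
      have h2 : ⁅OP p L, E⁆ ≤ W :=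
        hE.commutator_le_WE (OP_coprime p L) (hEL.trans (le_normalizer_OP p L))
      have h3 : ⁅⁅U, zpowers z⁆, zpowers z⁆ = ⁅U, zpowers z⁆ :=
        Coprime.commutator_commutator_eq (zpowers z) U hzU
          (zpowers_coprime_of_pgroup (isPGroup_zpowers hzp)
            (hK.coprime_dvd_left (card_dvd_of_le inf_le_left)))
          (Or.inl (isSolvable_zpowers z))
      exact h2 (Subgroup.commutator_mono h1 (zpowers_le.mpr hzE) (h3.ge hu))
    let M : Subgroup G := (zpowers z ⊔ W)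
    refine Subgroup.commutator_le.mpr fun k hk b hb => ?_
    obtain ⟨i, rfl⟩ := hb
    obtain ⟨u, hu, hconj⟩ := key k⁻¹ (inv_mem hk)
    have h1 : k * z ^ i * k⁻¹ = u⁻¹ * z ^ i * u := by
      have h1' : k * z * k⁻¹ = u⁻¹ * z * u⁻¹⁻¹ := by
        rw [inv_inv, hconj]; group
      calc k * z ^ i * k⁻¹ = (k * z * k⁻¹) ^ i := by rw [conj_zpow]
        _ = (u⁻¹ * z * u⁻¹⁻¹) ^ i := by rw [h1']
        _ = _ := by rw [conj_zpow, inv_inv]
    show ⁅k, z ^ i⁆ ∈ W
    rw [commutatorElement_def, h1, show u⁻¹ * z ^ i * u * (z ^ i)⁻¹ = u⁻¹ * (z ^ i * u * (z ^ i)⁻¹) by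
      group]
    exact mul_mem (inv_mem hu) (Coprime.conj_mem_of_mem_normalizer (zpow_mem hzW i) hu)
  -- the subgroup generated by the conjugates of `z` in the Sylow subgroup
  set Z := closure {w | IsConj z w ∧ w ∈ (S : Subgroup G)} with hZdef
  have hZE : Z ≤ centralizer (E : Set G) := (closure_le _).mpr fun w hw =>
    mem_centralizer_iff.mpr fun e he => hEZ w hw.1 hw.2 e he
  have hZS : Z ≤ (S : Subgroup G) := (closure_le _).mpr fun w hw => hw.2
  set M := W ⊔ Z with hM
  have hmemM : ∀ g : G, g * z * g⁻¹ ∈ C → g * z * g⁻¹ ∈ M := by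
    intro g hg
    set w := g * z * g⁻¹ with hw
    have hwp : w ^ p ^ 1 = 1 := conj_pow_eq_one hzp
    have hSC : (S : Subgroup G) ≤ C := fun s hs => mem_centralizer_singleton_iff.mpr (hzc s hs).symm
    obtain ⟨R, hR⟩ := IsPGroup.exists_le_sylow
      (S.isPGroup'.comap_of_injective C.subtype C.subtype_injective)
    obtain ⟨t, ht, htR⟩ := exists_conj_mem_of_OP2 R ((hcent g).mem_OP2 h h5 hC1 hg) hwp
    have hRS : (R : Subgroup ↥C).map C.subtype = (S : Subgroup G) := by
      refine (S.is_maximal' (R.isPGroup'.map _) ?_)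
      intro s hs
      exact ⟨⟨s, hSC hs⟩, hR (mem_comap.mpr hs), rfl⟩
    have h1 : t * w * t⁻¹ ∈ Z := subset_closure ⟨isConj_iff.mpr ⟨t * g, by rw [hw]; group⟩,
      hRS ▸ htR.1⟩
    have htW : t ∈ W := Th_le_WE hzE hz1 ht
    have := mul_mem (mul_mem (mem_sup_left (T := Z) (inv_mem htW)) (mem_sup_right (S := W) h1))
      (mem_sup_left (T := Z) htW)
    simpa [mul_assoc] using this
  have hall : ∀ g : G, g * z * g⁻¹ ∈ M := by
    intro g
    set z' := g * z * g⁻¹ with hz'
    set H := closure ({z, z'} : Set G) with hHdef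
    have hH : H ≠ ⊤ := h.pairs _ _
    have hzH : z ∈ H := subset_closure (by simp)
    have hz'H : z' ∈ H := subset_closure (by simp)
    obtain ⟨R, hR⟩ := exists_sylow_of_mem hzH hzp
    obtain ⟨t, ht, htR⟩ := exists_conj_mem_of_OP2 R ((hcent g).mem_OP2 h h5 hH hz'H)
      (conj_pow_eq_one hzp)
    set w := t * z' * t⁻¹ with hw
    obtain ⟨S', hS'⟩ := exists_sylow_ge R
    have hwc : Cent p w := (hcent g).conj t
    have hcomm : z * w = w * z :=
      zj_comm S' (hz.mem_zj h h5 S' (hS' hR)) (hwc.mem_zj h h5 S' (hS' htR.1))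
    have hzO : zpowers z ≤ normalizer ((OP p H : Subgroup G) : Set G) :=
      zpowers_le.mpr (le_normalizer_OP p H hzH)
    obtain ⟨x, hx, c, hc, hxc⟩ := Coprime.exists_commutator_mul_centralizer (zpowers z) (OP p H)
      hzO (zpowers_coprime_of_pgroup (isPGroup_zpowers hzp) (OP_coprime p H))
      (Or.inl (isSolvable_zpowers z)) t⁻¹ (inv_mem ht)
    have hcC : c ∈ C := mem_centralizer_singleton_iff.mpr
      (mem_centralizer_iff.mp hc.2 z (mem_zpowers z)).symm
    have hwC : c * w * c⁻¹ ∈ C := mul_mem (mul_mem hcC (mem_centralizer_singleton_iff.mpr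
      hcomm.symm)) (inv_mem hcC)
    have h1 : c * w * c⁻¹ ∈ M := by
      have := hmemM (c * (t * g)) (by
        convert hwC using 1
        rw [hw, hz']; group)
      convert this using 1
      rw [hw, hz']; group
    have hxW : x ∈ W := hKW _ (OP_coprime p H) (le_normalizer_OP p H hzH) hx
    have h2 : z' = x * (c * w * c⁻¹) * x⁻¹ := by
      have : z' = t⁻¹ * w * (t⁻¹)⁻¹ := by rw [hw]; group
      rw [this, hxc]; group
    rw [h2]
    exact mul_mem (mul_mem (mem_sup_left hxW) h1) (inv_mem (mem_sup_left hxW))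
  refine eq_top_false h ?_ hWc (S.isPGroup'.to_le hZS)
    (hZE.trans hE.centralizer_le_normalizer_WE) (conjugates_generate h hz1 hall)
  rw [← orderOf_eq_prime (hE.expo z hzE) hz1]
  exact orderOf_dvd_natCard z

end Good

/-- An element of `N` central in `P` modulo `⟨z⟩`. -/
theorem exists_step (P : Sylow p G) {N : Subgroup G} (hNP : N ≤ (P : Subgroup G))
    (hPN : (P : Subgroup G) ≤ normalizer (N : Set G)) {z : G} (hzN : z ∈ N)
    (hzc : ∀ s ∈ (P : Subgroup G), z * s = s * z) (hN : ¬ N ≤ zpowers z) :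
    ∃ x ∈ N, x ∉ zpowers z ∧ ∀ g ∈ (P : Subgroup G), ⁅g, x⁆ ∈ zpowers z := by
  set Q := (P : Subgroup G) with hQ
  set Zc := (zpowers z).subgroupOf Q with hZc
  haveI : Zc.Normal := ⟨fun a ha g => by
    obtain ⟨i, hi⟩ := mem_zpowers_iff.mp (mem_subgroupOf.mp ha)
    have : (g : G) * z ^ i * (g : G)⁻¹ = z ^ i := by
      rw [((show Commute z (g : G) from hzc g g.2).zpow_left i).symm.eq, mul_inv_cancel_right]
    refine mem_subgroupOf.mpr ?_
    push_cast
    rw [← hi, this]
    exact zpow_mem (mem_zpowers z) i⟩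
  haveI : (N.subgroupOf Q).Normal := normal_subgroupOf_of_le_normalizer hPN
  haveI : ((N.subgroupOf Q).map (QuotientGroup.mk' Zc)).Normal :=
    Subgroup.Normal.map inferInstance _ (QuotientGroup.mk'_surjective _)
  have hne : (N.subgroupOf Q).map (QuotientGroup.mk' Zc) ≠ ⊥ := by
    rw [ne_eq, Subgroup.map_eq_bot_iff, QuotientGroup.ker_mk']
    exact fun hle => hN fun a ha => mem_subgroupOf.mp (hle (mem_subgroupOf.mpr
      (show ((⟨a, hNP ha⟩ : ↥Q) : G) ∈ N from ha)))
  obtain ⟨y, hy, hy1⟩ := (Subgroup.bot_or_exists_ne_one _).resolve_left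
    (PGroup.inf_center_ne_bot (P.isPGroup'.to_quotient Zc) hne)
  obtain ⟨x, hx, rfl⟩ := hy.1
  refine ⟨x, mem_subgroupOf.mp hx, fun hxz => hy1 ?_, fun g hg => ?_⟩
  · rw [QuotientGroup.mk'_apply, QuotientGroup.eq_one_iff]
    exact mem_subgroupOf.mpr hxz
  · have h1 := Subgroup.mem_center_iff.mp hy.2 (QuotientGroup.mk' Zc ⟨g, hg⟩)
    rw [← commutatorElement_eq_one_iff_mul_comm, ← map_commutatorElement,
      QuotientGroup.mk'_apply, QuotientGroup.eq_one_iff] at h1
    exact mem_subgroupOf.mp h1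

theorem good_sup (h : Ctx G) (h5 : 5 ≤ p) (P : Sylow p G) {z x : G} (hzP : z ∈ (P : Subgroup G))
    (hxP : x ∈ (P : Subgroup G)) (hzo : orderOf z = p) (hxp : x ^ p = 1)
    (hxz : x ∉ zpowers z) (hzc : ∀ s ∈ (P : Subgroup G), z * s = s * z)
    (hx : ∀ g ∈ (P : Subgroup G), ⁅g, x⁆ ∈ zpowers z) :
    Good p (zpowers z ⊔ zpowers x) := by
  set Q := (P : Subgroup G) with hQ
  set B := zpowers z ⊔ zpowers x with hB
  have hBQ : B ≤ Q := sup_le (zpowers_le.mpr hzP) (zpowers_le.mpr hxP)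
  have hzx : Commute z x := hzc x hxP
  have hnx : zpowers x ≤ normalizer ((zpowers z : Subgroup G) : Set G) :=
    Coprime.le_normalizer_of_conj_mem fun a ha b hb => by
      obtain ⟨i, rfl⟩ := ha
      obtain ⟨j, rfl⟩ := hb
      show x ^ i * z ^ j * (x ^ i)⁻¹ ∈ _
      rw [(hzx.zpow_zpow j i).symm.eq, mul_inv_cancel_right]
      exact zpow_mem (mem_zpowers z) j
  have hmem : ∀ a ∈ B, ∃ i j : ℤ, a = z ^ i * x ^ j := by
    intro a ha
    obtain ⟨n, ⟨i, rfl⟩, m, ⟨j, rfl⟩, rfl⟩ := Coprime.exists_mul_of_mem_sup hnx ha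
    exact ⟨i, j, rfl⟩
  have hcomm : ∀ a ∈ B, ∀ b ∈ B, a * b = b * a := by
    intro a ha b hb
    obtain ⟨i, j, rfl⟩ := hmem a ha
    obtain ⟨k, l, rfl⟩ := hmem b hb
    exact (((Commute.refl z).zpow_zpow i k).mul_right (hzx.zpow_zpow i l)).mul_left
      ((hzx.symm.zpow_zpow j k).mul_right ((Commute.refl x).zpow_zpow j l)) |>.eq
  have hexp : ∀ a ∈ B, a ^ p = 1 := by
    intro a ha
    obtain ⟨i, j, rfl⟩ := hmem a ha
    have hz' : z ^ p = 1 := hzo ▸ pow_orderOf_eq_one z
    rw [(hzx.zpow_zpow i j).mul_pow, ← zpow_natCast, ← zpow_natCast, ← zpow_mul, ← zpow_mul,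
      mul_comm i, mul_comm j, zpow_mul, zpow_mul, zpow_natCast, zpow_natCast, hz', hxp, one_zpow,
      one_zpow, mul_one]
  have hcard : Nat.card B = p ^ 2 := by
    have hxo : orderOf x = p := orderOf_eq_prime hxp fun h1 => hxz (h1 ▸ one_mem _)
    have hd := card_sup_dvd hnx
    rw [Nat.card_zpowers, Nat.card_zpowers, hzo, hxo, ← pow_two] at hd
    obtain ⟨j, hj2, hj⟩ := (Nat.dvd_prime_pow hp.out).mp hd
    have hgt : p < p ^ j := by
      rw [← hj]
      conv_lhs => rw [← hzo, ← Nat.card_zpowers]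
      refine lt_of_le_of_ne (card_le_of_le le_sup_left) fun he => hxz ?_
      rw [eq_of_le_of_card_ge (le_sup_left : zpowers z ≤ B) he.ge]
      exact mem_sup_right (mem_zpowers x)
    have := hp.out.two_le
    interval_cases j
    · rw [pow_zero] at hgt; omega
    · rw [pow_one] at hgt; omega
    · exact hj
  refine ⟨hcomm, hexp, hcard, fun f hf hf1 => ?_⟩
  have hC1 : centralizer ({f} : Set G) ≠ ⊤ := centralizer_ne_top h hf1
  set C0 := Q ⊓ centralizer (B : Set G) with hC0
  have hC0C : C0 ≤ centralizer ({f} : Set G) := inf_le_right.trans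
    (centralizer_le (Set.singleton_subset_iff.mpr hf))
  have hBC0 : B ≤ C0 := le_inf hBQ fun b hb => mem_centralizer_iff.mpr fun a ha => hcomm a ha b hb
  obtain ⟨R, hR⟩ := IsPGroup.exists_le_sylow
    ((P.isPGroup'.to_le (inf_le_left : C0 ≤ _)).comap_of_injective
      (centralizer ({f} : Set G)).subtype (centralizer ({f} : Set G)).subtype_injective)
  set R' := (R : Subgroup ↥(centralizer ({f} : Set G))).map
    (centralizer ({f} : Set G)).subtype with hR'
  have hC0R : C0 ≤ R' := fun a ha => ⟨⟨a, hC0C ha⟩, hR ha, rfl⟩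
  have hR'p : IsPGroup p ↥R' := R.isPGroup'.map _
  let φ : ↥Q →* ↥(zpowers z) :=
    MonoidHom.mk' (fun g => ⟨⁅(g : G), x⁆, hx g g.2⟩) fun a b => Subtype.ext (by
      obtain ⟨i, hi⟩ := mem_zpowers_iff.mp (hx b b.2)
      obtain ⟨j, hj⟩ := mem_zpowers_iff.mp (hx a a.2)
      show ⁅(a : G) * b, x⁆ = ⁅(a : G), x⁆ * ⁅(b : G), x⁆
      have hia : (a : G) * z ^ i = z ^ i * a :=
        ((show Commute z (a : G) from hzc a a.2).zpow_left i).symm.eq
      rw [show ⁅(a : G) * b, x⁆ = (a : G) * ⁅(b : G), x⁆ * (a : G)⁻¹ * ⁅(a : G), x⁆ by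
        simp only [commutatorElement_def]; group, ← hi, ← hj, hia, mul_inv_cancel_right,
        ← zpow_add, ← zpow_add, add_comm])
  have hker : φ.ker ≤ C0.subgroupOf Q := by
    intro g hg
    have h1 : ⁅(g : G), x⁆ = 1 := congrArg Subtype.val (MonoidHom.mem_ker.mp hg)
    refine mem_subgroupOf.mpr (Subgroup.mem_inf.mpr ⟨g.2, ?_⟩)
    have h2 : B ≤ centralizer ({(g : G)} : Set G) :=
      sup_le (zpowers_le.mpr (mem_centralizer_singleton_iff.mpr (hzc g g.2)))
        (zpowers_le.mpr (mem_centralizer_singleton_iff.mpr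
          (commutatorElement_eq_one_iff_mul_comm.mp h1).symm))
    exact mem_centralizer_iff.mpr fun b hb => mem_centralizer_singleton_iff.mp (h2 hb)
  have hidx : Nat.card ↥Q ≤ Nat.card ↥C0 * p := by
    have h1 := Subgroup.card_mul_index φ.ker
    rw [Subgroup.index_ker] at h1
    calc Nat.card ↥Q = Nat.card φ.ker * Nat.card φ.range := h1.symm
      _ ≤ Nat.card ↥C0 * p := Nat.mul_le_mul
        ((card_le_of_le hker).trans (Nat.card_congr (subgroupOfEquivOfLe inf_le_left).toEquiv).le)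
        ((card_le_card_group _).trans (by rw [Nat.card_zpowers, hzo]))
  have hR'le : Nat.card ↥R' ≤ Nat.card ↥Q := by
    obtain ⟨S, hS⟩ := IsPGroup.exists_le_sylow hR'p
    calc Nat.card ↥R' ≤ Nat.card ↥(S : Subgroup G) := card_le_of_le hS
      _ = _ := by rw [Sylow.card_eq_multiplicity, Sylow.card_eq_multiplicity]
  have hnorm : R' ≤ normalizer (C0 : Set G) := by
    by_cases hcase : C0 = R'
    · rw [hcase]; exact le_normalizer
    have hlt : C0 < R' := lt_of_le_of_ne hC0R hcase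
    have h2 := lt_inf_normalizer hR'p hlt
    set M := R' ⊓ normalizer (C0 : Set G) with hM
    obtain ⟨i, hi⟩ := IsPGroup.iff_card.mp (hR'p.to_le (inf_le_left : M ≤ R'))
    obtain ⟨j, hj⟩ := IsPGroup.iff_card.mp (hR'p.to_le hlt.le)
    obtain ⟨l, hl⟩ := IsPGroup.iff_card.mp hR'p
    have hji : j < i := by
      by_contra hle
      push Not at hle
      refine h2.ne (eq_of_le_of_card_ge h2.le ?_)
      rw [hi, hj]; exact Nat.pow_le_pow_right hp.out.pos hle
    have hlj : l ≤ j + 1 := by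
      have := hR'le.trans hidx
      rw [hl, hj, ← pow_succ] at this
      exact (Nat.pow_le_pow_iff_right hp.out.one_lt).mp this
    have : M = R' := eq_of_le_of_card_ge inf_le_left (by
      rw [hi, hl]; exact Nat.pow_le_pow_right hp.out.pos (by omega))
    exact this ▸ inf_le_right
  refine le_trans (le_inf hBC0 ?_) (abelian_le_OP2 h h5 hC1 R (A := C0 ⊓ centralizer (C0 : Set G))
    (inf_le_left.trans hC0R)
    (fun a ha b hb => mem_centralizer_iff.mp (Subgroup.mem_inf.mp hb).2 a (Subgroup.mem_inf.mp ha).1)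
    (Coprime.le_normalizer_inf hnorm (Coprime.le_normalizer_centralizer hnorm)))
  exact fun b hb => mem_centralizer_iff.mpr fun c hc =>
    (mem_centralizer_iff.mp (Subgroup.mem_inf.mp hc).2 b hb).symm

/-- **All Sylow subgroups for primes at least five are cyclic.** -/
theorem isCyclic_sylow (h : Ctx G) (h5 : 5 ≤ p) (P : Sylow p G) : IsCyclic ↥(P : Subgroup G) := by
  by_contra hnc
  set Q := (P : Subgroup G) with hQ
  have hpp := hp.out
  set ZJ := Cfsg.centerThompsonAOf Q with hZJ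
  have hZJQ : ZJ ≤ Q := PLocalB.centerThompsonAOf_le Q
  let Om : Subgroup G :=
    { carrier := {a | a ∈ ZJ ∧ a ^ p = 1}
      one_mem' := ⟨one_mem _, one_pow _⟩
      mul_mem' := fun {a b} ha hb => ⟨mul_mem ha.1 hb.1, by
        rw [(show Commute a b from zj_comm P ha.1 hb.1).mul_pow, ha.2, hb.2, one_mul]⟩
      inv_mem' := fun {a} ha => ⟨inv_mem ha.1, by rw [inv_pow, ha.2, inv_one]⟩ }
  have hOmQ : Om ≤ Q := fun a ha => hZJQ ha.1
  have hQOm : Q ≤ normalizer (Om : Set G) := Coprime.le_normalizer_of_conj_mem fun a ha b hb =>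
    ⟨Coprime.conj_mem_of_mem_normalizer (le_normalizer_zj P ha) hb.1, by
      rw [conj_pow, hb.2, mul_one, mul_inv_cancel]⟩
  -- a central element of order `p`
  haveI : Nontrivial ↥Q := by
    rw [← not_subsingleton_iff_nontrivial]
    intro hss
    exact hnc isCyclic_of_subsingleton
  haveI := P.isPGroup'.center_nontrivial
  obtain ⟨w, hw⟩ := exists_prime_orderOf_dvd_card' (G := ↥(Subgroup.center ↥Q)) p (by
    obtain ⟨k, hk0, hk⟩ := (IsPGroup.iff_card.mp (P.isPGroup'.to_subgroup (Subgroup.center ↥Q)) |>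
      fun ⟨k, hk⟩ => (⟨k, fun h0 => Finite.one_lt_card.ne' (by rw [hk, h0, pow_zero]), hk⟩ :
        ∃ k, k ≠ 0 ∧ Nat.card ↥(Subgroup.center ↥Q) = p ^ k))
    rw [hk]
    exact dvd_pow_self p hk0)
  set z : G := ((w : ↥Q) : G) with hz
  have hzo : orderOf z = p := by rw [hz, Subgroup.orderOf_coe, Subgroup.orderOf_coe, hw]
  have hzQ : z ∈ Q := (w : ↥Q).2
  have hzc : ∀ s ∈ Q, z * s = s * z := fun s hs =>
    (congrArg Subtype.val (Subgroup.mem_center_iff.mp w.2 ⟨s, hs⟩)).symm
  have hzOm : z ∈ Om := ⟨mem_zj_of_central P hzQ hzc, hzo ▸ pow_orderOf_eq_one z⟩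
  have hz1 : z ≠ 1 := fun h1 => by rw [h1, orderOf_one] at hzo; omega
  have hzcent : Cent p z := ⟨P, hzQ, hzc⟩
  have hfus : ∀ v, IsConj z v → v ∈ Q → v ∈ Om := by
    intro v hv hvQ
    obtain ⟨g, rfl⟩ := isConj_iff.mp hv
    exact ⟨(hzcent.conj g).mem_zj h h5 P hvQ, by
      rw [conj_pow, hzOm.2, mul_one, mul_inv_cancel]⟩
  by_cases hOm : Om ≤ zpowers z
  · obtain ⟨B0, hB0n, hB0c, hB0e, hB0card⟩ :=
      PGroup.exists_normal_elementary_sq P.isPGroup' (by omega) hnc
    haveI := hB0n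
    set B1 := B0.map Q.subtype with hB1
    set N := zpowers z ⊔ B1 with hN
    have hzcomm : ∀ b ∈ B1, Commute z b := by
      rintro b ⟨b', -, rfl⟩
      exact hzc b' b'.2
    have hB1n : Q ≤ normalizer (B1 : Set G) := le_normalizer_map_normal Q B0
    have hzn : Q ≤ normalizer ((zpowers z : Subgroup G) : Set G) :=
      Coprime.le_normalizer_of_conj_mem fun a ha b hb => by
        obtain ⟨i, rfl⟩ := hb
        show a * z ^ i * a⁻¹ ∈ _
        rw [((show Commute z a from hzc a ha).zpow_left i).symm.eq, mul_inv_cancel_right]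
        exact zpow_mem (mem_zpowers z) i
    obtain ⟨x, hxN, hxz, hxc⟩ := exists_step P
      (sup_le (zpowers_le.mpr hzQ) (map_subtype_le _))
      (Coprime.le_normalizer_sup hzn hB1n) (mem_sup_left (mem_zpowers z)) hzc (fun hle => by
        have h1 : Nat.card B1 ≤ Nat.card (zpowers z) :=
          card_le_of_le ((le_sup_right : B1 ≤ N).trans hle)
        rw [card_map_of_injective Q.subtype_injective, hB0card, Nat.card_zpowers, hzo] at h1
        have := hp.out.two_le
        nlinarith)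
    have hxp : x ^ p = 1 := by
      obtain ⟨a, ⟨i, rfl⟩, b, hb, rfl⟩ := Coprime.exists_mul_of_mem_sup
        ((map_subtype_le B0).trans hzn) hxN
      obtain ⟨b', hb', rfl⟩ := hb
      rw [((hzcomm _ ⟨b', hb', rfl⟩).zpow_left i).mul_pow, ← map_pow, hB0e b' hb', map_one, mul_one,
        ← zpow_natCast, ← zpow_mul, mul_comm, zpow_mul, zpow_natCast, hzOm.2, one_zpow]
    have hxQ : x ∈ Q := (sup_le (zpowers_le.mpr hzQ) (map_subtype_le _) : N ≤ Q) hxN
    refine (good_sup h h5 P hzQ hxQ hzo hxp hxz hzc hxc).false_of_central h h5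
      (mem_sup_left (mem_zpowers z)) hz1 P hzQ hzc fun v hv hvQ e he => ?_
    obtain ⟨i, rfl⟩ := hOm (hfus v hv hvQ)
    have heQ : e ∈ Q := (sup_le (zpowers_le.mpr hzQ) (zpowers_le.mpr hxQ) :
      zpowers z ⊔ zpowers x ≤ Q) he
    exact ((show Commute z e from hzc e heQ).zpow_left i).symm.eq
  · obtain ⟨x, hxN, hxz, hxc⟩ := exists_step P hOmQ hQOm hzOm hzc hOm
    refine (good_sup h h5 P hzQ (hOmQ hxN) hzo hxN.2 hxz hzc hxc).false_of_central h h5
      (mem_sup_left (mem_zpowers z)) hz1 P hzQ hzc fun v hv hvQ e he => ?_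
    have heOm : e ∈ Om := (sup_le (zpowers_le.mpr hzOm) (zpowers_le.mpr hxN) :
      zpowers z ⊔ zpowers x ≤ Om) he
    exact zj_comm P heOm.1 (hfus v hv hvQ).1

end Cfsg.Agent.TwoGen81
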