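import Cfsg.Agent.TwoGen81.CycCore
import Cfsg.Agent.TwoGen81.Noncyclic
import Cfsg.Agent.Lib.CharCore.Burnside

/-!
Cyclic Sylow subgroups: all displacements lie in one `t`-subgroup.
-/

set_option autoImplicit false
set_option linter.all false

open Subgroup
open scoped commutatorElement Pointwise

namespace Cfsg.Agent.TwoGen81

universe u

variable {G : Type u} [Group G] [Finite G]

/-- A `t`-subgroup normalised by `z` and `n`. -/
structure InT (t : ℕ) (z n : G) (X : Subgroup G) : Prop where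
  pgroup : IsPGroup t ↥X
  nz : z ∈ normalizer (X : Set G)
  nn : n ∈ normalizer (X : Set G)

/-- `X` is not centralised by `z`. -/
def Moved (z : G) (X : Subgroup G) : Prop := ∃ x ∈ X, ¬ Commute z x

theorem Moved.mono {z : G} {X Y : Subgroup G} (h : Moved z X) (hXY : X ≤ Y) : Moved z Y :=
  ⟨h.choose, hXY h.choose_spec.1, h.choose_spec.2⟩

namespace Cfg

variable {p : ℕ} [hp : Fact p.Prime] {z n : G} {s t : ℕ} [hs : Fact s.Prime] [ht : Fact t.Prime]
  (C : Cfg p z s t n)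
include C

theorem exists_max_ge {X : Subgroup G} (hX : InT t z n X) :
    ∃ M : Subgroup G, X ≤ M ∧ Maximal (InT t z n) M :=
  (Set.toFinite {Y : Subgroup G | InT t z n Y}).exists_le_maximal hX

theorem ne_top_of_moved {X : Subgroup G} (hX : IsPGroup t ↥X) (hm : Moved z X) :
    normalizer (X : Set G) ≠ ⊤ := by
  refine normalizer_ne_top C.D.h (fun h => ?_)
    (normal_ne_top C.D.h (Coprime.isSolvable_of_isNilpotent' hX.isNilpotent))
  obtain ⟨x, hx, hxz⟩ := hm
  rw [h, mem_bot] at hx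
  subst hx
  exact hxz (Commute.one_right z)

/-- Two maximal members with a moved intersection are equal. -/
theorem eq_of_inter_moved : ∀ k : ℕ, ∀ T1 T2 : Subgroup G, Nat.card G - Nat.card ↥(T1 ⊓ T2) = k →
    Maximal (InT t z n) T1 → Maximal (InT t z n) T2 → Moved z (T1 ⊓ T2) → T1 = T2 := by
  intro k
  induction k using Nat.strong_induction_on with
  | _ k IH =>
  intro T1 T2 hk h1 h2 hm
  by_cases e1 : T1 ≤ T2
  · exact le_antisymm e1 (h1.2 h2.1 e1)
  by_cases e2 : T2 ≤ T1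
  · exact le_antisymm (h2.2 h1.1 e2) e2
  set D0 := T1 ⊓ T2 with hD
  have hDp : IsPGroup t ↥D0 := h1.1.pgroup.to_le inf_le_left
  set H := normalizer (D0 : Set G) with hH
  have hHtop : H ≠ ⊤ := C.ne_top_of_moved hDp hm
  have hzH : z ∈ H := Coprime.le_normalizer_inf (A := zpowers z) (zpowers_le.mpr h1.1.nz)
    (zpowers_le.mpr h2.1.nz) (mem_zpowers z)
  have hnH : n ∈ H := Coprime.le_normalizer_inf (A := zpowers n) (zpowers_le.mpr h1.1.nn)
    (zpowers_le.mpr h2.1.nn) (mem_zpowers n)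
  obtain ⟨V, hVp, hVn, hVX, -⟩ := C.exists_core hHtop hzH hnH
  obtain ⟨T3, hVT, h3⟩ := C.exists_max_ge ⟨hVp, hVn hzH, hVn hnH⟩
  have key : ∀ T : Subgroup G, Maximal (InT t z n) T → D0 < T → T = T3 := by
    intro T hT hlt
    have hlt' := lt_inf_normalizer hT.1.pgroup hlt
    have hle : T ⊓ H ≤ T ⊓ T3 :=
      le_inf inf_le_left ((hVX _ inf_le_right (hT.1.pgroup.to_le inf_le_left)).trans hVT)
    have hlt2 : D0 < T ⊓ T3 := lt_of_lt_of_le hlt' hle
    have h5 : Nat.card ↥D0 < Nat.card ↥(T ⊓ T3) := Set.Finite.card_lt_card (Set.toFinite _) hlt2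
    have h6 : Nat.card ↥(T ⊓ T3) ≤ Nat.card G := Nat.le_of_dvd Nat.card_pos (card_subgroup_dvd_card _)
    exact IH _ (by omega) T T3 rfl hT h3 (hm.mono hlt2.le)
  rw [key T1 h1 (lt_of_le_not_ge inf_le_left fun h => e1 (h.trans inf_le_right)),
    key T2 h2 (lt_of_le_not_ge inf_le_right fun h => e2 (h.trans inf_le_left))]

theorem coprime_n {X : Subgroup G} (hX : IsPGroup t ↥X) :
    (Nat.card ↥(zpowers n)).Coprime (Nat.card ↥X) := by
  obtain ⟨i, hi⟩ := IsPGroup.iff_card.mp C.mx.pel.isPGroup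
  obtain ⟨j, hj⟩ := IsPGroup.iff_card.mp hX
  rw [hi, hj]
  exact Nat.Coprime.pow i j ((Nat.coprime_primes hs.out ht.out).mpr C.s_ne_t)

theorem coprime_z {X : Subgroup G} (hX : IsPGroup t ↥X) :
    (Nat.card ↥(zpowers z)).Coprime (Nat.card ↥X) := by
  obtain ⟨j, hj⟩ := IsPGroup.iff_card.mp hX
  rw [Nat.card_zpowers, C.D.ord, hj]
  exact Nat.Coprime.pow_right j ((Nat.coprime_primes hp.out ht.out).mpr C.t_ne_p.symm)

/-- A moved member has an element fixed by `n` and moved by `z`. -/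
theorem exists_fixed_moved {T : Subgroup G} (hT : InT t z n T) (hm : Moved z T) :
    ∃ b ∈ T, Commute n b ∧ ¬ Commute z b := by
  set Z := zpowers z with hZdef
  set W0 := ⁅T, Z⁆ with hW0
  have hzT : Z ≤ normalizer (T : Set G) := zpowers_le.mpr hT.nz
  have hW0T : W0 ≤ T := Coprime.commutator_le_of_le_normalizer hzT
  have hW0p : IsPGroup t ↥W0 := hT.pgroup.to_le hW0T
  have hW0ne : W0 ≠ ⊥ := by
    intro h
    obtain ⟨x, hx, hxz⟩ := hm
    exact hxz (mem_centralizer_iff.mp (commutator_eq_bot_iff_le_centralizer.mp h hx) z (mem_zpowers z))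
  have hW0Z : ⁅W0, Z⁆ = W0 := Coprime.commutator_commutator_eq Z T hzT (C.coprime_z hT.pgroup)
    (Or.inl (isSolvable_zpowers z))
  set W1 := ⁅W0, W0⁆ with hW1
  have hW1le : W1 ≤ W0 := commutator_le_self W0
  have hW1lt : ¬ W0 ≤ W1 := by
    intro h
    haveI : Group.IsSolvable ↥W0 := Coprime.isSolvable_of_isNilpotent' hW0p.isNilpotent
    haveI : Nontrivial ↥W0 := (Subgroup.nontrivial_iff_ne_bot W0).mpr hW0ne
    have h2 := Group.IsSolvable.commutator_lt_top_of_nontrivial ↥W0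
    refine h2.ne (Subgroup.map_injective W0.subtype_injective ?_)
    rw [Subgroup.map_subtype_commutator, ← MonoidHom.range_eq_map, Subgroup.range_subtype]
    exact le_antisymm hW1le h
  have hnorm : ∀ g : G, g ∈ normalizer (T : Set G) → g ∈ Nz z →
      g ∈ normalizer (W0 : Set G) ⊓ normalizer (W1 : Set G) := by
    intro g hg hgz
    have h1 : W0.map (MulAut.conj g : G →* G) = W0 := by
      rw [hW0, map_commutator, Subgroup.mem_normalizer_iff_map_conj_eq.mp hg, hZdef,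
        Subgroup.mem_normalizer_iff_map_conj_eq.mp hgz]
    refine ⟨Subgroup.mem_normalizer_iff_map_conj_eq.mpr h1, ?_⟩
    show g ∈ normalizer (W1 : Set G)
    rw [Subgroup.mem_normalizer_iff_map_conj_eq, hW1, map_commutator]
    exact congrArg₂ _ h1 h1
  set M := normalizer (W0 : Set G) ⊓ normalizer (W1 : Set G) with hM
  have hzM : z ∈ M := hnorm z hT.nz (mem_Nz z)
  have hnM : n ∈ M := hnorm n hT.nn C.mx.mem
  have hW0M : W0 ≤ M := le_inf le_normalizer (Coprime.le_normalizer_of_conj_mem fun a ha x hx => by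
    have := mul_mem (Subgroup.commutator_mem_commutator ha (hW1le hx)) hx
    simpa [commutatorElement_def, hW1, mul_assoc] using this)
  have hW1M : W1 ≤ M := hW1le.trans hW0M
  set N1 := W1.subgroupOf M with hN1
  haveI : N1.Normal := normal_subgroupOf_of_le_normalizer inf_le_right
  set π := QuotientGroup.mk' N1 with hπ
  have hπ1 : ∀ x : ↥M, π x = 1 ↔ (x : G) ∈ W1 := fun x => by
    rw [hπ, QuotientGroup.mk'_apply, QuotientGroup.eq_one_iff]; exact mem_subgroupOf
  set Wb := (W0.subgroupOf M).map π with hWb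
  haveI : IsMulCommutative ↥Wb := by
    refine ⟨⟨fun a b => Subtype.ext ?_⟩⟩
    obtain ⟨a', ha', ha⟩ := a.2
    obtain ⟨b', hb', hb⟩ := b.2
    show (a : ↥M ⧸ N1) * b = b * a
    rw [← ha, ← hb, ← commutatorElement_eq_one_iff_mul_comm, ← map_commutatorElement, hπ1]
    exact Subgroup.commutator_mem_commutator (mem_subgroupOf.mp ha') (mem_subgroupOf.mp hb')
  set zb := π ⟨z, hzM⟩ with hzb
  set nb := π ⟨n, hnM⟩ with hnb
  have hZM : Z ≤ M := zpowers_le.mpr hzM
  have hnormb : ∀ g : ↥M, π g ∈ normalizer (Wb : Set (↥M ⧸ N1)) := fun g =>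
    Coprime.le_normalizer_of_conj_mem (A := (⊤ : Subgroup (↥M ⧸ N1))) (by
      intro a _ x hx
      obtain ⟨a', rfl⟩ := QuotientGroup.mk'_surjective N1 a
      obtain ⟨x', hx', rfl⟩ := hx
      refine ⟨a' * x' * a'⁻¹, ?_, by rw [map_mul, map_mul, map_inv]⟩
      exact mem_subgroupOf.mpr (show (a' : G) * x' * (a' : G)⁻¹ ∈ W0 from
        Coprime.conj_mem_of_mem_normalizer (show (a' : G) ∈ normalizer (W0 : Set G) from a'.2.1)
          (mem_subgroupOf.mp hx'))) (mem_top _)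
  have hZb : zpowers zb = (Z.subgroupOf M).map π := by
    have h : Z.subgroupOf M = zpowers (⟨z, hzM⟩ : ↥M) := by
      apply Subgroup.map_injective M.subtype_injective
      rw [map_subgroupOf_eq_of_le hZM, MonoidHom.map_zpowers]
      rfl
    rw [h, MonoidHom.map_zpowers]
  have hWbZ : ⁅Wb, zpowers zb⁆ = Wb := by
    rw [hZb, hWb, ← map_commutator]
    refine congrArg (Subgroup.map π) (Subgroup.map_injective M.subtype_injective ?_)
    rw [map_commutator, map_subgroupOf_eq_of_le hW0M, map_subgroupOf_eq_of_le hZM, hW0Z]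
  have hWbp : IsPGroup t ↥Wb :=
    (hW0p.of_equiv (subgroupOfEquivOfLe hW0M).symm).map π
  have hzp : zb ^ p = 1 := by
    rw [hzb, ← map_pow, show (⟨z, hzM⟩ : ↥M) ^ p = 1 from Subtype.ext C.D.pow_p, map_one]
  have hWc : (Nat.card ↥Wb).Coprime p := by
    obtain ⟨j, hj⟩ := IsPGroup.iff_card.mp hWbp
    rw [hj]; exact Nat.Coprime.pow_left j ((Nat.coprime_primes ht.out hp.out).mpr C.t_ne_p)
  have hfpf : ∀ x ∈ Wb, zb * x = x * zb → x = 1 := by
    intro x hx hxz
    have h := Coprime.commutator_inf_centralizer_eq_bot (zpowers zb) Wb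
      (zpowers_le.mpr (hnormb _)) (zpowers_coprime_of_pgroup (p := p) (isPGroup_zpowers (n := 1)
        (by rw [pow_one]; exact hzp)) hWc)
    rw [hWbZ] at h
    rw [← mem_bot, ← h]
    refine ⟨hx, mem_centralizer_iff.mpr fun b hb => ?_⟩
    obtain ⟨i, rfl⟩ := hb
    exact ((show Commute zb x from hxz).zpow_left i).eq
  set a := C.D.chNHom ⟨n, C.mx.mem⟩ with ha
  have hao : orderOf a = orderOf n := by rw [C.mx.orderOf_eq C.D, C.D.orderOf_chN C.mx.mem]
  have hrel : nb * zb = zb ^ (a : ZMod p).val * nb := by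
    rw [hnb, hzb, ← map_mul, ← map_pow, ← map_mul]
    refine congrArg π (Subtype.ext ?_)
    show n * z = z ^ (chN p z n).val * n
    exact mul_inv_eq_iff_eq_mul.mp (C.D.chN_spec C.mx.mem)
  have hne : nb ^ orderOf a = 1 := by
    rw [hao, hnb, ← map_pow, show (⟨n, hnM⟩ : ↥M) ^ orderOf n = 1 from
      Subtype.ext (pow_orderOf_eq_one n), map_one]
  have hWbne : Wb ≠ ⊥ := by
    intro h
    refine hW1lt fun x hx => ?_
    exact (hπ1 ⟨x, hW0M hx⟩).mp (mem_bot.mp (h ▸ mem_map_of_mem π (mem_subgroupOf.mpr hx)))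
  obtain ⟨c, hc, hc1, hcn⟩ :=
    exists_fixed_of_scale (hnormb _) (hnormb _) hzp hrel hfpf hne hWc hWbne
  obtain ⟨w, hw, rfl⟩ := hc
  have hfix : ∀ i : ℤ, (w : G)⁻¹ * (n ^ i * w * (n ^ i)⁻¹) ∈ W1 := by
    intro i
    refine (hπ1 (w⁻¹ * ((⟨n, hnM⟩ : ↥M) ^ i * w * ((⟨n, hnM⟩ : ↥M) ^ i)⁻¹))).mp ?_
    simp only [map_mul, map_inv, map_zpow, ← hnb]
    rw [((show Commute nb (π w) from hcn).zpow_left i).eq, mul_inv_cancel_right, inv_mul_cancel]
  obtain ⟨e, he, hwe⟩ := Coprime.exists_fixed_in_coset (zpowers n) W1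
    (zpowers_le.mpr hnM.2) (C.coprime_n (hW0p.to_le hW1le)) (Or.inl (isSolvable_zpowers n)) (w : G)
    (by rintro x ⟨i, rfl⟩; exact hfix i)
  refine ⟨w * e, mul_mem (hW0T (mem_subgroupOf.mp hw)) (hW0T (hW1le he)),
    mem_centralizer_iff.mp hwe n (mem_zpowers n), fun hcz => hc1 ?_⟩
  refine hfpf _ (mem_map_of_mem π hw) ?_
  have h1 : π ⟨(w : G) * e, mul_mem w.2 (hW1M he)⟩ = π w := by
    rw [show (⟨(w : G) * e, mul_mem w.2 (hW1M he)⟩ : ↥M) = w * ⟨e, hW1M he⟩ from rfl, map_mul,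
      (hπ1 ⟨e, hW1M he⟩).mpr he, mul_one]
  rw [← h1, hzb, ← map_mul, ← map_mul]
  exact congrArg π (Subtype.ext hcz.eq)

/-- All moved maximal members are equal. -/
theorem max_unique {T1 T2 : Subgroup G} (h1 : Maximal (InT t z n) T1) (m1 : Moved z T1)
    (h2 : Maximal (InT t z n) T2) (m2 : Moved z T2) : T1 = T2 := by
  obtain ⟨b, hb, hnb, hzb⟩ := C.exists_fixed_moved h1.1 m1
  obtain ⟨b', hb', hnb', hzb'⟩ := C.exists_fixed_moved h2.1 m2
  set n' := z * n * z⁻¹ with hn'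
  set b'' := z * b' * z⁻¹ with hb''
  set H := closure ({n * b, n' * b''} : Set G) with hHdef
  have hH : H ≠ ⊤ := C.D.h.pairs _ _
  have hcopel : ∀ {x y : G}, IsPEl s x → IsPEl t y → (orderOf x).Coprime (orderOf y) := by
    intro x y ⟨i, hi⟩ ⟨j, hj⟩
    exact ((Nat.Coprime.pow i j ((Nat.coprime_primes hs.out ht.out).mpr C.s_ne_t)).coprime_dvd_left
      (orderOf_dvd_of_pow_eq_one hi)).coprime_dvd_right (orderOf_dvd_of_pow_eq_one hj)
  have hbe : IsPEl t b := IsPEl.of_mem h1.1.pgroup hb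
  have hb'e : IsPEl t b' := IsPEl.of_mem h2.1.pgroup hb'
  obtain ⟨i1, i2⟩ := mem_zpowers_mul hnb (hcopel C.mx.pel hbe)
  obtain ⟨j1, j2⟩ := mem_zpowers_mul (a := n') (b := b'') (hnb'.map (MulAut.conj z).toMonoidHom)
    (hcopel (C.mx.pel.conj z) (hb'e.conj z))
  have hl1 : zpowers (n * b) ≤ H := zpowers_le.mpr (subset_closure (by simp))
  have hl2 : zpowers (n' * b'') ≤ H := zpowers_le.mpr (subset_closure (by simp))
  have hzH : z ∈ H := by
    set d := n' * n⁻¹ with hd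
    have hdz : d ∈ zpowers z := by
      rw [hd, hn', show z * n * z⁻¹ * n⁻¹ = z * (n * z⁻¹ * n⁻¹) by group]
      exact mul_mem (mem_zpowers z)
        (Coprime.conj_mem_of_mem_normalizer C.mx.mem (inv_mem (mem_zpowers z)))
    have hd1 : d ≠ 1 := by
      intro h
      have hzn : z * n = n * z := by
        rw [hd, hn', mul_inv_eq_one, mul_inv_eq_iff_eq_mul] at h
        exact h
      exact C.mx.ne (C.D.chN_of_commute (show Commute n z from hzn.symm)).2
    have heq : zpowers d = zpowers z := by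
      refine eq_of_le_of_card_ge (zpowers_le.mpr hdz) ?_
      rw [Nat.card_zpowers, Nat.card_zpowers, C.D.ord]
      obtain ⟨i, hi⟩ := mem_zpowers_iff.mp hdz
      exact (orderOf_eq_prime (by
        rw [← hi, ← zpow_natCast, ← zpow_mul, mul_comm, zpow_mul, zpow_natCast, C.D.pow_p, one_zpow])
        hd1).ge
    have : zpowers d ≤ H := zpowers_le.mpr (mul_mem (hl2 j1) (inv_mem (hl1 i1)))
    exact this (heq ▸ mem_zpowers z)
  have hb'H : b' ∈ H := by
    have h := mul_mem (mul_mem (inv_mem hzH) (hl2 j2)) hzH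
    rwa [hb'', show z⁻¹ * (z * b' * z⁻¹) * z = b' by group] at h
  obtain ⟨V, hVp, hVn, hVX, -⟩ := C.exists_core hH hzH (hl1 i1)
  obtain ⟨T3, hVT, h3⟩ := C.exists_max_ge ⟨hVp, hVn hzH, hVn (hl1 i1)⟩
  have hin : ∀ x ∈ H, IsPEl t x → x ∈ T3 := fun x hx hxe =>
    hVT (hVX _ (zpowers_le.mpr hx) hxe.isPGroup (mem_zpowers x))
  rw [C.eq_of_inter_moved _ T1 T3 rfl h1 h3 ⟨b, ⟨hb, hin b (hl1 i2) hbe⟩, hzb⟩,
    C.eq_of_inter_moved _ T2 T3 rfl h2 h3 ⟨b', ⟨hb', hin b' hb'H hb'e⟩, hzb'⟩]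

/-- The contradiction. -/
theorem false : False := by
  have D := C.D
  have hcase : ∀ u : G, Mov p z u → u ≠ 1 →
      ∃ T, Maximal (InT t z n) T ∧ Moved z T ∧ u ∈ T := by
    intro u hu hu1
    obtain ⟨L, hL, hzL, hnL, -, huK⟩ := D.line' C.mx.mem hu
    obtain ⟨V, hVp, hVn, hVX, hVK⟩ := C.exists_core hL hzL hnL
    obtain ⟨T, hVT, hT⟩ := C.exists_max_ge ⟨hVp, hVn hzL, hVn hnL⟩
    refine ⟨T, hT, Moved.mono ?_ hVT, hVT (hVK huK)⟩
    by_contra hnm
    refine hu1 ?_
    have hle : ⁅OP p L, zpowers z⁆ ≤ centralizer ((zpowers z : Subgroup G) : Set G) := by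
      refine hVK.trans fun x hx => mem_centralizer_iff.mpr fun b hb => ?_
      obtain ⟨i, rfl⟩ := hb
      by_contra hc
      exact hnm ⟨x, hx, fun hcx => hc (hcx.zpow_left i).eq⟩
    have h2 := commutator_eq_bot_iff_le_centralizer.mpr hle
    rw [Coprime.commutator_commutator_eq (zpowers z) (OP p L)
      (zpowers_le.mpr (le_normalizer_OP p L hzL))
      (zpowers_coprime_of_pgroup (isPGroup_zpowers (n := 1) (by rw [pow_one]; exact D.pow_p))
        (OP_coprime p L)) (Or.inl (isSolvable_zpowers z))] at h2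
    rw [h2, mem_bot] at huK
    exact huK
  obtain ⟨u0, hu0, hu0ne⟩ := D.exists_mov
  obtain ⟨T0, hT0, hm0, -⟩ := hcase u0 hu0 hu0ne
  refine C.ne_top_of_moved hT0.1.pgroup hm0 (conjugates_generate D.h D.ne_one fun g => ?_)
  obtain ⟨c, u, hg, hc, hu⟩ := D.dec g⁻¹
  have huN : u ∈ normalizer (T0 : Set G) := by
    by_cases hu1 : u = 1
    · rw [hu1]; exact one_mem _
    obtain ⟨T, hT, hm, huT⟩ := hcase u hu hu1
    rw [C.max_unique hT hm hT0 hm0] at huT
    exact le_normalizer huT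
  have hcz : c⁻¹ * z * c ∈ zpowers z := Coprime.conj_mem_of_mem_normalizer' hc (mem_zpowers z)
  rw [show g = u⁻¹ * c⁻¹ by rw [← mul_inv_rev, ← hg, inv_inv]]
  rw [show u⁻¹ * c⁻¹ * z * (u⁻¹ * c⁻¹)⁻¹ = u⁻¹ * (c⁻¹ * z * c) * u by group]
  exact mul_mem (mul_mem (inv_mem huN) ((zpowers_le.mpr hT0.1.nz) hcz)) huN

end Cfg

/-- No minimal simple group with all pairs generating proper subgroups has only cyclic Sylow
subgroups for the primes at least five. -/
theorem cyclic_false {G : Type u} [Group G] [Finite G] (h : Ctx G) (hc : Cyc G) : False := by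
  haveI := h.simple
  have hcard : 1 < Nat.card G := Finite.one_lt_card
  have hne : (Nat.card G).primeFactors.Nonempty := by
    rw [Nat.nonempty_primeFactors]; exact hcard
  set p := (Nat.card G).primeFactors.max' hne with hpdef
  have hpmem := Finset.max'_mem _ hne
  haveI hp : Fact p.Prime := ⟨Nat.prime_of_mem_primeFactors hpmem⟩
  have htop : ∀ r : ℕ, r.Prime → r ∣ Nat.card G → r ≤ p := fun r hr hd =>
    Finset.le_max' _ _ (Nat.mem_primeFactors.mpr ⟨hr, hd, Nat.card_pos.ne'⟩)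
  have h5 : 5 ≤ p := by
    by_contra h5
    obtain ⟨a, m, hm2, ha⟩ := Nat.exists_eq_pow_mul_and_not_dvd (Nat.card_pos (α := G)).ne' 2 (by norm_num)
    obtain ⟨b, m', hm3, hb⟩ := Nat.exists_eq_pow_mul_and_not_dvd (n := m)
      (fun h => hm2 (h ▸ dvd_zero 2)) 3 (by norm_num)
    have hm' : m' = 1 := by
      by_contra hne1
      obtain ⟨r, hr, hrd⟩ := Nat.exists_prime_and_dvd hne1
      have hrG : r ∣ Nat.card G := by rw [ha, hb]; exact hrd.trans ⟨2 ^ a * 3 ^ b, by ring⟩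
      have := htop r hr hrG
      have hr5 : r < 5 := by omega
      have := hr.two_le
      interval_cases r
      · exact hm2 (hb ▸ hrd.trans ⟨3 ^ b, by ring⟩)
      · exact hm3 hrd
      · exact absurd hr (by decide)
    exact h.nonsolv (CharCore.isSolvable_of_card_eq_prime_pow_mul Nat.prime_two Nat.prime_three
      (Nat.card G) G a b rfl (by rw [ha, hb, hm', mul_one]))
  obtain ⟨z, hz⟩ := exists_prime_orderOf_dvd_card' p (Nat.dvd_of_mem_primeFactors hpmem)
  have D : Dat p z := ⟨h, hc, h5, hz⟩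
  obtain ⟨n1, hn1, hgen⟩ := D.exists_gen
  obtain ⟨m, hm, hmne⟩ := D.exists_chi_ne_one
  have h1 : orderOf (chN p z n1) ≠ 1 := by
    intro h1
    obtain ⟨j, hj⟩ := hgen m hm
    exact hmne (hj.trans (by rw [orderOf_eq_one_iff.mp h1, one_pow]))
  obtain ⟨s, hs, hsd⟩ := Nat.exists_prime_and_dvd h1
  haveI := Fact.mk hs
  obtain ⟨n, hnz, hn⟩ := D.exists_max hn1 hgen hsd
  have hs5 : s < 5 := by
    by_contra hs5
    exact hn.ne (D.chN_eq_one_of_five_le (by omega) hn.mem hn.pel)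
  obtain ⟨t, ht, hst⟩ : ∃ t : ℕ, t.Prime ∧ ((s = 2 ∧ t = 3) ∨ (s = 3 ∧ t = 2)) := by
    have := hs.two_le
    interval_cases s
    · exact ⟨3, Nat.prime_three, Or.inl ⟨rfl, rfl⟩⟩
    · exact ⟨2, Nat.prime_two, Or.inr ⟨rfl, rfl⟩⟩
    · exact absurd hs (by decide)
  haveI := Fact.mk ht
  refine Cfg.false (n := n) (s := s) (t := t) ⟨D, htop, hst, hn, fun m hm htd => ?_⟩
  obtain ⟨j, hj⟩ := hgen m hm
  obtain ⟨n', hn'z, hn'⟩ := D.exists_max hn1 hgen (htd.trans (hj ▸ orderOf_pow_dvd j))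
  obtain ⟨u, hu, hu1⟩ := D.exists_mov
  obtain ⟨L, hL, hzL, hn1L, -, huK⟩ := D.line' hn1 hu
  have hle : zpowers n1 ≤ L := zpowers_le.mpr hn1L
  have hcen := D.le_centralizer_of_small htop (le_normalizer_OP p L hzL) (OP_coprime p L)
    fun r hr hr5 hrd => by
      exfalso
      have hrst : r = s ∨ r = t := by
        have := hr.two_le
        interval_cases r
        · omega
        · omega
        · exact absurd hr (by decide)
      rcases hrst with rfl | rfl
      · exact hn.not_dvd D hL hzL (hle hnz) hrd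
      · exact hn'.not_dvd D hL hzL (hle hn'z) hrd
  rw [D.commutator_eq_bot_of_central hcen, mem_bot] at huK
  exact hu1 huK

end Cfsg.Agent.TwoGen81
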