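import Cfsg.Agent.TwoGen81.CycBig

/-!
Elements of order `p` centralise groups with cyclic Sylow subgroups for smaller primes.
-/

set_option autoImplicit false
set_option linter.all false

open Subgroup
open scoped commutatorElement Pointwise

namespace Cfsg.Agent.TwoGen81

theorem IsPEl.dvd_orderOf {H : Type*} [Monoid H] {s : ℕ} [hs : Fact s.Prime] {x : H}
    (h : ∃ k : ℕ, x ^ s ^ k = 1) (hx : x ≠ 1) : s ∣ orderOf x := by
  obtain ⟨k, hk⟩ := h
  obtain ⟨j, -, hj⟩ := (Nat.dvd_prime_pow hs.out).mp (orderOf_dvd_of_pow_eq_one hk)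
  rcases Nat.eq_zero_or_pos j with rfl | hjpos
  · rw [pow_zero, orderOf_eq_one_iff] at hj; exact absurd hj hx
  · rw [hj]; exact dvd_pow_self s (by omega)

/-- A subgroup containing a Sylow subgroup for every prime is everything. -/
theorem eq_top_of_sylows {H : Type*} [Group H] [Finite H] (M : Subgroup H)
    (h : ∀ r : ℕ, r.Prime → r ∣ Nat.card H → ∃ R : Sylow r H, (R : Subgroup H) ≤ M) : M = ⊤ := by
  rw [← index_eq_one]
  by_contra hne
  obtain ⟨r, hr, hdvd⟩ := Nat.exists_prime_and_dvd hne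
  haveI := Fact.mk hr
  obtain ⟨R, hR⟩ := h r hr (hdvd.trans M.index_dvd_card)
  exact R.not_dvd_index (hdvd.trans (index_dvd_of_le hR))

variable {G : Type*} [Group G] [Finite G] {p : ℕ} [hp : Fact p.Prime] {z : G}

namespace Dat

variable (D : Dat p z)
include D

theorem eq_one_or_ord {x : G} {r : ℕ} [Fact r.Prime] (hx : x ^ r = 1) (hne : x ≠ 1) :
    orderOf x = r := orderOf_eq_prime hx hne

/-- `z` centralises a normalised subgroup of prime order `r`, `5 ≤ r < p`. -/
theorem commute_small {r : ℕ} [hr : Fact r.Prime] (h5 : 5 ≤ r) (hrp : r < p) {y : G}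
    (hy : orderOf y = r) (hz : z ∈ Nz y) : Commute z y := by
  have D' : Dat r y := ⟨D.h, D.cyc, h5, hy⟩
  refine D'.commute_of_chN_one hz ?_
  have h1 : orderOf (chN r y z) ∣ p := by
    refine orderOf_dvd_of_pow_eq_one ?_
    rw [← D'.chN_pow hz, D.pow_p]; exact D'.chi_one D'.ne_top_N (mem_Nz y)
  have h2 : orderOf (chN r y z) ∣ r - 1 := by
    rw [D'.orderOf_chN hz]
    exact orderOf_dvd_of_pow_eq_one (ZMod.units_pow_card_sub_one_eq_one r _)
  rcases (Nat.dvd_prime hp.out).mp h1 with h | h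
  · exact orderOf_eq_one_iff.mp h
  · rw [h] at h2
    have := Nat.le_of_dvd (by omega) h2
    omega

/-- `z` centralises a normalised `r`-subgroup, `5 ≤ r < p`. -/
theorem commute_small_group {r : ℕ} [hr : Fact r.Prime] (h5 : 5 ≤ r) (hrp : r < p)
    {R : Subgroup G} (hR : IsPGroup r ↥R) (hz : z ∈ normalizer (R : Set G)) :
    ∀ x ∈ R, z * x = x * z := by
  obtain ⟨S, hRS⟩ := IsPGroup.exists_le_sylow hR
  haveI := D.cyc r hr.out h5 S
  have hcomm : ∀ a ∈ R, ∀ b ∈ R, a * b = b * a := fun a ha b hb =>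
    congrArg Subtype.val (mul_comm' (⟨a, hRS ha⟩ : ↥(S : Subgroup G)) ⟨b, hRS hb⟩)
  haveI : IsCyclic ↥R :=
    isCyclic_of_injective (Subgroup.inclusion hRS) (Subgroup.inclusion_injective _)
  have hzr : (orderOf z).Coprime r := by
    rw [D.ord]; exact (Nat.coprime_primes hp.out hr.out).mpr hrp.ne'
  refine centralises_of_omega hR hcomm hz hzr fun x hx hxr => ?_
  by_cases hx1 : x = 1
  · rw [hx1, mul_one, one_mul]
  have hxo : orderOf x = r := orderOf_eq_prime hxr hx1
  refine (D.commute_small h5 hrp hxo (mem_normalizer_zpowers ?_)).eq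
  exact mem_zpowers_of_cyclic hx hxo (Coprime.conj_mem_of_mem_normalizer hz hx)
    (by rw [conj_pow, hxr, mul_one, mul_inv_cancel])

/-- An invariant Sylow subgroup for a prime `r` with `5 ≤ r` is centralised. -/
theorem exists_sylow_centralised (htop : ∀ r : ℕ, r.Prime → r ∣ Nat.card G → r ≤ p) {K : Subgroup G}
    (hzK : z ∈ normalizer (K : Set G)) (hK : (Nat.card ↥K).Coprime p) {r : ℕ} [hr : Fact r.Prime]
    (h5 : 5 ≤ r) (hrd : r ∣ Nat.card ↥K) :
    ∃ R : Sylow r ↥K, ∀ x ∈ (R : Subgroup ↥K), z * (x : G) = x * z := by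
  obtain ⟨R, hR⟩ := Coprime.exists_invariant_sylow (zpowers z) K (zpowers_le.mpr hzK)
    (zpowers_coprime_of_pgroup (isPGroup_zpowers (n := 1) (by rw [pow_one]; exact D.pow_p)) hK)
    (Or.inl (isSolvable_zpowers z)) r
  have hrp : r < p := by
    refine lt_of_le_of_ne (htop r hr.out (hrd.trans (card_subgroup_dvd_card K))) ?_
    rintro rfl
    exact hr.out.coprime_iff_not_dvd.mp hK.symm hrd
  exact ⟨R, fun x hx => D.commute_small_group h5 hrp (R.isPGroup'.map _) (hR (mem_zpowers z)) x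
    ⟨x, hx, rfl⟩⟩

/-- A normalised `p'`-subgroup is centralised once its Sylow subgroups for `2` and `3` are. -/
theorem le_centralizer_of_small (htop : ∀ r : ℕ, r.Prime → r ∣ Nat.card G → r ≤ p) {K : Subgroup G}
    (hzK : z ∈ normalizer (K : Set G)) (hK : (Nat.card ↥K).Coprime p)
    (hsmall : ∀ r : ℕ, r.Prime → r < 5 → r ∣ Nat.card ↥K →
      ∃ R : Sylow r ↥K, ∀ x ∈ (R : Subgroup ↥K), z * (x : G) = x * z) :
    K ≤ centralizer ((zpowers z : Subgroup G) : Set G) := by
  set M := (centralizer ((zpowers z : Subgroup G) : Set G)).subgroupOf K with hM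
  have hmem : ∀ x : ↥K, z * (x : G) = x * z → x ∈ M := fun x hx => by
    refine mem_subgroupOf.mpr (mem_centralizer_iff.mpr fun b hb => ?_)
    obtain ⟨i, rfl⟩ := hb
    exact ((show Commute z (x : G) from hx).zpow_left i).eq
  have h := eq_top_of_sylows M fun r hr hrd => by
    haveI := Fact.mk hr
    by_cases h5 : 5 ≤ r
    · obtain ⟨R, hR⟩ := D.exists_sylow_centralised htop hzK hK h5 hrd
      exact ⟨R, fun x hx => hmem x (hR x hx)⟩
    · obtain ⟨R, hR⟩ := hsmall r hr (by omega) hrd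
      exact ⟨R, fun x hx => hmem x (hR x hx)⟩
  exact subgroupOf_eq_top.mp h

theorem commutator_eq_bot_of_central {K : Subgroup G}
    (hK : K ≤ centralizer ((zpowers z : Subgroup G) : Set G)) : ⁅K, zpowers z⁆ = ⊥ :=
  commutator_eq_bot_iff_le_centralizer.mpr hK

/-- There is a nontrivial displacement. -/
theorem exists_mov : ∃ u : G, Mov p z u ∧ u ≠ 1 := by
  by_contra hcon
  push Not at hcon
  refine D.ne_top_N (eq_top_iff.mpr fun g _ => ?_)
  obtain ⟨c, u, rfl, hc, hu⟩ := D.dec g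
  rw [hcon u hu, mul_one]
  exact hc

/-- A moved `t`-subgroup yields a displacement of `t`-power order. -/
theorem exists_mov_of_moved {t : ℕ} [Fact t.Prime] (htp : t ≠ p) {T : Subgroup G}
    (hT : IsPGroup t ↥T) (hzT : z ∈ normalizer (T : Set G)) {x : G} (hx : x ∈ T)
    (hxz : ¬ Commute z x) : ∃ u : G, Mov p z u ∧ u ≠ 1 ∧ IsPEl t u := by
  have hTc : (Nat.card ↥T).Coprime p := by
    obtain ⟨j, hj⟩ := IsPGroup.iff_card.mp hT
    rw [hj]
    exact Nat.Coprime.pow_left j ((Nat.coprime_primes (Fact.out) hp.out).mpr htp)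
  obtain ⟨c, u, hxcu, -, -, hu, hconj⟩ :=
    exists_split (f := z) (k := 1) (by rw [pow_one]; exact D.pow_p) hTc hzT hx
  set U := T ⊓ closure ({z, x⁻¹ * z * x} : Set G) with hU
  have hzU : z ∈ normalizer (U : Set G) :=
    Coprime.le_normalizer_inf (A := zpowers z) (zpowers_le.mpr hzT)
      ((zpowers_le.mpr (subset_closure (by simp)) : zpowers z ≤
        closure ({z, x⁻¹ * z * x} : Set G)).trans le_normalizer) (mem_zpowers z)
  refine ⟨u, ⟨U, hTc.coprime_dvd_left (card_dvd_of_le inf_le_left), hzU, hu, ?_⟩, ?_, ?_⟩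
  · rw [hconj]; exact inf_le_right
  · rintro rfl
    refine hxz ?_
    rw [inv_one, one_mul, mul_one] at hconj
    have := congrArg (fun w => x * w) hconj
    simpa [mul_assoc, Commute, SemiconjBy] using this.symm
  · exact IsPEl.of_mem hT (Coprime.commutator_le_of_le_normalizer (zpowers_le.mpr hzU) hu).1

end Dat

end Cfsg.Agent.TwoGen81
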